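import Mathlib.RingTheory.DedekindDomain.AdicValuation
import Mathlib.RingTheory.DedekindDomain.FiniteAdeleRing
import Mathlib.NumberTheory.NumberField.Completion.InfinitePlace
import Mathlib.NumberTheory.NumberField.Basic
import Mathlib.Data.Fintype.Pigeonhole

/-! # Strong approximation for number fields off a finite place -/

set_option autoImplicit false

universe u v

open IsDedekindDomain NumberField WithZero

namespace Groth.Agent.H23Strong

section Finite

variable {R : Type u} [CommRing R] [IsDedekindDomain R] {K : Type v} [Field K] [Algebra R K] [IsFractionRing R K]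

theorem intValuation_eq_exp (P : HeightOneSpectrum R) {x : R} (hx : x ≠ 0) :
    ∃ N : ℕ, P.intValuation x = exp (-(N : ℤ)) := ⟨_, P.intValuation_if_neg hx⟩

/-- Approximation at finitely many primes by an element integral elsewhere. -/
theorem exists_finite_approx (T : Finset (HeightOneSpectrum R)) (a : HeightOneSpectrum R → K)
    (e : HeightOneSpectrum R → ℕ) :
    ∃ c : K, (∀ P ∈ T, P.valuation K (c - a P) ≤ exp (-(e P : ℤ))) ∧ ∀ P ∉ T, P.valuation K c ≤ 1 := by
  classical
  choose n d hd hnd using fun P => IsFractionRing.div_surjective R (a P)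
  let D := ∏ P ∈ T, d P
  have hD : D ≠ 0 := Finset.prod_ne_zero_iff.mpr fun P _ => nonZeroDivisors.ne_zero (hd P)
  have hDK : algebraMap R K D ≠ 0 := fun h => hD (IsFractionRing.injective R K (h.trans (map_zero _).symm))
  let n' : HeightOneSpectrum R → R := fun P => if P ∈ T then n P * ∏ Q ∈ T.erase P, d Q else 0
  have hn' : ∀ P ∈ T, algebraMap R K (n' P) = a P * algebraMap R K D := fun P hP => by
    have hdK : algebraMap R K (d P) ≠ 0 := IsFractionRing.to_map_ne_zero_of_mem_nonZeroDivisors (hd P)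
    simp only [n', if_pos hP, D]
    rw [← Finset.mul_prod_erase T d hP, map_mul, map_mul, ← hnd P, ← mul_assoc, div_mul_cancel₀ _ hdK]
  choose N hN using fun P : HeightOneSpectrum R => intValuation_eq_exp P hD
  have hfin : {P : HeightOneSpectrum R | P.asIdeal ∣ Ideal.span {D}}.Finite :=
    Ideal.finite_factors (by simpa only [Submodule.zero_eq_bot, ne_eq, Ideal.span_singleton_eq_bot] using hD)
  let T' := T ∪ hfin.toFinset
  let ex : HeightOneSpectrum R → ℕ := fun P => if P ∈ T then e P + N P else N P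
  obtain ⟨u, hu⟩ := IsDedekindDomain.exists_forall_sub_mem_ideal (s := T') (fun P => P.asIdeal) ex
    (fun P _ => P.prime) (fun P _ Q _ h h' => h (HeightOneSpectrum.ext h')) fun P => n' P.1
  have hu' : ∀ P ∈ T', P.intValuation (u - n' P) ≤ exp (-(ex P : ℤ)) := fun P hP =>
    (P.intValuation_le_pow_iff_mem _ _).mpr (hu P hP)
  have hval : ∀ (P : HeightOneSpectrum R) (r : R) (m : ℤ), P.intValuation r ≤ exp m →
      P.valuation K (algebraMap R K r / algebraMap R K D) ≤ exp (m + N P) := fun P r m hr => by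
    rw [map_div₀, P.valuation_of_algebraMap, P.valuation_of_algebraMap, hN P]
    refine (div_le_iff₀ exp_pos).mpr ?_
    rwa [← exp_add, add_neg_cancel_right]
  refine ⟨algebraMap R K u / algebraMap R K D, fun P hP => ?_, fun P hP => ?_⟩
  · have h1 := hval P _ _ (hu' P (Finset.mem_union_left _ hP))
    rw [map_sub, hn' P hP, sub_div, mul_div_cancel_right₀ _ hDK] at h1
    refine h1.trans (exp_le_exp.mpr ?_)
    simp only [ex, if_pos hP]
    push_cast
    omega
  · by_cases hP' : P ∈ T'
    · have h1 := hu' P hP'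
      simp only [ex, n', if_neg hP, sub_zero] at h1
      refine (hval P _ _ h1).trans ?_
      rw [neg_add_cancel, exp_zero]
    · have hD1 : P.intValuation D = 1 := by
        refine le_antisymm (P.intValuation_le_one D) (not_lt.mp fun h => hP' (Finset.mem_union_right _ ?_))
        rw [Set.Finite.mem_toFinset]
        exact (P.intValuation_lt_one_iff_dvd D).mp h
      rw [map_div₀, P.valuation_of_algebraMap, P.valuation_of_algebraMap, hD1, div_one]
      exact P.intValuation_le_one u

theorem exists_small_at (T : Finset (HeightOneSpectrum R)) (e : HeightOneSpectrum R → ℕ) :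
    ∃ M : R, M ≠ 0 ∧ ∀ P ∈ T, P.intValuation M ≤ exp (-(e P : ℤ)) := by
  classical
  have hex : ∀ P : HeightOneSpectrum R, ∃ r : R, r ≠ 0 ∧ P.intValuation r = exp (-1 : ℤ) := fun P => by
    obtain ⟨r, hr⟩ := P.intValuation_exists_uniformizer
    exact ⟨r, fun h => exp_ne_zero (hr.symm.trans (h ▸ map_zero _)), hr⟩
  choose r hr0 hr using hex
  refine ⟨∏ P ∈ T, r P ^ e P, Finset.prod_ne_zero_iff.mpr fun P _ => pow_ne_zero _ (hr0 P), fun P hP => ?_⟩
  rw [← Finset.mul_prod_erase T _ hP, map_mul, map_pow, hr, ← exp_nsmul]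
  refine (mul_le_of_le_one_right zero_le (P.intValuation_le_one _)).trans ?_
  simp

end Finite

variable (k : Type u) [Field k] [NumberField k]

theorem infinitePlace_ratCast_mul (w : InfinitePlace k) (q : ℚ) (x : k) :
    w ((q : k) * x) = |(q : ℝ)| * w x := by
  rw [map_mul, ← InfinitePlace.norm_embedding_eq w (q : k), map_ratCast, Complex.norm_ratCast]

theorem exists_coords (y : k) :
    y = ∑ i, ((integralBasis k).repr y i : k) * integralBasis k i := by
  conv_lhs => rw [← (integralBasis k).sum_repr y]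
  simp [Rat.smul_def]

theorem valuation_int_comb (P : HeightOneSpectrum (RingOfIntegers k))
    (z : Module.Free.ChooseBasisIndex ℤ (RingOfIntegers k) → ℤ) :
    P.valuation k (∑ i, (z i : k) * integralBasis k i) ≤ 1 := by
  have : ∑ i, (z i : k) * integralBasis k i =
      algebraMap (RingOfIntegers k) k (∑ i, (z i : RingOfIntegers k) * RingOfIntegers.basis k i) := by
    simp
  rw [this]
  exact P.valuation_le_one _

/-- Bound of the archimedean absolute values of the integral basis. -/
noncomputable def basisBound : ℝ := ∑ w : InfinitePlace k, ∑ i, w (integralBasis k i)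

theorem basisBound_nonneg : 0 ≤ basisBound k :=
  Finset.sum_nonneg fun w _ => Finset.sum_nonneg fun i _ => apply_nonneg w _

theorem place_comb_le (w : InfinitePlace k) (q : Module.Free.ChooseBasisIndex ℤ (RingOfIntegers k) → ℚ) (δ : ℝ)
    (hq : ∀ i, |(q i : ℝ)| ≤ δ) (hδ : 0 ≤ δ) : w (∑ i, (q i : k) * integralBasis k i) ≤ δ * basisBound k := by
  calc w (∑ i, (q i : k) * integralBasis k i) ≤ ∑ i, w ((q i : k) * integralBasis k i) := w.1.sum_le _ _
    _ ≤ ∑ i, δ * w (integralBasis k i) := Finset.sum_le_sum fun i _ => by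
        rw [infinitePlace_ratCast_mul]
        exact mul_le_mul_of_nonneg_right (hq i) (apply_nonneg w _)
    _ = δ * ∑ i, w (integralBasis k i) := (Finset.mul_sum _ _ δ).symm
    _ ≤ δ * basisBound k := mul_le_mul_of_nonneg_left
        (Finset.single_le_sum (f := fun w : InfinitePlace k => ∑ i, w (integralBasis k i))
          (fun w _ => Finset.sum_nonneg fun i _ => apply_nonneg w _) (Finset.mem_univ w)) hδ

variable {k}

/-- Small elements with poles only at one place. -/
theorem exists_small (v₀ : HeightOneSpectrum (RingOfIntegers k)) {M : RingOfIntegers k} (hM : M ≠ 0) {ε : ℝ}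
    (hε : 0 < ε) :
    ∃ g : k, g ≠ 0 ∧ (∀ P : HeightOneSpectrum (RingOfIntegers k), P ≠ v₀ → P.valuation k g ≤ P.intValuation M) ∧
      ∀ w : InfinitePlace k, w g < ε := by
  classical
  obtain ⟨π, hπ⟩ := v₀.valuation_exists_uniformizer k
  have hz : ∀ j : ℕ, ∃ z : k, v₀.valuation k z = exp ((j : ℤ) + 1) ∧
      ∀ P : HeightOneSpectrum (RingOfIntegers k), P ≠ v₀ → P.valuation k z ≤ 1 := fun j => by
    obtain ⟨c, hc, hc'⟩ := exists_finite_approx (K := k) {v₀} (fun _ => (π⁻¹) ^ (j + 1)) (fun _ => 0)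
    refine ⟨c, ?_, fun P hP => hc' P (by simpa using hP)⟩
    have h1 : v₀.valuation k ((π⁻¹) ^ (j + 1)) = exp ((j : ℤ) + 1) := by
      rw [map_pow, map_inv₀, hπ, ← exp_neg, ← exp_nsmul]
      simp
    have h2 : v₀.valuation k (c - (π⁻¹) ^ (j + 1)) < v₀.valuation k ((π⁻¹) ^ (j + 1)) := by
      refine lt_of_le_of_lt (hc v₀ (Finset.mem_singleton_self _)) ?_
      rw [h1, exp_lt_exp]
      omega
    rw [← h1, ← Valuation.map_add_eq_of_lt_left _ h2, add_sub_cancel]
  choose z hz0 hz1 using hz
  let W : ℝ := ∑ w : InfinitePlace k, w (algebraMap (RingOfIntegers k) k M)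
  have hW : ∀ w : InfinitePlace k, w (algebraMap (RingOfIntegers k) k M) ≤ W := fun w =>
    Finset.single_le_sum (f := fun w : InfinitePlace k => w (algebraMap (RingOfIntegers k) k M))
      (fun w _ => apply_nonneg w _) (Finset.mem_univ w)
  obtain ⟨B, hB⟩ := exists_nat_gt ((W * basisBound k) / ε)
  have hW0 : 0 ≤ W := Finset.sum_nonneg fun w _ => apply_nonneg w _
  have hB0 : (0 : ℝ) < B := lt_of_le_of_lt (div_nonneg (mul_nonneg hW0 (basisBound_nonneg k)) hε.le) hB
  let q : ℕ → Module.Free.ChooseBasisIndex ℤ (RingOfIntegers k) → ℚ := fun j i => (integralBasis k).repr (z j) i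
  let cls : ℕ → Module.Free.ChooseBasisIndex ℤ (RingOfIntegers k) → Fin B := fun j i =>
    ⟨⌊(B : ℚ) * Int.fract (q j i)⌋.toNat, by
      have hBn : 0 < B := by exact_mod_cast hB0
      have h1 : (B : ℚ) * Int.fract (q j i) < B :=
        mul_lt_of_lt_one_right (by exact_mod_cast hBn) (Int.fract_lt_one _)
      have h2 : ⌊(B : ℚ) * Int.fract (q j i)⌋ < (B : ℤ) := Int.floor_lt.mpr (by exact_mod_cast h1)
      omega⟩
  obtain ⟨i, j, hij, hcls⟩ := Finite.exists_ne_map_eq_of_infinite cls
  let r : Module.Free.ChooseBasisIndex ℤ (RingOfIntegers k) → ℚ := fun l => Int.fract (q i l) - Int.fract (q j l)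
  let Δ : k := ∑ l, (r l : k) * integralBasis k l
  have hΔ : Δ = (z i - z j) - ∑ l, ((⌊q i l⌋ - ⌊q j l⌋ : ℤ) : k) * integralBasis k l := by
    rw [exists_coords k (z i), exists_coords k (z j), ← Finset.sum_sub_distrib, ← Finset.sum_sub_distrib]
    refine Finset.sum_congr rfl fun l _ => ?_
    simp only [r, q, Int.fract]
    push_cast
    ring
  have hv : v₀.valuation k Δ = exp ((max i j : ℕ) + 1 : ℤ) := by
    have h1 : v₀.valuation k (z i - z j) = exp ((max i j : ℕ) + 1 : ℤ) := by
      rcases lt_or_gt_of_ne hij with h | h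
      · rw [Valuation.map_sub_eq_of_lt_right _ (by rw [hz0, hz0, exp_lt_exp]; omega), hz0, max_eq_right h.le]
      · rw [Valuation.map_sub_eq_of_lt_left _ (by rw [hz0, hz0, exp_lt_exp]; omega), hz0, max_eq_left h.le]
    rw [hΔ, Valuation.map_sub_eq_of_lt_left _ ?_, h1]
    refine lt_of_le_of_lt (valuation_int_comb k v₀ _) ?_
    rw [h1, ← exp_zero, exp_lt_exp]
    omega
  have hΔ0 : Δ ≠ 0 := fun h => by
    rw [h, map_zero] at hv
    exact exp_ne_zero hv.symm
  have hr : ∀ l, |(r l : ℝ)| ≤ 1 / B := fun l => by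
    have h0 := congrArg (fun f : Module.Free.ChooseBasisIndex ℤ (RingOfIntegers k) → Fin B => ((f l : ℕ) : ℤ)) hcls
    simp only [cls, Int.toNat_of_nonneg (Int.floor_nonneg.mpr (mul_nonneg (Nat.cast_nonneg (α := ℚ) B) (Int.fract_nonneg _)))] at h0
    have h1 := Int.abs_sub_lt_one_of_floor_eq_floor h0
    rw [← mul_sub, abs_mul, Nat.abs_cast] at h1
    have h2 : |r l| ≤ 1 / B := by
      rw [le_div_iff₀ (by exact_mod_cast hB0), mul_comm]
      exact h1.le
    have h3 := (Rat.cast_le (K := ℝ)).mpr h2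
    simpa using h3
  refine ⟨algebraMap (RingOfIntegers k) k M * Δ, mul_ne_zero ?_ hΔ0, fun P hP => ?_, fun w => ?_⟩
  · exact fun h => hM (IsFractionRing.injective (RingOfIntegers k) k (h.trans (map_zero _).symm))
  · rw [map_mul, P.valuation_of_algebraMap]
    refine mul_le_of_le_one_right zero_le ?_
    rw [hΔ]
    exact Valuation.map_sub_le (P.valuation k) (Valuation.map_sub_le (P.valuation k) (hz1 i P hP) (hz1 j P hP))
      (valuation_int_comb k P _)
  · rw [map_mul]
    calc w (algebraMap (RingOfIntegers k) k M) * w Δ ≤ W * (1 / B * basisBound k) :=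
          mul_le_mul (hW w) (place_comb_le k w r _ hr (by positivity)) (apply_nonneg w _) hW0
      _ = W * basisBound k / B := by ring
      _ < ε := by rwa [div_lt_iff₀ hB0, mul_comm ε, ← div_lt_iff₀ hε]

theorem exists_near_global (v₀ : HeightOneSpectrum (RingOfIntegers k)) {M : RingOfIntegers k} (hM : M ≠ 0) {ε : ℝ}
    (hε : 0 < ε) (y : k) :
    ∃ z : k, (∀ P : HeightOneSpectrum (RingOfIntegers k), P ≠ v₀ → P.valuation k z ≤ P.intValuation M) ∧
      ∀ w : InfinitePlace k, w (y - z) < ε := by
  have hC : (0 : ℝ) < basisBound k + 1 := by linarith [basisBound_nonneg k]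
  obtain ⟨g, hg0, hg, hgw⟩ := exists_small v₀ hM (div_pos hε hC)
  let q : Module.Free.ChooseBasisIndex ℤ (RingOfIntegers k) → ℚ := fun i => (integralBasis k).repr (y / g) i
  refine ⟨g * ∑ i, ((⌊q i⌋ : ℤ) : k) * integralBasis k i, fun P hP => ?_, fun w => ?_⟩
  · rw [map_mul]
    exact (mul_le_of_le_one_right zero_le (valuation_int_comb k P _)).trans (hg P hP)
  · have h1 : y - g * ∑ i, ((⌊q i⌋ : ℤ) : k) * integralBasis k i =
        g * ∑ i, ((Int.fract (q i) : ℚ) : k) * integralBasis k i := by
      conv_lhs => rw [← mul_div_cancel₀ y hg0, exists_coords k (y / g), ← mul_sub, ← Finset.sum_sub_distrib]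
      refine congrArg _ (Finset.sum_congr rfl fun i _ => ?_)
      simp only [q, Int.fract]
      push_cast
      ring
    rw [h1, map_mul]
    calc w g * w (∑ i, ((Int.fract (q i) : ℚ) : k) * integralBasis k i) ≤ ε / (basisBound k + 1) * (1 * basisBound k) :=
          mul_le_mul (hgw w).le (place_comb_le k w _ 1 (fun i => by
            rw [abs_le]
            have h1 := Int.fract_nonneg (q i)
            have h2 := (Int.fract_lt_one (q i)).le
            constructor
            · have : (0 : ℝ) ≤ (Int.fract (q i) : ℚ) := by exact_mod_cast h1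
              linarith
            · exact_mod_cast h2) zero_le_one) (apply_nonneg w _) (div_pos hε hC).le
      _ < ε := by
        rw [one_mul, div_mul_eq_mul_div, div_lt_iff₀ hC]
        exact mul_lt_mul_of_pos_left (lt_add_one _) hε

section local_nhds

variable {v : HeightOneSpectrum (RingOfIntegers k)}

theorem exists_ball {x : v.adicCompletion k} {U : Set (v.adicCompletion k)} (hU : U ∈ nhds x) :
    ∃ e : ℕ, ∀ y, Valued.v (y - x) ≤ exp (-(e : ℤ)) → y ∈ U := by
  obtain ⟨γ, hγ⟩ := Valued.mem_nhds.mp hU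
  set g := MonoidWithZeroHom.ValueGroup₀.embedding γ.1 with hg
  have hg0 : g ≠ 0 := (map_ne_zero _).mpr γ.ne_zero
  refine ⟨(1 - log g).toNat, fun y hy => hγ ?_⟩
  show Valued.v.restrict (y - x) < _
  rw [Valuation.restrict_lt_iff_lt_embedding]
  refine lt_of_le_of_lt hy ?_
  rw [← hg, ← exp_log hg0, exp_lt_exp, log_exp]
  omega

theorem ball_mem_nhds (x : v.adicCompletion k) (e : ℕ) :
    {y | Valued.v (y - x) ≤ exp (-(e : ℤ))} ∈ nhds x := by
  obtain ⟨π, hπ⟩ := v.valuation_exists_uniformizer k
  let p : v.adicCompletion k := ((π ^ e : k) : v.adicCompletion k)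
  have hp : Valued.v p = exp (-(e : ℤ)) := by
    rw [HeightOneSpectrum.valuedAdicCompletion_eq_valuation', map_pow, hπ, ← exp_nsmul]
    simp
  rw [Valued.mem_nhds]
  refine ⟨Units.mk0 (Valued.v.restrict p) (fun h => exp_ne_zero (hp.symm.trans (by simpa using h))),
    fun y hy => ?_⟩
  rw [Set.mem_ofPred_eq, Units.val_mk0, Valuation.restrict_lt_iff, hp] at hy
  exact hy.le

theorem valued_algebraMap (x : k) : Valued.v (algebraMap k (v.adicCompletion k) x) = v.valuation k x := by
  rw [HeightOneSpectrum.algebraMap_adicCompletion]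
  exact HeightOneSpectrum.valuedAdicCompletion_eq_valuation' v x

theorem exists_global_ball {x : v.adicCompletion k} {U : Set (v.adicCompletion k)} (hU : U ∈ nhds x) :
    ∃ (a : k) (e : ℕ), ∀ c : k, v.valuation k (c - a) ≤ exp (-(e : ℤ)) → algebraMap k (v.adicCompletion k) c ∈ U := by
  obtain ⟨e, he⟩ := exists_ball hU
  obtain ⟨a, ha⟩ := (HeightOneSpectrum.denseRange_algebraMap (v := v) (K := k)).exists_mem_open
    isOpen_interior ⟨x, mem_interior_iff_mem_nhds.mpr (ball_mem_nhds x e)⟩
  have hmem : algebraMap k (v.adicCompletion k) a ∈ {y | Valued.v (y - x) ≤ exp (-(e : ℤ))} := interior_subset ha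
  have ha' : Valued.v (algebraMap k (v.adicCompletion k) a - x) ≤ exp (-(e : ℤ)) := hmem
  refine ⟨a, e, fun c hc => he _ ?_⟩
  rw [← valued_algebraMap, map_sub] at hc
  rw [← sub_add_sub_cancel (algebraMap k (v.adicCompletion k) c) (algebraMap k _ a) x]
  exact Valuation.map_add_le _ hc ha'

end local_nhds

theorem norm_algebraMap_infinite (w : InfinitePlace k) (x : k) : ‖algebraMap k w.Completion x‖ = w x := by
  rw [InfinitePlace.Completion.algebraMap_apply]
  exact InfinitePlace.Completion.norm_coe w (WithAbs.toAbs w.1 x)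

theorem denseRange_pi_completion : DenseRange fun (y : k) (w : InfinitePlace k) => algebraMap k w.Completion y := by
  have h1 : DenseRange (fun (f : (w : InfinitePlace k) → WithAbs w.1) (w : InfinitePlace k) =>
      ((f w : WithAbs w.1) : w.Completion)) :=
    DenseRange.piMap fun w => InfinitePlace.Completion.denseRange_coe w
  exact h1.comp (InfinitePlace.denseRange_algebraMap_pi k)
    (continuous_pi fun w => (InfinitePlace.Completion.continuous_coe w).comp (continuous_apply w))

/-- Strong approximation off a finite place. -/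
theorem strong_approx (v₀ : HeightOneSpectrum (RingOfIntegers k)) (T : Finset (HeightOneSpectrum (RingOfIntegers k)))
    (hv₀ : v₀ ∉ T) (x : ∀ P : HeightOneSpectrum (RingOfIntegers k), P.adicCompletion k)
    (U : ∀ P : HeightOneSpectrum (RingOfIntegers k), Set (P.adicCompletion k)) (hU : ∀ P ∈ T, U P ∈ nhds (x P))
    (b : (w : InfinitePlace k) → w.Completion) (Ui : (w : InfinitePlace k) → Set w.Completion)
    (hUi : ∀ w, Ui w ∈ nhds (b w)) :
    ∃ c : k, (∀ P ∈ T, algebraMap k (P.adicCompletion k) c ∈ U P) ∧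
      (∀ w, algebraMap k w.Completion c ∈ Ui w) ∧ ∀ P ∉ T, P ≠ v₀ → P.valuation k c ≤ 1 := by
  classical
  have hex : ∀ P, ∃ (a : k) (e : ℕ), P ∈ T → ∀ c : k, P.valuation k (c - a) ≤ exp (-(e : ℤ)) →
      algebraMap k (P.adicCompletion k) c ∈ U P := fun P => by
    by_cases hP : P ∈ T
    · obtain ⟨a, e, h⟩ := exists_global_ball (hU P hP)
      exact ⟨a, e, fun _ => h⟩
    · exact ⟨0, 0, fun h => absurd h hP⟩
  choose a e hae using hex
  obtain ⟨c₁, hc₁, hc₁'⟩ := exists_finite_approx T a e
  obtain ⟨M, hM0, hM⟩ := exists_small_at T e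
  choose ε hε hεU using fun w => Metric.mem_nhds_iff.mp (hUi w)
  let ε₀ : ℝ := Finset.univ.inf' Finset.univ_nonempty ε
  have hε₀ : 0 < ε₀ := (Finset.lt_inf'_iff _).mpr fun w _ => hε w
  have hε₀' : ∀ w, ε₀ ≤ ε w := fun w => Finset.inf'_le _ (Finset.mem_univ w)
  obtain ⟨y, hy⟩ := denseRange_pi_completion.exists_dist_lt (fun w => b w - algebraMap k w.Completion c₁) (half_pos hε₀)
  obtain ⟨z, hz, hzw⟩ := exists_near_global v₀ hM0 (half_pos hε₀) y
  refine ⟨c₁ + z, fun P hP => hae P hP _ ?_, fun w => hεU w ?_, fun P hP hP0 => ?_⟩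
  · rw [add_sub_right_comm]
    exact Valuation.map_add_le _ (hc₁ P hP) ((hz P fun h => hv₀ (h ▸ hP)).trans (hM P hP))
  · rw [Metric.mem_ball, dist_comm, dist_eq_norm]
    have h1 := lt_of_le_of_lt (dist_le_pi_dist _ _ w) hy
    rw [dist_eq_norm] at h1
    calc ‖b w - algebraMap k w.Completion (c₁ + z)‖
        = ‖(b w - algebraMap k w.Completion c₁ - algebraMap k w.Completion y) + algebraMap k w.Completion (y - z)‖ := by
          rw [map_add, map_sub]; congr 1; ring
      _ ≤ ‖b w - algebraMap k w.Completion c₁ - algebraMap k w.Completion y‖ + ‖algebraMap k w.Completion (y - z)‖ :=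
          norm_add_le _ _
      _ < ε₀ / 2 + ε₀ / 2 := add_lt_add h1 (by rw [norm_algebraMap_infinite]; exact hzw w)
      _ ≤ ε w := by rw [add_halves]; exact hε₀' w
  · exact Valuation.map_add_le _ (hc₁' P hP) ((hz P hP0).trans (P.intValuation_le_one M))

end Groth.Agent.H23Strong
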