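import Groth.Agent.H23Strong.Approx
import Mathlib.FieldTheory.PrimitiveElement
import Mathlib.FieldTheory.Minpoly.IsIntegrallyClosed
import Mathlib.RingTheory.Norm.Basic
import Mathlib.Topology.Instances.Matrix
import Mathlib.RingTheory.Ideal.Norm.AbsNorm
import Mathlib.Algebra.Polynomial.Identities
import Mathlib.RingTheory.Polynomial.ScaleRoots
import Mathlib.LinearAlgebra.Matrix.Charpoly.Coeff
import Mathlib.Topology.Algebra.Polynomial
import Mathlib.LinearAlgebra.FreeModule.IdealQuotient
import Mathlib.RingTheory.TensorProduct.Free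

/-! # Norms that are units away from places of degree one -/

set_option autoImplicit false

universe u v

open IsDedekindDomain NumberField WithZero Polynomial TensorProduct

namespace Groth.Agent.H23Strong

theorem valuation_eval_le_one {F : Type*} [Field F] {Γ : Type*} [LinearOrderedCommGroupWithZero Γ] (w : Valuation F Γ)
    (f : Polynomial F) (x : F) (hf : ∀ i, w (f.coeff i) ≤ 1) (hx : w x ≤ 1) : w (f.eval x) ≤ 1 := by
  rw [eval_eq_sum_range]
  refine w.map_sum_le fun i _ => ?_
  rw [map_mul, map_pow]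
  exact mul_le_one₀ (hf i) zero_le (pow_le_one₀ zero_le hx)

section Hensel

variable {k : Type u} [Field k] [NumberField k] {v : HeightOneSpectrum (RingOfIntegers k)}

theorem exists_root_of_approx (f : Polynomial (v.adicCompletion k)) (hf : ∀ i, Valued.v (f.coeff i) ≤ 1)
    (r₀ : v.adicCompletion k) (hr₀ : Valued.v r₀ ≤ 1) (h0 : Valued.v (f.eval r₀) < 1)
    (h1 : Valued.v (f.derivative.eval r₀) = 1) : ∃ r, f.eval r = 0 := by
  let A := v.adicCompletionIntegers k
  obtain ⟨fA, hfA⟩ : ∃ fA : Polynomial A, fA.map A.subtype = f := by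
    have : f ∈ Polynomial.lifts A.subtype :=
      (Polynomial.lifts_iff_coeff_lifts _).mpr fun i => ⟨⟨f.coeff i, hf i⟩, rfl⟩
    exact (Polynomial.mem_lifts _).mp this
  have hev : ∀ x : A, (A.subtype (fA.eval x)) = f.eval (x : v.adicCompletion k) := fun x => by
    rw [← hfA, Polynomial.eval_map]
    exact Polynomial.hom_eval₂ fA (RingHom.id A) A.subtype x
  have hev' : ∀ x : A, (A.subtype (fA.derivative.eval x)) = f.derivative.eval (x : v.adicCompletion k) := fun x => by
    rw [← hfA, Polynomial.derivative_map, Polynomial.eval_map]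
    exact Polynomial.hom_eval₂ fA.derivative (RingHom.id A) A.subtype x
  have hle : ∀ x : A, Valued.v (A.subtype x) ≤ 1 := fun x => x.2
  -- a single Newton step
  have step : ∀ (n : ℕ) (x : A), Valued.v (A.subtype (fA.eval x)) ≤ exp (-((n : ℤ) + 1)) →
      Valued.v (A.subtype (fA.derivative.eval x)) = 1 → ∃ x' : A,
        Valued.v (A.subtype (fA.eval x')) ≤ exp (-(((n + 1 : ℕ) : ℤ) + 1)) ∧
          Valued.v (A.subtype (fA.derivative.eval x')) = 1 ∧ Valued.v (A.subtype (x' - x)) ≤ exp (-((n : ℤ) + 1)) := by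
    intro n x hx hx'
    let y : A := ⟨-(A.subtype (fA.eval x) / A.subtype (fA.derivative.eval x)), by
      rw [HeightOneSpectrum.mem_adicCompletionIntegers, Valuation.map_neg, map_div₀, hx', div_one]
      exact hle _⟩
    have hy : Valued.v (A.subtype y) ≤ exp (-((n : ℤ) + 1)) := by
      show Valued.v (-(A.subtype (fA.eval x) / A.subtype (fA.derivative.eval x))) ≤ _
      rw [Valuation.map_neg, map_div₀, hx', div_one]
      exact hx
    obtain ⟨c, hc⟩ := Polynomial.binomExpansion fA x y
    obtain ⟨d, hd⟩ := Polynomial.evalSubFactor fA.derivative (x + y) x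
    have hne : A.subtype (fA.derivative.eval x) ≠ 0 := fun h => by rw [h, map_zero] at hx'; exact zero_ne_one hx'
    refine ⟨x + y, ?_, ?_, by rwa [add_sub_cancel_left]⟩
    · have h2 : A.subtype (fA.eval (x + y)) = A.subtype c * A.subtype y ^ 2 := by
        rw [hc, map_add, map_add, map_mul, map_mul, map_pow]
        have : A.subtype (fA.eval x) + A.subtype (fA.derivative.eval x) * A.subtype y = 0 := by
          show _ + _ * -(_ / _) = _
          rw [mul_neg, mul_div_cancel₀ _ hne, add_neg_cancel]
        rw [this, zero_add]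
      rw [h2, map_mul, map_pow]
      refine (mul_le_of_le_one_left zero_le (hle c)).trans ((pow_le_pow_left₀ zero_le hy 2).trans ?_)
      rw [← exp_nsmul, exp_le_exp]
      simp only [nsmul_eq_mul]
      push_cast
      omega
    · have h2 : A.subtype (fA.derivative.eval (x + y)) = A.subtype (fA.derivative.eval x) + A.subtype d * A.subtype y := by
        rw [add_sub_cancel_left] at hd
        rw [← map_mul, ← map_add]
        exact congrArg _ (by linear_combination hd)
      rw [h2, Valuation.map_add_eq_of_lt_left _ ?_, hx']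
      rw [hx', map_mul]
      refine lt_of_le_of_lt ((mul_le_of_le_one_left zero_le (hle d)).trans hy) ?_
      rw [← exp_zero, exp_lt_exp]
      omega
  choose nx hnx1 hnx2 hnx3 using step
  let P : ℕ → A → Prop := fun n x => Valued.v (A.subtype (fA.eval x)) ≤ exp (-((n : ℤ) + 1)) ∧
    Valued.v (A.subtype (fA.derivative.eval x)) = 1
  have hP0 : P 0 ⟨r₀, hr₀⟩ := by
    refine ⟨?_, by rw [hev']; exact h1⟩
    rw [hev]
    by_cases hz : Valued.v (f.eval r₀) = 0
    · rw [show ((⟨r₀, hr₀⟩ : A) : v.adicCompletion k) = r₀ from rfl, hz]; exact zero_le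
    · obtain ⟨m, hm⟩ : ∃ m : ℤ, Valued.v (f.eval r₀) = exp m := ⟨_, (exp_log hz).symm⟩
      rw [show ((⟨r₀, hr₀⟩ : A) : v.adicCompletion k) = r₀ from rfl]
      rw [hm, ← exp_zero, exp_lt_exp] at h0
      rw [hm, exp_le_exp]
      omega
  let seq : ∀ n, {x : A // P n x} := fun n => Nat.rec ⟨_, hP0⟩
    (fun n x => ⟨nx n x.1 x.2.1 x.2.2, hnx1 n x.1 x.2.1 x.2.2, hnx2 n x.1 x.2.1 x.2.2⟩) n
  let s : ℕ → v.adicCompletion k := fun n => A.subtype (seq n).1
  have hs : ∀ n m, n ≤ m → Valued.v (s m - s n) ≤ exp (-((n : ℤ) + 1)) := by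
    intro n m hnm
    induction m, hnm using Nat.le_induction with
    | base => rw [sub_self, map_zero]; exact zero_le
    | succ m hnm ih =>
      rw [← sub_add_sub_cancel (s (m + 1)) (s m) (s n)]
      refine Valuation.map_add_le _ ?_ ih
      refine le_trans (le_of_eq_of_le (congrArg Valued.v (map_sub A.subtype _ _).symm)
        (hnx3 m (seq m).1 (seq m).2.1 (seq m).2.2)) (exp_le_exp.mpr (by omega))
  have hcau : CauchySeq s := by
    rw [(Valued.hasBasis_uniformity (v.adicCompletion k) ℤᵐ⁰).cauchySeq_iff]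
    intro γ _
    set g := MonoidWithZeroHom.ValueGroup₀.embedding γ.1 with hg
    have hg0 : g ≠ 0 := (_root_.map_ne_zero _).mpr γ.ne_zero
    refine ⟨(1 - log g).toNat, fun m hm n hn => ?_⟩
    show Valued.v.restrict (s n - s m) < _
    rw [Valuation.restrict_lt_iff_lt_embedding, ← hg, ← exp_log hg0]
    refine lt_of_le_of_lt ?_ (exp_lt_exp.mpr (show -(((1 - log g).toNat : ℤ) + 1) < log g by omega))
    rw [← sub_sub_sub_cancel_right (s n) (s m) (s (1 - log g).toNat)]
    exact Valuation.map_sub_le _ (hs _ _ hn) (hs _ _ hm)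
  obtain ⟨r, hr⟩ := cauchySeq_tendsto_of_complete hcau
  refine ⟨r, tendsto_nhds_unique ((f.continuous.tendsto r).comp hr) ?_⟩
  rw [Filter.tendsto_def]
  intro U hU
  obtain ⟨e, he⟩ := exists_ball hU
  refine Filter.mem_atTop_sets.mpr ⟨e, fun n hn => he _ ?_⟩
  rw [sub_zero]
  show Valued.v (f.eval (s n)) ≤ _
  rw [show s n = ((seq n).1 : v.adicCompletion k) from rfl, ← hev]
  exact (seq n).2.1.trans (exp_le_exp.mpr (by omega))

end Hensel

section Norm

variable {k : Type u} {L : Type v} [Field k] [Field L] [Algebra k L] [FiniteDimensional k L]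

theorem continuous_norm_comb {F : Type*} [Field F] [TopologicalSpace F] [IsTopologicalRing F] [Algebra k F]
    {ι : Type*} [Fintype ι] (ω : ι → L) :
    Continuous fun u : ι → F => Algebra.norm F (∑ i, u i • ((1 : F) ⊗ₜ[k] ω i)) := by
  classical
  let B := (Module.finBasis k L).baseChange F
  simp only [Algebra.norm_eq_matrix_det B, map_sum, map_smul]
  refine Continuous.matrix_det (continuous_matrix fun a b => ?_)
  simp only [Matrix.sum_apply, Matrix.smul_apply]
  exact continuous_finsetSum _ fun i _ => (continuous_apply i).smul continuous_const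

theorem norm_one_tmul (F : Type*) [Field F] [Algebra k F] (x : L) :
    Algebra.norm F ((1 : F) ⊗ₜ[k] x) = algebraMap k F (Algebra.norm k x) := by
  classical
  let b := Module.finBasis k L
  rw [Algebra.norm_eq_matrix_det (b.baseChange F), Algebra.norm_eq_matrix_det b, RingHom.map_det]
  congr 1
  ext i j
  rw [RingHom.mapMatrix_apply, Matrix.map_apply, Algebra.leftMulMatrix_eq_repr_mul,
    Algebra.leftMulMatrix_eq_repr_mul, Module.Basis.baseChange_apply, Algebra.TensorProduct.tmul_mul_tmul,
    one_mul, Module.Basis.baseChange_repr_tmul, Algebra.smul_def, mul_one]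

theorem exists_comb {F : Type*} [Field F] [Algebra k F] {ι : Type*} [Fintype ι] (ω : ι → L)
    (hω : ∀ l : L, ∃ c : ι → k, ∑ i, algebraMap k L (c i) * ω i = l) (x : F ⊗[k] L) :
    ∃ u : ι → F, ∑ i, u i • ((1 : F) ⊗ₜ[k] ω i) = x := by
  induction x using TensorProduct.induction_on with
  | zero => exact ⟨0, by simp⟩
  | tmul a l =>
    obtain ⟨c, rfl⟩ := hω l
    refine ⟨fun i => c i • a, ?_⟩
    rw [TensorProduct.tmul_sum]
    refine Finset.sum_congr rfl fun i _ => ?_
    rw [TensorProduct.smul_tmul', smul_eq_mul, mul_one, ← Algebra.smul_def, TensorProduct.smul_tmul]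
  | add x y hx hy =>
    obtain ⟨u, rfl⟩ := hx
    obtain ⟨u', rfl⟩ := hy
    exact ⟨u + u', by simp [add_smul, Finset.sum_add_distrib]⟩

/-- The norm of a translate of a primitive element is a value of the minimal polynomial. -/
theorem norm_add_algebraMap (θ : L) (hθ : (minpoly k θ).natDegree = Module.finrank k L) (c : k) :
    Algebra.norm k (θ + algebraMap k L c) = (-1) ^ Module.finrank k L * (minpoly k θ).eval (-c) := by
  classical
  set x := θ + algebraMap k L c with hx
  have hint : IsIntegral k x := .of_finite k x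
  have hm : minpoly k x = (minpoly k θ).comp (X - C c) := minpoly.add_algebraMap θ c
  let b := Module.finBasis k L
  let M := Algebra.leftMulMatrix b x
  have hchar : M.charpoly = minpoly k x := by
    refine (Polynomial.eq_of_monic_of_dvd_of_natDegree_le (minpoly.monic hint) M.charpoly_monic
      (minpoly.dvd k x (Algebra.leftMulMatrix_injective b ?_)) ?_)
    · rw [← Polynomial.aeval_algHom_apply, map_zero]
      exact Matrix.aeval_self_charpoly M
    · rw [Matrix.charpoly_natDegree_eq_dim, Fintype.card_fin, hm, natDegree_comp, natDegree_X_sub_C, mul_one, hθ]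
  rw [Algebra.norm_eq_matrix_det b, Matrix.det_eq_sign_charpoly_coeff, Fintype.card_fin, hchar, hm,
    coeff_zero_eq_eval_zero]
  simp

theorem natDegree_minpoly_of_adjoin {θ : L} (hθ : IntermediateField.adjoin k {θ} = ⊤) :
    (minpoly k θ).natDegree = Module.finrank k L := by
  rw [← IntermediateField.adjoin.finrank (IsIntegral.of_finite k θ), hθ, IntermediateField.finrank_top']

theorem exists_algHom_of_root {θ : L} (hθ : IntermediateField.adjoin k {θ} = ⊤) {F : Type*} [Field F] [Algebra k F]
    {r : F} (hr : aeval r (minpoly k θ) = 0) : Nonempty (L →ₐ[k] F) := by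
  have hint := IsIntegral.of_finite k θ
  let φ : IntermediateField.adjoin k {θ} →ₐ[k] F :=
    (IntermediateField.algHomAdjoinIntegralEquiv k hint).symm
      ⟨r, (Polynomial.mem_aroots.mpr ⟨minpoly.ne_zero hint, hr⟩)⟩
  exact ⟨φ.comp ((IntermediateField.equivOfEq hθ).trans IntermediateField.topEquiv).symm.toAlgHom⟩

end Norm

variable {k L : Type u} [Field k] [NumberField k] [Field L] [NumberField L] [Algebra k L]

theorem finite_valuation_gt (q : Polynomial k) :
    {v : HeightOneSpectrum (RingOfIntegers k) | ∃ i, 1 < v.valuation k (q.coeff i)}.Finite := by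
  refine Set.Finite.subset (Set.Finite.biUnion q.support.finite_toSet
    fun i _ => HeightOneSpectrum.Support.finite (RingOfIntegers k) (q.coeff i)) ?_
  rintro v ⟨i, hi⟩
  refine Set.mem_biUnion (Finset.mem_coe.mpr (Polynomial.mem_support_iff.mpr fun h => ?_)) hi
  rw [h, map_zero] at hi
  exact not_lt.mpr zero_le hi

/-- The element is integral at the place. -/
def IntegralAt (v : HeightOneSpectrum (RingOfIntegers k)) (θ : L) : Prop :=
  ∃ p : Polynomial k, p.Monic ∧ (∀ i, v.valuation k (p.coeff i) ≤ 1) ∧ aeval θ p = 0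

theorem coeff_minpoly_le_one (v : HeightOneSpectrum (RingOfIntegers k)) {θ : L} (h : IntegralAt v θ) (i : ℕ) :
    v.valuation k ((minpoly k θ).coeff i) ≤ 1 := by
  let A := (v.valuation k).valuationSubring
  letI : Algebra A L := ((algebraMap k L).comp A.subtype).toAlgebra
  haveI : IsScalarTower A k L := IsScalarTower.of_algebraMap_eq fun _ => rfl
  obtain ⟨p, hp, hpc, hpθ⟩ := h
  have hint : IsIntegral A θ := by
    obtain ⟨q, hq, -, hqm⟩ := Polynomial.lifts_and_degree_eq_and_monic
      ((Polynomial.lifts_iff_coeff_lifts p).mpr fun i => ⟨(⟨p.coeff i, hpc i⟩ : A), rfl⟩ :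
        p ∈ Polynomial.lifts (algebraMap A k)) hp
    refine ⟨q, hqm, ?_⟩
    rw [← Polynomial.aeval_def, ← Polynomial.aeval_map_algebraMap k, hq, hpθ]
  rw [minpoly.isIntegrallyClosed_eq_field_fractions' k hint, coeff_map]
  exact ((minpoly A θ).coeff i).2

theorem integralAt_comb (v : HeightOneSpectrum (RingOfIntegers k)) {ι : Type*} [Fintype ι] (ω : ι → L)
    (hω : ∀ i, IsIntegral ℤ (ω i)) (c : ι → k) (hc : ∀ i, v.valuation k (c i) ≤ 1) :
    IntegralAt v (∑ i, algebraMap k L (c i) * ω i) := by
  let A := (v.valuation k).valuationSubring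
  letI : Algebra A L := ((algebraMap k L).comp A.subtype).toAlgebra
  haveI : IsScalarTower A k L := IsScalarTower.of_algebraMap_eq fun _ => rfl
  have hint : IsIntegral A (∑ i, algebraMap k L (c i) * ω i) :=
    IsIntegral.sum _ fun i _ => IsIntegral.mul (isIntegral_algebraMap (x := (⟨c i, hc i⟩ : A))) ((hω i).tower_top)
  obtain ⟨q, hq, hqθ⟩ := hint
  refine ⟨q.map (algebraMap A k), hq.map _, fun i => ?_, ?_⟩
  · rw [coeff_map]
    exact (q.coeff i).2
  · rw [Polynomial.aeval_map_algebraMap]
    exact hqθ

theorem finite_le_absNorm (n : ℕ) :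
    {v : HeightOneSpectrum (RingOfIntegers k) | Ideal.absNorm v.asIdeal ≤ n}.Finite :=
  (Ideal.finite_setOfPred_absNorm_le (S := RingOfIntegers k) n).preimage
    fun _ _ _ _ h => HeightOneSpectrum.ext h

/-- At a place with large residue field a monic integral polynomial takes a unit value. -/
theorem exists_nonroot (v : HeightOneSpectrum (RingOfIntegers k)) {f : Polynomial k} (hf : f.Monic)
    (hfv : ∀ i, v.valuation k (f.coeff i) ≤ 1) (hv : f.natDegree < Ideal.absNorm v.asIdeal) :
    ∃ r : k, v.valuation k r ≤ 1 ∧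
      ∀ c, v.valuation k (c - r) < 1 → v.valuation k (f.eval (-c)) = 1 := by
  classical
  let w := v.valuation k
  let A := w.valuationSubring
  obtain ⟨fA, hfA, -, hfm⟩ := Polynomial.lifts_and_degree_eq_and_monic
    ((Polynomial.lifts_iff_coeff_lifts f).mpr fun i => ⟨(⟨f.coeff i, hfv i⟩ : A), rfl⟩ :
      f ∈ Polynomial.lifts (algebraMap A k)) hf
  let ι : RingOfIntegers k →+* A :=
    (algebraMap (RingOfIntegers k) k).codRestrict A.toSubring fun x => v.valuation_le_one x
  let φ : RingOfIntegers k →+* IsLocalRing.ResidueField A := (IsLocalRing.residue A).comp ι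
  have hmax : ∀ x : A, x ∈ IsLocalRing.maximalIdeal A ↔ w (x : k) < 1 := fun x => by
    rw [IsLocalRing.mem_maximalIdeal, mem_nonunits_iff]
    constructor
    · intro hnu
      refine lt_of_le_of_ne x.2 fun h1 => hnu ?_
      have hx0 : (x : k) ≠ 0 := fun h => by rw [h, map_zero] at h1; exact zero_ne_one h1
      exact isUnit_iff_exists_inv.mpr ⟨⟨(x : k)⁻¹, by rw [Valuation.mem_valuationSubring_iff, map_inv₀, h1, inv_one]⟩,
        Subtype.ext (mul_inv_cancel₀ hx0)⟩
    · intro hlt hu
      obtain ⟨y, hy⟩ := hu.exists_right_inv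
      have h1 : w (x : k) * w (y : k) = 1 := by
        rw [← map_mul, show (x : k) * (y : k) = 1 from congrArg Subtype.val hy, map_one]
      exact absurd h1 (ne_of_lt (lt_of_le_of_lt (mul_le_of_le_one_right zero_le y.2) hlt))
  let g := fA.map (IsLocalRing.residue A)
  have hgd : g.natDegree = f.natDegree := by
    rw [hfm.natDegree_map, ← hfA, hfm.natDegree_map]
  by_cases hex : ∃ r : RingOfIntegers k, g.eval (-φ r) ≠ 0
  · obtain ⟨r, hr⟩ := hex
    refine ⟨algebraMap (RingOfIntegers k) k r, v.valuation_le_one r, fun c hc => ?_⟩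
    have hc1 : w c ≤ 1 := by
      rw [← sub_add_cancel c (algebraMap (RingOfIntegers k) k r)]
      exact Valuation.map_add_le _ hc.le (v.valuation_le_one r)
    obtain ⟨cA, hcA⟩ : ∃ cA : A, (cA : k) = c := ⟨⟨c, (Valuation.mem_valuationSubring_iff _ _).mpr hc1⟩, rfl⟩
    have h1 : IsLocalRing.residue A cA = φ r :=
      Ideal.Quotient.eq.mpr ((hmax _).mpr (by subst hcA; exact hc))
    have h2 : f.eval (-c) = ((fA.eval (-cA) : A) : k) := by
      rw [← hfA, Polynomial.eval_map, ← hcA]
      exact (Polynomial.hom_eval₂ fA (RingHom.id A) (algebraMap A k) (-cA)).symm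
    rw [h2]
    refine le_antisymm ((Valuation.mem_valuationSubring_iff _ _).mp (fA.eval (-cA)).2) (not_lt.mp fun hlt => hr ?_)
    have h3 := Ideal.Quotient.eq_zero_iff_mem.mpr ((hmax _).mpr hlt)
    rw [show g.eval (-φ r) = IsLocalRing.residue A (fA.eval (-cA)) by
      rw [← h1, ← map_neg, Polynomial.eval_map]
      exact (Polynomial.hom_eval₂ fA (RingHom.id A) (IsLocalRing.residue A) (-cA)).symm]
    exact h3
  · push Not at hex
    exfalso
    have hg0 : g ≠ 0 := (hfm.map _).ne_zero
    haveI : Finite (RingOfIntegers k ⧸ v.asIdeal) := Ideal.finiteQuotientOfFreeOfNeBot v.asIdeal v.ne_bot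
    let ψ : RingOfIntegers k ⧸ v.asIdeal → g.roots.toFinset := fun x =>
      ⟨-φ (Quotient.out x), by rw [Multiset.mem_toFinset, mem_roots hg0]; exact hex _⟩
    have hψ : Function.Injective ψ := fun x y hxy => by
      have h1 : φ (Quotient.out x) = φ (Quotient.out y) := neg_injective (congrArg Subtype.val hxy)
      have h2 : w (algebraMap (RingOfIntegers k) k (Quotient.out x - Quotient.out y)) < 1 :=
        (hmax (ι (Quotient.out x - Quotient.out y))).mp (Ideal.Quotient.eq_zero_iff_mem.mp (by
          show φ (Quotient.out x - Quotient.out y) = 0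
          rw [map_sub, h1, sub_self]))
      rw [v.valuation_lt_one_iff_mem] at h2
      have h3 := Ideal.Quotient.eq.mpr h2
      simpa using h3
    have h1 := Nat.card_le_card_of_injective ψ hψ
    rw [Nat.card_eq_fintype_card (α := g.roots.toFinset), Fintype.card_coe] at h1
    have h2 : g.roots.toFinset.card ≤ g.natDegree := (Multiset.toFinset_card_le _).trans (g.card_roots')
    have h4 : Nat.card (RingOfIntegers k ⧸ v.asIdeal) = Ideal.absNorm v.asIdeal := by
      rw [Ideal.absNorm_apply]; rfl
    omega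

/-- A place where the translated norm is not a unit has degree one. -/
theorem degreeOne_of_lt_one (v : HeightOneSpectrum (RingOfIntegers k)) {θ : L}
    (hθ : IntermediateField.adjoin k {θ} = ⊤) {a b : Polynomial k}
    (hab : a * minpoly k θ + b * (minpoly k θ).derivative = 1)
    (hf : ∀ i, v.valuation k ((minpoly k θ).coeff i) ≤ 1) (ha : ∀ i, v.valuation k (a.coeff i) ≤ 1)
    (hb : ∀ i, v.valuation k (b.coeff i) ≤ 1) (c : k) (hc : v.valuation k c ≤ 1)
    (hlt : v.valuation k ((minpoly k θ).eval c) < 1) : Nonempty (L →ₐ[k] v.adicCompletion k) := by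
  set f := minpoly k θ with hfdef
  set w := v.valuation k with hw
  have hfd : ∀ i, w (f.derivative.coeff i) ≤ 1 := fun i => by
    rw [coeff_derivative, map_mul]
    refine mul_le_one₀ (hf _) zero_le ?_
    have := v.valuation_le_one (K := k) ((i : RingOfIntegers k) + 1)
    simpa using this
  have hd : w (f.derivative.eval c) = 1 := by
    have h1 := congrArg (fun p : Polynomial k => p.eval c) hab
    simp only [eval_add, eval_mul, eval_one] at h1
    refine le_antisymm (valuation_eval_le_one _ _ _ hfd hc) (not_lt.mp fun h => ?_)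
    have h2 : w (a.eval c * f.eval c + b.eval c * f.derivative.eval c) < 1 := by
      refine Valuation.map_add_lt _ ?_ ?_ <;> rw [map_mul]
      · exact lt_of_le_of_lt (mul_le_of_le_one_left zero_le (valuation_eval_le_one _ _ _ ha hc)) hlt
      · exact lt_of_le_of_lt (mul_le_of_le_one_left zero_le (valuation_eval_le_one _ _ _ hb hc)) h
    rw [h1, map_one] at h2
    exact lt_irrefl _ h2
  obtain ⟨r, hr⟩ := exists_root_of_approx (v := v) (f.map (algebraMap k (v.adicCompletion k)))
    (fun i => by rw [coeff_map, valued_algebraMap]; exact hf i) (algebraMap k _ c)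
    (by rw [valued_algebraMap]; exact hc)
    (by rw [eval_map, eval₂_at_apply, valued_algebraMap]; exact hlt)
    (by rw [derivative_map, eval_map, eval₂_at_apply, valued_algebraMap]; exact hd)
  refine exists_algHom_of_root hθ (r := r) ?_
  rwa [eval_map, ← aeval_def] at hr

theorem exists_bezout (θ : L) : ∃ a b : Polynomial k, a * minpoly k θ + b * (minpoly k θ).derivative = 1 :=
  Algebra.IsSeparable.isSeparable k θ

variable (k L) in
theorem exists_integral_primitive :
    ∃ θ : L, θ ≠ 0 ∧ IsIntegral ℤ θ ∧ IntermediateField.adjoin k {θ} = ⊤ := by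
  classical
  obtain ⟨α, hα⟩ := Field.exists_primitive_element k L
  obtain ⟨β, hβ0, hβ⟩ : ∃ β : L, β ≠ 0 ∧ IntermediateField.adjoin k {β} = ⊤ := by
    by_cases h : α = 0
    · refine ⟨1, one_ne_zero, ?_⟩
      rw [h] at hα
      rw [← top_le_iff, ← hα, IntermediateField.adjoin_simple_le_iff]
      exact zero_mem _
    · exact ⟨α, h, hα⟩
  obtain ⟨y, hy0, hy⟩ := exists_integral_multiples ℤ ℚ ({β} : Finset L)
  refine ⟨y • β, smul_ne_zero hy0 hβ0, hy β (Finset.mem_singleton_self β), ?_⟩
  rw [← top_le_iff, ← hβ, IntermediateField.adjoin_simple_le_iff]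
  have h1 : β = algebraMap k L ((y : k)⁻¹) * (y • β) := by
    rw [zsmul_eq_mul, map_inv₀, map_intCast, inv_mul_cancel_left₀ (Int.cast_ne_zero.mpr hy0)]
  have h2 : algebraMap k L ((y : k)⁻¹) * (y • β) ∈ IntermediateField.adjoin k {y • β} :=
    mul_mem (IntermediateField.algebraMap_mem _ _) (IntermediateField.mem_adjoin_simple_self k _)
  rwa [← h1] at h2

end Groth.Agent.H23Strong
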