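import Groth.Agent.H23Strong.Codim
import Groth.Agent.H23Strong.DegreeOne
import Mathlib.Topology.Algebra.MvPolynomial

/-! # Integral points avoiding a closed subset of codimension two -/

set_option autoImplicit false

universe u

open IsDedekindDomain NumberField WithZero MvPolynomial

namespace Groth.Agent.H23Strong

theorem continuous_aeval_mv {k F σ : Type*} [CommRing k] [CommRing F] [TopologicalSpace F] [IsTopologicalSemiring F]
    [Algebra k F] (p : MvPolynomial σ k) : Continuous fun x : σ → F => aeval x p := by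
  simp only [aeval_def, ← eval_map]
  exact continuous_eval _

theorem valuation_eval₂_le_one {O F σ : Type*} [CommRing O] [Field F] {Γ : Type*}
    [LinearOrderedCommGroupWithZero Γ] (w : Valuation F Γ) (φ : O →+* F) (hφ : ∀ r, w (φ r) ≤ 1) (x : σ → F)
    (hx : ∀ i, w (x i) ≤ 1) (p : MvPolynomial σ O) : w (p.eval₂ φ x) ≤ 1 := by
  induction p using MvPolynomial.induction_on with
  | C r => rw [eval₂_C]; exact hφ r
  | add p q hp hq => rw [eval₂_add]; exact Valuation.map_add_le _ hp hq
  | mul_X p i hp => rw [eval₂_mul, eval₂_X, map_mul]; exact mul_le_one₀ hp zero_le (hx i)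

theorem valuation_eval₂_sub_lt_one {O F σ : Type*} [CommRing O] [Field F] {Γ : Type*}
    [LinearOrderedCommGroupWithZero Γ] (w : Valuation F Γ) (φ : O →+* F) (hφ : ∀ r, w (φ r) ≤ 1) (x y : σ → F)
    (hx : ∀ i, w (x i) ≤ 1) (hy : ∀ i, w (y i) ≤ 1) (hxy : ∀ i, w (x i - y i) < 1) (p : MvPolynomial σ O) :
    w (p.eval₂ φ x - p.eval₂ φ y) < 1 := by
  induction p using MvPolynomial.induction_on with
  | C r => rw [eval₂_C, eval₂_C, sub_self, map_zero]; exact zero_lt_one
  | add p q hp hq => rw [eval₂_add, eval₂_add, add_sub_add_comm]; exact Valuation.map_add_lt _ hp hq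
  | mul_X p i hp =>
    rw [eval₂_mul, eval₂_mul, eval₂_X, eval₂_X, show p.eval₂ φ x * x i - p.eval₂ φ y * y i =
      (p.eval₂ φ x - p.eval₂ φ y) * x i + p.eval₂ φ y * (x i - y i) by ring]
    refine Valuation.map_add_lt _ ?_ ?_ <;> rw [map_mul]
    · exact lt_of_le_of_lt (mul_le_of_le_one_right zero_le (hx i)) hp
    · exact lt_of_le_of_lt (mul_le_of_le_one_left zero_le (valuation_eval₂_le_one w φ hφ y hy p)) (hxy i)

variable (k : Type u) [Field k] [NumberField k]

theorem aeval_map_eq (F : Type*) [CommRing F] [Algebra k F] {σ : Type*} (x : σ → F)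
    (p : MvPolynomial σ (RingOfIntegers k)) :
    aeval x (MvPolynomial.map (algebraMap (RingOfIntegers k) k) p) =
      p.eval₂ ((algebraMap k F).comp (algebraMap (RingOfIntegers k) k)) x := by
  rw [aeval_def, eval₂_map]

theorem exists_point_avoiding (n : ℕ) (hn : 1 ≤ n) (m : ℕ)
    (f : Fin m → MvPolynomial (Fin n) (RingOfIntegers k))
    (hcodim : ringKrullDim (MvPolynomial (Fin n) k ⧸ Ideal.span (Set.range fun j =>
        MvPolynomial.map (algebraMap (RingOfIntegers k) k) (f j))) + 2 ≤ (n : WithBot ℕ∞))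
    (v₀ : HeightOneSpectrum (RingOfIntegers k)) (Sf : Finset (HeightOneSpectrum (RingOfIntegers k))) (hv₀ : v₀ ∈ Sf)
    (Pf : (v : HeightOneSpectrum (RingOfIntegers k)) → (Fin n → v.adicCompletion k))
    (hPf : ∀ v ∈ Sf, v ≠ v₀ → ∃ j, MvPolynomial.aeval (Pf v)
      (MvPolynomial.map (algebraMap (RingOfIntegers k) k) (f j)) ≠ 0)
    (Nf : (v : HeightOneSpectrum (RingOfIntegers k)) → Set (Fin n → v.adicCompletion k))
    (hNf : ∀ v ∈ Sf, v ≠ v₀ → Nf v ∈ nhds (Pf v))
    (Pi : (w : InfinitePlace k) → (Fin n → w.Completion))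
    (hPi : ∀ w, ∃ j, MvPolynomial.aeval (Pi w)
      (MvPolynomial.map (algebraMap (RingOfIntegers k) k) (f j)) ≠ 0)
    (Ni : (w : InfinitePlace k) → Set (Fin n → w.Completion)) (hNi : ∀ w, Ni w ∈ nhds (Pi w))
    (T : Finset (HeightOneSpectrum (RingOfIntegers k))) (hT : Disjoint T Sf)
    (Q : (v : HeightOneSpectrum (RingOfIntegers k)) → (Fin n → v.adicCompletion k))
    (hQ : ∀ v ∈ T, (∀ i, Q v i ∈ v.adicCompletionIntegers k) ∧ ∃ j, Valued.v (MvPolynomial.aeval (Q v)
      (MvPolynomial.map (algebraMap (RingOfIntegers k) k) (f j))) = 1)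
    (W : (v : HeightOneSpectrum (RingOfIntegers k)) → Set (Fin n → v.adicCompletion k))
    (hW : ∀ v ∈ T, W v ∈ nhds (Q v))
    (hne : ∀ v : HeightOneSpectrum (RingOfIntegers k), v ∉ Sf → ∃ R : Fin n → v.adicCompletion k,
      (∀ i, R i ∈ v.adicCompletionIntegers k) ∧ ∃ j, Valued.v (MvPolynomial.aeval R
        (MvPolynomial.map (algebraMap (RingOfIntegers k) k) (f j))) = 1) :
    ∃ P : Fin n → k,
      (∀ v : HeightOneSpectrum (RingOfIntegers k), v ∉ Sf → (∀ i, v.valuation k (P i) ≤ 1) ∧
        ∃ j, v.valuation k (MvPolynomial.aeval P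
          (MvPolynomial.map (algebraMap (RingOfIntegers k) k) (f j))) = 1) ∧
      (∀ v ∈ Sf, v ≠ v₀ → (fun i => algebraMap k (v.adicCompletion k) (P i)) ∈ Nf v) ∧
      (∀ w : InfinitePlace k, (fun i => algebraMap k w.Completion (P i)) ∈ Ni w) ∧
      (∀ v ∈ T, (fun i => algebraMap k (v.adicCompletion k) (P i)) ∈ W v) := by
  classical
  set F : Fin m → MvPolynomial (Fin n) k := fun j => MvPolynomial.map (algebraMap (RingOfIntegers k) k) (f j) with hF
  -- valuations of values
  have hcomp : ∀ (v : HeightOneSpectrum (RingOfIntegers k)) (P : Fin n → k) (j : Fin m),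
      Valued.v (aeval (fun i => algebraMap k (v.adicCompletion k) (P i)) (F j)) =
        v.valuation k (aeval P (F j)) := fun v P j => by
    rw [show (fun i => algebraMap k (v.adicCompletion k) (P i)) = algebraMap k (v.adicCompletion k) ∘ P from rfl,
      aeval_algebraMap_apply, valued_algebraMap]
  have hint : ∀ (v : HeightOneSpectrum (RingOfIntegers k)) (r : RingOfIntegers k),
      Valued.v (((algebraMap k (v.adicCompletion k)).comp (algebraMap (RingOfIntegers k) k)) r) ≤ 1 := fun v r => by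
    rw [RingHom.comp_apply, valued_algebraMap]
    exact v.valuation_le_one r
  have hcong : ∀ (v : HeightOneSpectrum (RingOfIntegers k)) (P : Fin n → k) (R : Fin n → v.adicCompletion k) (j : Fin m),
      (∀ i, Valued.v (R i) ≤ 1) → (∀ i, Valued.v (algebraMap k (v.adicCompletion k) (P i) - R i) < 1) →
      Valued.v (aeval R (F j)) = 1 → v.valuation k (aeval P (F j)) = 1 := by
    intro v P R j hR hPR h1
    have hP : ∀ i, Valued.v (algebraMap k (v.adicCompletion k) (P i)) ≤ 1 := fun i => by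
      rw [← sub_add_cancel (algebraMap k (v.adicCompletion k) (P i)) (R i)]
      exact Valuation.map_add_le _ (hPR i).le (hR i)
    have h2 := valuation_eval₂_sub_lt_one Valued.v _ (hint v) _ _ hP hR hPR (f j)
    rw [← aeval_map_eq, ← aeval_map_eq] at h2
    rw [← hcomp, ← h1]
    exact Valuation.map_eq_of_sub_lt _ (by rw [h1]; exact h2)
  -- neighbourhoods
  have hfin : ∀ v, ∃ (x : Fin n → v.adicCompletion k) (U : Fin n → Set (v.adicCompletion k)),
      (∀ i, U i ∈ nhds (x i) ∧ IsOpen (U i)) ∧ ((v ∈ Sf → v ≠ v₀ → Set.pi Set.univ U ⊆ Nf v ∩ {y | ∃ j, aeval y (F j) ≠ 0}) ∧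
        (v ∈ T → Set.pi Set.univ U ⊆ W v ∩ {y | (∀ i, Valued.v (y i) ≤ 1) ∧ ∃ j, Valued.v (aeval y (F j)) = 1})) := by
    intro v
    have key : ∀ (x : Fin n → v.adicCompletion k) (S : Set (Fin n → v.adicCompletion k)), S ∈ nhds x →
        ∃ U : Fin n → Set (v.adicCompletion k), (∀ i, U i ∈ nhds (x i) ∧ IsOpen (U i)) ∧ Set.pi Set.univ U ⊆ S := by
      intro x S hS
      rw [nhds_pi, Filter.mem_pi'] at hS
      obtain ⟨I, U, hU, hsub⟩ := hS
      exact ⟨fun i => interior (U i), fun i => ⟨interior_mem_nhds.mpr (hU i), isOpen_interior⟩,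
        fun y hy => hsub fun i _ => interior_subset (hy i trivial)⟩
    by_cases hv : v ∈ Sf
    · have hvT : v ∉ T := fun h => Finset.disjoint_left.mp hT h hv
      by_cases hv0 : v = v₀
      · exact ⟨0, fun _ => Set.univ, fun _ => ⟨Filter.univ_mem, isOpen_univ⟩, fun _ h => absurd hv0 h, fun h => absurd h hvT⟩
      · obtain ⟨j, hj⟩ := hPf v hv hv0
        obtain ⟨U, hU, hsub⟩ := key (Pf v) (Nf v ∩ {y | ∃ j, aeval y (F j) ≠ 0}) (Filter.inter_mem (hNf v hv hv0)
          (Filter.mem_of_superset ((continuous_aeval_mv (F j)).continuousAt.preimage_mem_nhds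
            (isOpen_ne.mem_nhds hj)) fun y hy => ⟨j, hy⟩))
        exact ⟨Pf v, U, hU, fun _ _ => hsub, fun h => absurd h hvT⟩
    · by_cases hvT : v ∈ T
      · obtain ⟨hQi, j, hj⟩ := hQ v hvT
        obtain ⟨U, hU, hsub⟩ := key (Q v)
            (W v ∩ {y | (∀ i, Valued.v (y i) ≤ 1) ∧ ∃ j, Valued.v (aeval y (F j)) = 1}) (by
          refine Filter.inter_mem (hW v hvT) (Filter.inter_mem ?_ ?_)
          · show {y : Fin n → v.adicCompletion k | ∀ i, Valued.v (y i) ≤ 1} ∈ nhds (Q v)
            refine Filter.mem_of_superset (set_pi_mem_nhds Set.finite_univ fun i _ => ball_mem_nhds (Q v i) 0)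
              fun y hy i => ?_
            have h1 := hy i trivial
            simp only [Set.mem_ofPred_eq, Nat.cast_zero, neg_zero, exp_zero] at h1
            rw [← sub_add_cancel (y i) (Q v i)]
            exact Valuation.map_add_le _ h1 (hQi i)
          · refine Filter.mem_of_superset ((continuous_aeval_mv (F j)).continuousAt.preimage_mem_nhds
              (Valued.locally_const (x := aeval (Q v) (F j)) (by rw [hj]; exact one_ne_zero))) fun y hy => ⟨j, ?_⟩
            exact Eq.trans hy hj)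
        exact ⟨Q v, U, hU, fun h => absurd h hv, fun _ => hsub⟩
      · exact ⟨0, fun _ => Set.univ, fun _ => ⟨Filter.univ_mem, isOpen_univ⟩, fun h => absurd h hv, fun h => absurd h hvT⟩
  choose xf Uf hUf hUfS hUfT using hfin
  have hinf : ∀ w, ∃ U : Fin n → Set w.Completion, (∀ i, U i ∈ nhds (Pi w i) ∧ IsOpen (U i)) ∧
      Set.pi Set.univ U ⊆ Ni w ∩ {y | ∃ j, aeval y (F j) ≠ 0} := by
    intro w
    obtain ⟨j, hj⟩ := hPi w
    have hS : Ni w ∩ {y | ∃ j, aeval y (F j) ≠ 0} ∈ nhds (Pi w) := Filter.inter_mem (hNi w)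
      (Filter.mem_of_superset ((continuous_aeval_mv (F j)).continuousAt.preimage_mem_nhds
        (isOpen_ne.mem_nhds hj)) fun y hy => ⟨j, hy⟩)
    rw [nhds_pi, Filter.mem_pi'] at hS
    obtain ⟨I, U, hU, hsub⟩ := hS
    exact ⟨fun i => interior (U i), fun i => ⟨interior_mem_nhds.mpr (hU i), isOpen_interior⟩,
      fun y hy => hsub fun i _ => interior_subset (hy i trivial)⟩
  choose Ui hUi hUisub using hinf
  let S' := Sf.erase v₀ ∪ T
  have hv₀S' : v₀ ∉ S' := by
    simp only [S', Finset.mem_union, Finset.mem_erase, ne_eq, not_true_eq_false, false_and, false_or]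
    exact fun h => Finset.disjoint_left.mp hT h hv₀
  have hout : ∀ v ∉ Sf, v ≠ v₀ := fun v hv h => hv (h ▸ hv₀)
  -- the base point
  have hA0 : ∀ i, ∃ a : k, (∀ v ∈ S', algebraMap k (v.adicCompletion k) a ∈ Uf v i) ∧
      (∀ w, algebraMap k w.Completion a ∈ Ui w i) ∧ ∀ v ∉ S', v ≠ v₀ → v.valuation k a ≤ 1 := fun i =>
    strong_approx v₀ S' hv₀S' (fun v => xf v i) _ (fun v _ => (hUf v i).1) (fun w => Pi w i) _ fun w => (hUi w i).1
  choose A hAf hAi hAint using hA0
  have hAne : ∃ j, aeval A (F j) ≠ 0 := by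
    obtain ⟨w⟩ := (inferInstance : Nonempty (InfinitePlace k))
    have h0 : (fun i => algebraMap k w.Completion (A i)) ∈ Set.pi Set.univ (Ui w) := fun i _ => hAi i w
    obtain ⟨j, hj⟩ := (hUisub w h0).2
    refine ⟨j, fun h => hj ?_⟩
    rw [show (fun i => algebraMap k w.Completion (A i)) = algebraMap k w.Completion ∘ A from rfl,
      aeval_algebraMap_apply, h, map_zero]
  have hAint' : ∀ v ∉ Sf, ∀ i, v.valuation k (A i) ≤ 1 := fun v hv i => by
    by_cases hvT : v ∈ T
    · have h0 : (fun i => algebraMap k (v.adicCompletion k) (A i)) ∈ Set.pi Set.univ (Uf v) :=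
        fun i _ => hAf i v (Finset.mem_union_right _ hvT)
      have h1 := ((hUfT v hvT) h0).2.1 i
      rwa [valued_algebraMap] at h1
    · exact hAint i v (fun h => (Finset.mem_union.mp h).elim (fun h' => hv (Finset.mem_erase.mp h').2) hvT) (hout v hv)
  -- first exceptional set
  obtain ⟨j₀, hj₀⟩ := hAne
  let E₁ := (HeightOneSpectrum.Support.finite (RingOfIntegers k) (aeval A (F j₀))⁻¹).toFinset \ (Sf ∪ T)
  have hE₁ : ∀ v ∉ Sf, v ∉ T → v ∉ E₁ → v.valuation k (aeval A (F j₀)) = 1 := fun v hv hvT hvE => by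
    have h1 : v.valuation k (aeval A (F j₀)) ≤ 1 := by
      rw [← hcomp, hF, aeval_map_eq]
      exact valuation_eval₂_le_one _ _ (hint v) _ (fun i => by rw [valued_algebraMap]; exact hAint' v hv i) _
    refine le_antisymm h1 (not_lt.mp fun hlt => hvE (Finset.mem_sdiff.mpr
      ⟨(Set.Finite.mem_toFinset _).mpr ?_, fun h => (Finset.mem_union.mp h).elim hv hvT⟩))
    show 1 < v.valuation k (aeval A (F j₀))⁻¹
    rw [map_inv₀]
    exact one_lt_inv₀ (zero_lt_iff.mpr ((Valuation.ne_zero_iff _).mpr hj₀)) |>.mpr hlt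
  have hR : ∀ v, ∃ (a : Fin n → k) (R : Fin n → v.adicCompletion k), v ∈ E₁ → (∀ i, Valued.v (R i) ≤ 1) ∧
      (∃ j, Valued.v (aeval R (F j)) = 1) ∧ ∀ i, ∀ b : k, v.valuation k (b - a i) ≤ exp (-((1 : ℕ) : ℤ)) →
        Valued.v (algebraMap k (v.adicCompletion k) (A i + b) - R i) < 1 := fun v => by
    by_cases hv : v ∈ E₁
    · obtain ⟨R, hRi, hRj⟩ := hne v (fun h => (Finset.mem_sdiff.mp hv).2 (Finset.mem_union_left _ h))
      have hex : ∀ i, ∃ a : k, Valued.v (algebraMap k (v.adicCompletion k) (A i + a) - R i) < 1 := fun i => by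
        obtain ⟨a, e, ha⟩ := exists_global_ball (ball_mem_nhds (R i - algebraMap k (v.adicCompletion k) (A i)) 1)
        have h1 := ha a (by rw [sub_self, map_zero]; exact zero_le)
        refine ⟨a, lt_of_le_of_lt ?_ (exp_lt_exp.mpr (show -((1 : ℕ) : ℤ) < 0 by omega))⟩
        simp only [Set.mem_ofPred_eq] at h1
        rwa [show algebraMap k (v.adicCompletion k) (A i + a) - R i =
          algebraMap k (v.adicCompletion k) a - (R i - algebraMap k (v.adicCompletion k) (A i)) by
          rw [map_add]; ring]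
      choose a ha using hex
      refine ⟨a, R, fun _ => ⟨hRi, hRj, fun i b hb => ?_⟩⟩
      rw [← sub_add_sub_cancel _ (algebraMap k (v.adicCompletion k) (A i + a i)) (R i), ← map_sub,
        add_sub_add_left_eq_sub]
      refine Valuation.map_add_lt _ ?_ (ha i)
      rw [valued_algebraMap]
      exact lt_of_le_of_lt hb (by rw [← exp_zero, exp_lt_exp]; omega)
    · exact ⟨0, 0, fun h => absurd h hv⟩
  choose a R hR using hR
  have hb : ∀ i, ∃ b : k, (∀ v ∈ E₁, v.valuation k (b - a v i) ≤ exp (-((1 : ℕ) : ℤ))) ∧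
      ∀ v ∉ E₁, v.valuation k b ≤ 1 := fun i => exists_finite_approx E₁ (fun v => a v i) (fun _ => 1)
  choose b hb hbint using hb
  -- the direction
  obtain ⟨h, hh0, hh⟩ := exists_direction_poly n hn F hcodim A ⟨j₀, hj₀⟩
  let M : ℕ := ∏ v ∈ E₁, Ideal.absNorm v.asIdeal
  have hM : M ≠ 0 := Finset.prod_ne_zero_iff.mpr fun v _ => by
    rw [ne_eq, Ideal.absNorm_eq_zero_iff]
    exact v.ne_bot
  have hMv : ∀ v ∈ E₁, v.valuation k (M : k) ≤ exp (-((1 : ℕ) : ℤ)) := fun v hv => by
    rw [← map_natCast (algebraMap (RingOfIntegers k) k), v.valuation_of_algebraMap, v.intValuation_le_pow_iff_mem,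
      pow_one]
    obtain ⟨q, hq⟩ : Ideal.absNorm v.asIdeal ∣ M := Finset.dvd_prod_of_mem _ hv
    rw [hq, Nat.cast_mul]
    exact Ideal.mul_mem_right _ _ (Ideal.absNorm_mem _)
  obtain ⟨B, hB, hBh⟩ : ∃ B ∈ Set.pi Set.univ (fun i => Set.range fun u : ℕ => b i + (M : k) * u), aeval B h ≠ 0 := by
    by_contra hc
    push Not at hc
    refine hh0 (MvPolynomial.funext_set (p := h) (q := 0) (fun i => Set.range fun u : ℕ => b i + (M : k) * u)
      (fun i => Set.infinite_range_of_injective fun x y hxy => ?_)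
      fun x hx => ?_)
    · simpa [hM] using hxy
    · rw [map_zero, ← hc x hx]
      rw [aeval_eq_eval]
  simp only [Set.mem_pi, Set.mem_univ, Set.mem_range, true_implies] at hB
  choose u hu using hB
  have hBint : ∀ v ∉ Sf, ∀ i, v.valuation k (B i) ≤ 1 := fun v hv i => by
    have hMu : v.valuation k ((M : k) * u i) ≤ 1 := by
      have := v.valuation_le_one (K := k) (((M * u i : ℕ) : RingOfIntegers k))
      simpa using this
    rw [← hu i]
    refine Valuation.map_add_le _ ?_ hMu
    by_cases hvE : v ∈ E₁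
    · obtain ⟨hRi, -, hab⟩ := hR v hvE
      have h1 := hab i _ (hb i v hvE)
      have h2 : Valued.v (algebraMap k (v.adicCompletion k) (A i + b i)) ≤ 1 := by
        rw [← sub_add_cancel (algebraMap k (v.adicCompletion k) (A i + b i)) (R v i)]
        exact Valuation.map_add_le _ h1.le (hRi i)
      rw [valued_algebraMap] at h2
      rw [← add_sub_cancel_left (A i) (b i)]
      exact Valuation.map_sub_le (v.valuation k) h2 (hAint' v hv i)
    · exact hbint i v hvE
  obtain ⟨g, hg⟩ := hh B hBh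
  let E₂ := ((Finset.univ.biUnion fun j => (finite_valuation_gt (g j)).toFinset) \ (Sf ∪ T ∪ E₁))
  -- the parameter
  let line : ∀ (K : Type u) [Field K] [Algebra k K], K → Fin n → K := fun K _ _ t i =>
    algebraMap k K (A i) + algebraMap k K (B i) * t
  let tgt : ∀ v : HeightOneSpectrum (RingOfIntegers k), v.adicCompletion k := fun v => if v ∈ E₁ then 1 else 0
  let V : ∀ v : HeightOneSpectrum (RingOfIntegers k), Set (v.adicCompletion k) := fun v =>
    if v ∈ S' then (fun t => line (v.adicCompletion k) t) ⁻¹' Set.pi Set.univ (Uf v)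
    else {y | Valued.v (y - tgt v) ≤ exp (-((1 : ℕ) : ℤ))}
  have hdisj₁ : ∀ v ∈ E₁, v ∉ Sf ∧ v ∉ T := fun v hv =>
    not_or.mp fun h => (Finset.mem_sdiff.mp hv).2 (Finset.mem_union.mpr h)
  have hdisj₂ : ∀ v ∈ E₂, v ∉ Sf ∧ v ∉ T ∧ v ∉ E₁ := fun v hv => by
    have h2 := (Finset.mem_sdiff.mp hv).2
    simp only [Finset.mem_union, not_or] at h2
    exact ⟨h2.1.1, h2.1.2, h2.2⟩
  have hS'mem : ∀ v ∈ S', v ∈ Sf ∨ v ∈ T := fun v hv =>
    (Finset.mem_union.mp hv).imp_left fun h => (Finset.mem_erase.mp h).2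
  obtain ⟨t, htf, hti, htint⟩ := strong_approx v₀ (S' ∪ E₁ ∪ E₂) (by
      simp only [Finset.mem_union, not_or]
      exact ⟨⟨hv₀S', fun h => (hdisj₁ v₀ h).1 hv₀⟩, fun h => (hdisj₂ v₀ h).1 hv₀⟩)
    tgt V (fun v _ => by
      by_cases hvS : v ∈ S'
      · have htgt : tgt v = 0 := by
          simp only [tgt]
          rw [if_neg fun h => (hS'mem v hvS).elim (hdisj₁ v h).1 (hdisj₁ v h).2]
        simp only [V, if_pos hvS, htgt]
        refine ((isOpen_set_pi Set.finite_univ fun i _ => (hUf v i).2).preimage ?_).mem_nhds ?_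
        · exact continuous_pi fun i => continuous_const.add (continuous_const.mul continuous_id)
        · intro i _
          simpa [line] using hAf i v hvS
      · simp only [V, if_neg hvS]
        exact ball_mem_nhds _ 1)
    (fun w => 0) (fun w => (fun t => line w.Completion t) ⁻¹' Set.pi Set.univ (Ui w)) (fun w => by
      refine ((isOpen_set_pi Set.finite_univ fun i _ => (hUi w i).2).preimage ?_).mem_nhds ?_
      · exact continuous_pi fun i => continuous_const.add (continuous_const.mul continuous_id)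
      · intro i _
        simpa [line] using hAi i w)
  have hline : ∀ (K : Type u) [Field K] [Algebra k K],
      line K (algebraMap k K t) = fun i => algebraMap k K (A i + B i * t) := fun K _ _ => funext fun i => by
    simp [line]
  have hballE : ∀ v, v ∈ E₁ ∨ v ∈ E₂ →
      v.valuation k (t - if v ∈ E₁ then 1 else 0) ≤ exp (-((1 : ℕ) : ℤ)) := by
    intro v hv
    have hvS : v ∉ S' := fun h => hv.elim (fun h' => (hS'mem v h).elim (hdisj₁ v h').1 (hdisj₁ v h').2)
      (fun h' => (hS'mem v h).elim (hdisj₂ v h').1 (hdisj₂ v h').2.1)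
    have h1 := htf v (by rcases hv with h | h <;> simp [h])
    simp only [V, if_neg hvS, Set.mem_ofPred_eq, tgt] at h1
    rw [← valued_algebraMap, map_sub]
    split_ifs at h1 ⊢ <;> simpa using h1
  have hexp1 : exp (-((1 : ℕ) : ℤ)) < (1 : ℤᵐ⁰) := by rw [← exp_zero, exp_lt_exp]; omega
  refine ⟨fun i => A i + B i * t, fun v hv => ?_, fun v hv hv0 => ?_, fun w => ?_, fun v hv => ?_⟩
  · by_cases hvT : v ∈ T
    · have hvS : v ∈ S' := Finset.mem_union_right _ hvT
      have h1 := htf v (by simp [hvS])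
      simp only [V, if_pos hvS, Set.mem_preimage, hline] at h1
      obtain ⟨-, hint', j, hj⟩ := hUfT v hvT h1
      exact ⟨fun i => by rw [← valued_algebraMap]; exact hint' i, j, (hcomp v _ j).symm.trans hj⟩
    have ht1 : v.valuation k t ≤ 1 := by
      by_cases hE : v ∈ E₁ ∨ v ∈ E₂
      · have h1 := (hballE v hE).trans hexp1.le
        rw [← sub_add_cancel t (if v ∈ E₁ then (1 : k) else 0)]
        refine Valuation.map_add_le _ h1 ?_
        split_ifs <;> simp
      · refine htint v ?_ (hout v hv)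
        simp only [Finset.mem_union, not_or] at hE ⊢
        exact ⟨⟨fun h => (hS'mem v h).elim hv hvT, hE.1⟩, hE.2⟩
    have hBt : ∀ i, v.valuation k (B i * t) ≤ 1 := fun i => by
      rw [map_mul]; exact mul_le_one₀ (hBint v hv i) zero_le ht1
    refine ⟨fun i => Valuation.map_add_le _ (hAint' v hv i) (hBt i), ?_⟩
    by_cases hvE₁ : v ∈ E₁
    · obtain ⟨hRi, ⟨j, hj⟩, hab⟩ := hR v hvE₁
      refine ⟨j, hcong v _ (R v) j hRi (fun i => hab i _ ?_) hj⟩
      have h1 := hballE v (Or.inl hvE₁)
      rw [if_pos hvE₁] at h1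
      rw [show B i * t - a v i = (b i - a v i) + (M : k) * u i + B i * (t - 1) by rw [← hu i]; ring]
      refine Valuation.map_add_le _ (Valuation.map_add_le _ (hb i v hvE₁) ?_) ?_
      · rw [map_mul]
        refine (mul_le_of_le_one_right zero_le ?_).trans (hMv v hvE₁)
        have := v.valuation_le_one (K := k) (((u i : ℕ) : RingOfIntegers k))
        simpa using this
      · rw [map_mul]
        exact (mul_le_of_le_one_left zero_le (hBint v hv i)).trans h1
    by_cases hvE₂ : v ∈ E₂
    · refine ⟨j₀, hcong v _ (fun i => algebraMap k _ (A i)) j₀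
        (fun i => by rw [valued_algebraMap]; exact hAint' v hv i) (fun i => ?_) ?_⟩
      · have h1 := hballE v (Or.inr hvE₂)
        rw [if_neg hvE₁, sub_zero] at h1
        rw [← map_sub, add_sub_cancel_left, valued_algebraMap, map_mul]
        exact lt_of_le_of_lt (mul_le_of_le_one_left zero_le (hBint v hv i)) (lt_of_le_of_lt h1 hexp1)
      · rw [hcomp]
        exact hE₁ v hv hvT hvE₁
    · by_contra hcon
      push Not at hcon
      have hgj : ∀ j i, v.valuation k ((g j).coeff i) ≤ 1 := fun j i => not_lt.mp fun h =>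
        hvE₂ (Finset.mem_sdiff.mpr ⟨Finset.mem_biUnion.mpr ⟨j, Finset.mem_univ j,
          (Set.Finite.mem_toFinset _).mpr ⟨i, h⟩⟩, by simp [hv, hvT, hvE₁]⟩)
      have hflt : ∀ j, v.valuation k (aeval (fun i => A i + B i * t) (F j)) < 1 := fun j => by
        refine lt_of_le_of_ne ?_ (hcon j)
        rw [← hcomp, hF, aeval_map_eq]
        exact valuation_eval₂_le_one _ _ (hint v) _ (fun i => by
          rw [valued_algebraMap]; exact Valuation.map_add_le _ (hAint' v hv i) (hBt i)) _
      have h1 := congrArg (Polynomial.aeval t) hg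
      rw [map_sum, map_one] at h1
      have h2 : v.valuation k 1 < 1 := by
        rw [← h1]
        refine Valuation.map_sum_lt _ one_ne_zero fun j _ => ?_
        rw [map_mul, map_mul, ← AlgHom.comp_apply, MvPolynomial.comp_aeval]
        refine lt_of_le_of_lt (mul_le_of_le_one_left zero_le ?_) ?_
        · rw [Polynomial.coe_aeval_eq_eval]
          exact valuation_eval_le_one _ _ _ (hgj j) ht1
        · simpa using hflt j
      rw [map_one] at h2
      exact lt_irrefl _ h2
  · have hvS : v ∈ S' := Finset.mem_union_left _ (Finset.mem_erase.mpr ⟨hv0, hv⟩)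
    have h1 := htf v (by simp [hvS])
    simp only [V, if_pos hvS, Set.mem_preimage, hline] at h1
    exact (hUfS v hv hv0 h1).1
  · have h1 := hti w
    simp only [Set.mem_preimage, hline] at h1
    exact (hUisub w h1).1
  · have hvS : v ∈ S' := Finset.mem_union_right _ hv
    have h1 := htf v (by simp [hvS])
    simp only [V, if_pos hvS, Set.mem_preimage, hline] at h1
    exact (hUfT v hv h1).1

end Groth.Agent.H23Strong
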