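import Mathlib.Topology.Algebra.Module.ModuleTopology
import Mathlib.Topology.Instances.Matrix
import Mathlib.RingTheory.Norm.Basic
import Mathlib.RingTheory.TensorProduct.Free
import Mathlib.LinearAlgebra.TensorProduct.Tower

/-! # Norms after extending scalars to a topological field -/

set_option autoImplicit false

universe u v w

open TensorProduct

namespace Groth.Agent.H23Strong

variable {k : Type u} {K L : Type v} [Field k] [Field K] [Field L] [Algebra k K] [Algebra K L] [Algebra k L]
  [IsScalarTower k K L] [FiniteDimensional k K] [FiniteDimensional K L]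

variable (k K L) in
/-- The algebra structure after extending scalars. -/
@[reducible]
noncomputable def towerAlg (F : Type w) [CommRing F] [Algebra k F] : Algebra (F ⊗[k] K) (F ⊗[k] L) :=
  (Algebra.TensorProduct.map (AlgHom.id k F) (IsScalarTower.toAlgHom k K L)).toRingHom.toAlgebra

variable (F : Type w) [Field F] [Algebra k F]

theorem exists_towerBasis {J : Type*} [Fintype J] (b : Module.Basis J K L) :
    letI := towerAlg k K L F
    ∃ B : Module.Basis J (F ⊗[k] K) (F ⊗[k] L), ∀ j, B j = (1 : F) ⊗ₜ[k] b j := by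
  classical
  letI := towerAlg k K L F
  have hsmul : ∀ (f : F) (x : K) (l : L), (f ⊗ₜ[k] x : F ⊗[k] K) • ((1 : F) ⊗ₜ[k] l) = f ⊗ₜ[k] (x • l) := by
    intro f x l
    rw [Algebra.smul_def, Algebra.smul_def x l]
    show Algebra.TensorProduct.map (AlgHom.id k F) (IsScalarTower.toAlgHom k K L) (f ⊗ₜ[k] x) * _ = _
    rw [Algebra.TensorProduct.map_tmul, Algebra.TensorProduct.tmul_mul_tmul, AlgHom.id_apply, mul_one]
    rfl
  let e : (J → F ⊗[k] K) →ₗ[F ⊗[k] K] F ⊗[k] L := Fintype.linearCombination _ fun j => (1 : F) ⊗ₜ[k] b j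
  let φ : F ⊗[k] L → (J → F ⊗[k] K) := fun z j => LinearMap.lTensor F ((b.coord j).restrictScalars k) z
  have hφe : ∀ c, φ (e c) = c := by
    intro c
    funext j
    have key : ∀ i, ∀ t : F ⊗[k] K,
        LinearMap.lTensor F ((b.coord j).restrictScalars k) (t • ((1 : F) ⊗ₜ[k] b i)) = if i = j then t else 0 := by
      intro i t
      induction t using TensorProduct.induction_on with
      | zero => simp
      | tmul f x =>
        rw [hsmul, LinearMap.lTensor_tmul, LinearMap.restrictScalars_apply, map_smul, Module.Basis.coord_apply,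
          Module.Basis.repr_self, Finsupp.single_apply]
        split_ifs <;> simp
      | add t t' ht ht' =>
        rw [add_smul, map_add, ht, ht']
        split_ifs <;> simp
    simp only [φ, e, Fintype.linearCombination_apply, map_sum, key, Finset.sum_ite_eq', Finset.mem_univ, if_true]
  have heφ : ∀ z, e (φ z) = z := by
    intro z
    simp only [φ, e, Fintype.linearCombination_apply]
    induction z using TensorProduct.induction_on with
    | zero => simp
    | tmul f l =>
      simp only [LinearMap.lTensor_tmul, LinearMap.restrictScalars_apply, hsmul, ← TensorProduct.tmul_sum,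
        Module.Basis.coord_apply, b.sum_repr]
    | add z z' hz hz' => simp only [map_add, add_smul, Finset.sum_add_distrib, hz, hz']
  let E : (J → F ⊗[k] K) ≃ₗ[F ⊗[k] K] F ⊗[k] L := { e with invFun := φ, left_inv := hφe, right_inv := heφ }
  refine ⟨Module.Basis.ofEquivFun E.symm, fun j => ?_⟩
  rw [Module.Basis.coe_ofEquivFun]
  show e (Pi.single j 1) = _
  simp [e, Fintype.linearCombination_apply_single]

theorem norm_tower_tmul (x : L) :
    letI := towerAlg k K L F
    Algebra.norm (F ⊗[k] K) ((1 : F) ⊗ₜ[k] x) = (1 : F) ⊗ₜ[k] Algebra.norm K x := by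
  classical
  letI := towerAlg k K L F
  let b := Module.finBasis K L
  obtain ⟨B, hB⟩ := exists_towerBasis (k := k) F b
  rw [Algebra.norm_eq_matrix_det B, Algebra.norm_eq_matrix_det b]
  show _ = (Algebra.TensorProduct.includeRight (R := k) (A := F) (B := K)).toRingHom _
  rw [RingHom.map_det]
  congr 1
  ext i j
  rw [RingHom.mapMatrix_apply, Matrix.map_apply, Algebra.leftMulMatrix_eq_repr_mul,
    Algebra.leftMulMatrix_eq_repr_mul, hB, Algebra.TensorProduct.tmul_mul_tmul, one_mul]
  have h : (1 : F) ⊗ₜ[k] (x * b j) = ∑ i, ((1 : F) ⊗ₜ[k] (b.repr (x * b j) i) : F ⊗[k] K) • B i := by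
    conv_lhs => rw [← b.sum_repr (x * b j), TensorProduct.tmul_sum]
    refine Finset.sum_congr rfl fun i _ => ?_
    rw [hB, Algebra.smul_def, Algebra.smul_def]
    show _ = Algebra.TensorProduct.map (AlgHom.id k F) (IsScalarTower.toAlgHom k K L) _ * _
    rw [Algebra.TensorProduct.map_tmul, Algebra.TensorProduct.tmul_mul_tmul, AlgHom.id_apply, mul_one]
    rfl
  rw [h, B.repr_sum_self]
  rfl

theorem continuous_norm_tower [TopologicalSpace F] [IsTopologicalRing F]
    [TopologicalSpace (F ⊗[k] K)] [IsModuleTopology F (F ⊗[k] K)]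
    [TopologicalSpace (F ⊗[k] L)] [IsModuleTopology F (F ⊗[k] L)] :
    letI := towerAlg k K L F
    Continuous fun u : F ⊗[k] L => Algebra.norm (F ⊗[k] K) u := by
  classical
  letI := towerAlg k K L F
  haveI : IsScalarTower F (F ⊗[k] K) (F ⊗[k] L) := IsScalarTower.of_algebraMap_eq fun f => by
    show f ⊗ₜ[k] (1 : L) = Algebra.TensorProduct.map (AlgHom.id k F) (IsScalarTower.toAlgHom k K L) (f ⊗ₜ[k] (1 : K))
    rw [Algebra.TensorProduct.map_tmul, map_one]
    rfl
  haveI : IsTopologicalRing (F ⊗[k] K) := IsModuleTopology.isTopologicalRing F _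
  haveI : ContinuousAdd (F ⊗[k] L) := IsModuleTopology.toContinuousAdd F _
  obtain ⟨B, -⟩ := exists_towerBasis (k := k) F (Module.finBasis K L)
  simp only [Algebra.norm_eq_matrix_det B]
  refine Continuous.matrix_det (continuous_matrix fun i j => ?_)
  simp only [Algebra.leftMulMatrix_eq_repr_mul]
  let ℓ : F ⊗[k] L →ₗ[F] F ⊗[k] K :=
    ((B.coord i).restrictScalars F).comp (LinearMap.mulRight F (B j))
  exact IsModuleTopology.continuous_of_linearMap ℓ

/-- The extension of a functional. -/
noncomputable def extFun (φ : K →ₗ[k] k) : F ⊗[k] K →ₗ[F] F :=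
  (AlgebraTensorModule.rid k F F).toLinearMap.comp (φ.baseChange F)

theorem extFun_tmul (φ : K →ₗ[k] k) (f : F) (x : K) : extFun F φ (f ⊗ₜ[k] x) = φ x • f := by
  simp [extFun, AlgebraTensorModule.rid_tmul]

theorem extFun_one_tmul (φ : K →ₗ[k] k) (x : K) : extFun F φ ((1 : F) ⊗ₜ[k] x) = algebraMap k F (φ x) := by
  rw [extFun_tmul, Algebra.smul_def, mul_one]

theorem extFun_tmul_one (φ : K →ₗ[k] k) (t : F) : extFun F φ (t ⊗ₜ[k] (1 : K)) = t * algebraMap k F (φ 1) := by
  rw [extFun_tmul, Algebra.smul_def, mul_comm]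

end Groth.Agent.H23Strong
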