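import Groth.Agent.H23Strong.Approx
import Groth.Agent.H8Props.FieldDimRing
import Mathlib.Algebra.MvPolynomial.Funext
import Mathlib.RingTheory.Polynomial.Basic

/-! # Lines missing a closed subset of codimension two -/

set_option autoImplicit false

universe u

open MvPolynomial

namespace Groth.Agent.H23Strong

/-- A finitely generated algebra receiving a polynomial ring injectively is at least as big. -/
theorem natCast_le_ringKrullDim (k : Type u) [Field k] (T : Type u) [CommRing T] [Algebra k T]
    [Algebra.FiniteType k T] (n : ℕ) (φ : MvPolynomial (Fin n) k →ₐ[k] T) (hφ : Function.Injective φ) :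
    (n : WithBot ℕ∞) ≤ ringKrullDim T := by
  have hker : (⊥ : Ideal (MvPolynomial (Fin n) k)) ∈ (⊥ : Ideal (MvPolynomial (Fin n) k)).minimalPrimes :=
    ⟨⟨Ideal.isPrime_bot, le_rfl⟩, fun q _ _ => bot_le⟩
  obtain ⟨p, hp, hpφ⟩ := Ideal.exists_comap_eq_of_mem_minimalPrimes_of_injective (f := φ.toRingHom) hφ ⊥
    (by simpa [minimalPrimes] using hker)
  haveI := hp
  let ψ := (Ideal.Quotient.mkₐ k p).comp φ
  have hψ : Function.Injective ψ := by
    refine (injective_iff_map_eq_zero ψ).mpr fun x hx => ?_
    have h0 : φ x ∈ p := Ideal.Quotient.eq_zero_iff_mem.mp hx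
    have h1 : x ∈ p.comap φ.toRingHom := h0
    rwa [hpφ, Ideal.mem_bot] at h1
  have hai : AlgebraicIndependent k fun i => ψ (X i) := by
    rw [algebraicIndependent_iff_injective_aeval]
    have : (aeval fun i => ψ (X i) : MvPolynomial (Fin n) k →ₐ[k] T ⧸ p) = ψ := algHom_ext fun i => by simp
    rw [this]
    exact hψ
  obtain ⟨s, hs, hts⟩ := H8Props.FieldDim.exists_dim_trdeg k (T ⧸ p)
  have hle := hai.lift_cardinalMk_le_trdeg
  rw [hts] at hle
  have hns : n ≤ s := by simpa using hle
  exact (show (n : WithBot ℕ∞) ≤ s by exact_mod_cast hns).trans (hs.ge.trans (ringKrullDim_quotient_le p))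

/-- Directions of lines meeting a subset of codimension two lie in a hypersurface. -/
theorem exists_direction_poly {k : Type u} [Field k] (n : ℕ) (hn : 1 ≤ n) {m : ℕ} (f : Fin m → MvPolynomial (Fin n) k)
    (hcodim : ringKrullDim (MvPolynomial (Fin n) k ⧸ Ideal.span (Set.range f)) + 2 ≤ (n : WithBot ℕ∞))
    (A : Fin n → k) (hA : ∃ j, aeval A (f j) ≠ 0) :
    ∃ h : MvPolynomial (Fin n) k, h ≠ 0 ∧ ∀ B : Fin n → k, aeval B h ≠ 0 →
      ∃ g : Fin m → Polynomial k,
        ∑ j, g j * aeval (fun i => Polynomial.C (A i) + Polynomial.C (B i) * Polynomial.X) (f j) = 1 := by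
  classical
  set I := Ideal.span (Set.range f) with hI
  let S := MvPolynomial (Fin n) k ⧸ I
  let T := Polynomial S
  let φ : MvPolynomial (Fin n) k →ₐ[k] T :=
    aeval fun i => Polynomial.X * Polynomial.C (Ideal.Quotient.mk I (X i - C (A i)))
  have hninj : ¬ Function.Injective φ := by
    intro hinj
    have h1 := natCast_le_ringKrullDim k T n φ hinj
    rcases subsingleton_or_nontrivial S with hS | hS
    · haveI : Subsingleton T := inferInstance
      rw [ringKrullDim_eq_bot_of_subsingleton, le_bot_iff] at h1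
      exact WithBot.coe_ne_bot h1
    · have h2 : ringKrullDim T = ringKrullDim S + 1 := Polynomial.ringKrullDim_of_isNoetherianRing
      rw [h2] at h1
      have h3 := h1.trans' hcodim
      obtain ⟨d, hd⟩ : ∃ d : ℕ∞, ringKrullDim S = (d : WithBot ℕ∞) := by
        obtain ⟨d, hd⟩ := WithBot.ne_bot_iff_exists.mp (ne_bot_of_le_ne_bot WithBot.zero_ne_bot (ringKrullDim_nonneg_of_nontrivial (R := S)))
        exact ⟨d, hd.symm⟩
      change ringKrullDim S + 2 ≤ _ at hcodim
      rw [hd] at h3 hcodim
      have h4 : d + 2 ≤ d + 1 := WithBot.coe_le_coe.mp h3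
      have h5 : d + 2 ≤ (n : ℕ∞) := WithBot.coe_le_coe.mp hcodim
      lift d to ℕ using ne_of_lt (lt_of_le_of_lt (le_self_add.trans h5) (ENat.coe_lt_top n))
      norm_cast at h4
      omega
  obtain ⟨h, hh, hh0⟩ : ∃ h, φ h = 0 ∧ h ≠ 0 := by
    by_contra hc
    push Not at hc
    exact hninj ((injective_iff_map_eq_zero φ).mpr fun x hx => hc x hx)
  refine ⟨h, hh0, fun B hB => ?_⟩
  let L : Fin m → Polynomial k := fun j => aeval (fun i => Polynomial.C (A i) + Polynomial.C (B i) * Polynomial.X) (f j)
  have htop : Ideal.span (Set.range L) = ⊤ := by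
    by_contra hne
    obtain ⟨M, hM, hle⟩ := Ideal.exists_le_maximal _ hne
    let K := Polynomial k ⧸ M
    letI : Field K := Ideal.Quotient.field M
    set θ : K := Ideal.Quotient.mkₐ k M Polynomial.X with hθ
    let x : Fin n → K := fun i => algebraMap k K (A i) + algebraMap k K (B i) * θ
    have hx : ∀ j, aeval x (f j) = 0 := fun j => by
      have h1 : Ideal.Quotient.mkₐ k M (L j) = 0 :=
        Ideal.Quotient.eq_zero_iff_mem.mpr (hle (Ideal.subset_span ⟨j, rfl⟩))
      rw [← h1, ← AlgHom.comp_apply]
      refine congrArg (fun F : MvPolynomial (Fin n) k →ₐ[k] K => F (f j)) (algHom_ext fun i => ?_)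
      simp only [AlgHom.comp_apply, aeval_X, map_add, map_mul, x, θ]
      rfl
    by_cases hθ0 : θ = 0
    · obtain ⟨j, hj⟩ := hA
      apply hj
      have h1 := hx j
      rw [show x = fun i => algebraMap k K (A i) by funext i; simp [x, hθ0]] at h1
      rw [show (fun i => algebraMap k K (A i)) = algebraMap k K ∘ A from rfl, aeval_algebraMap_apply] at h1
      exact (_root_.map_eq_zero _).mp h1
    · let ρ : S →ₐ[k] K := Ideal.Quotient.liftₐ I (aeval x) fun z hz => by
        have : I ≤ RingHom.ker (aeval x : MvPolynomial (Fin n) k →ₐ[k] K).toRingHom := by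
          rw [hI, Ideal.span_le]
          rintro _ ⟨j, rfl⟩
          exact hx j
        exact this hz
      let χ : T →+* K := Polynomial.eval₂RingHom ρ.toRingHom θ⁻¹
      have h1 : ∀ p, χ (φ p) = aeval (fun i => algebraMap k K (B i)) p := fun p => by
        refine congrArg (fun F : MvPolynomial (Fin n) k →+* K => F p) (ringHom_ext (f := χ.comp φ.toRingHom)
          (g := (aeval fun i => algebraMap k K (B i)).toRingHom) (fun c => ?_) fun i => ?_)
        · show χ (φ (C c)) = aeval _ (C c)
          rw [aeval_C, aeval_C]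
          show Polynomial.eval₂ ρ.toRingHom θ⁻¹ (Polynomial.C (algebraMap k S c)) = _
          rw [Polynomial.eval₂_C]
          exact ρ.commutes c
        · show χ (φ (X i)) = aeval _ (X i)
          rw [aeval_X, aeval_X]
          show Polynomial.eval₂ ρ.toRingHom θ⁻¹ _ = _
          rw [Polynomial.eval₂_mul, Polynomial.eval₂_X, Polynomial.eval₂_C]
          show θ⁻¹ * aeval x (X i - C (A i)) = _
          rw [map_sub, aeval_X, aeval_C]
          simp only [x, add_sub_cancel_left]
          field_simp
      have h2 := h1 h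
      rw [hh, map_zero, show (fun i => algebraMap k K (B i)) = algebraMap k K ∘ B from rfl,
        aeval_algebraMap_apply] at h2
      exact hB ((_root_.map_eq_zero _).mp h2.symm)
  obtain ⟨g, hg⟩ := Submodule.mem_span_range_iff_exists_fun _ |>.mp ((Ideal.eq_top_iff_one _).mp htop)
  exact ⟨g, by simpa [L, smul_eq_mul] using hg⟩

end Groth.Agent.H23Strong
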