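import Groth.Agent.H23Strong.Tower
import Mathlib.NumberTheory.RamificationInertia.Galois
import Mathlib.FieldTheory.Galois.Basic
import Mathlib.FieldTheory.Finite.Basic

/-! # Decomposition groups at finite places -/

set_option autoImplicit false
set_option linter.style.haveILetI false

universe u

open IsDedekindDomain NumberField IntermediateField Polynomial
open scoped Pointwise

namespace Groth.Agent.H23Strong

variable {K N : Type u} [Field K] [NumberField K] [Field N] [NumberField N] [Algebra K N] [IsGalois K N]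

/-- The fixed field of a decomposition group embeds into the completion. -/
theorem exists_algHom_fixedField_stabilizer (v : HeightOneSpectrum (RingOfIntegers K))
    (Q : HeightOneSpectrum (RingOfIntegers N)) (hQv : Q.asIdeal.LiesOver v.asIdeal) :
    Nonempty (fixedField (MulAction.stabilizer (N ≃ₐ[K] N) Q.asIdeal) →ₐ[K] v.adicCompletion K) := by
  classical
  set D := MulAction.stabilizer (N ≃ₐ[K] N) Q.asIdeal with hD
  set M := fixedField D with hM
  haveI := hQv
  let q := placeUnder M Q
  haveI hQq : Q.asIdeal.LiesOver q.asIdeal := liesOver_placeUnder Q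
  have hqv : q.asIdeal.LiesOver v.asIdeal := Ideal.LiesOver.tower_bot Q.asIdeal q.asIdeal v.asIdeal
  -- an integer in `q` congruent to one at the other places above `v`
  obtain ⟨θ, hθ⟩ := IsDedekindDomain.exists_forall_sub_mem_ideal
    (s := (finite_above (K := M) v).toFinset) (fun R => R.asIdeal) (fun _ => 1)
    (fun R _ => Ideal.prime_of_isPrime R.ne_bot R.isPrime) (fun R _ R' _ h => fun h' => h (HeightOneSpectrum.ext h'))
    (fun R => if (R : HeightOneSpectrum (RingOfIntegers M)) = q then 0 else 1)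
  simp only [pow_one, Set.Finite.mem_toFinset] at hθ
  set θN : N := ((θ : M) : N) with hθN
  let θ' : RingOfIntegers N := algebraMap (RingOfIntegers M) (RingOfIntegers N) θ
  have hθ' : (θ' : N) = θN := rfl
  have hθq : θ ∈ q.asIdeal := by simpa using hθ q (placeUnder_eq hqv)
  have hθQ : θ' ∈ Q.asIdeal := by
    rw [Ideal.LiesOver.over (P := Q.asIdeal) (p := q.asIdeal)] at hθq
    exact hθq
  have hout : ∀ σ : N ≃ₐ[K] N, σ ∉ D → σ • θ' - 1 ∈ Q.asIdeal := by
    intro σ hσ
    let R : HeightOneSpectrum (RingOfIntegers N) := ⟨σ⁻¹ • Q.asIdeal, inferInstance, fun h => Q.ne_bot (by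
      have h' := congrArg (σ • ·) h
      simpa using h')⟩
    haveI hR : R.asIdeal.LiesOver v.asIdeal := inferInstanceAs ((σ⁻¹ • Q.asIdeal).LiesOver v.asIdeal)
    let r := placeUnder M R
    haveI hRr : R.asIdeal.LiesOver r.asIdeal := liesOver_placeUnder R
    have hrv : r.asIdeal.LiesOver v.asIdeal := Ideal.LiesOver.tower_bot R.asIdeal r.asIdeal v.asIdeal
    have hne : r ≠ q := by
      intro hrq
      haveI : R.asIdeal.LiesOver q.asIdeal := hrq ▸ hRr
      obtain ⟨τ, hτ⟩ := Ideal.exists_smul_eq_of_isGaloisGroup q.asIdeal Q.asIdeal R.asIdeal (N ≃ₐ[M] N)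
      have hτD : AlgEquiv.restrictScalars K τ ∈ D := by
        rw [← fixingSubgroup_fixedField D, IntermediateField.mem_fixingSubgroup_iff]
        exact fun x hx => τ.commutes ⟨x, hx⟩
      have h1 : (AlgEquiv.restrictScalars K τ) • Q.asIdeal = τ • Q.asIdeal := by
        rw [Ideal.pointwise_smul_def, Ideal.pointwise_smul_def]
        rfl
      rw [← h1, MulAction.mem_stabilizer_iff.mp hτD] at hτ
      exact hσ (inv_mem_iff.mp (MulAction.mem_stabilizer_iff.mpr hτ.symm))
    have h2 : θ - 1 ∈ r.asIdeal := by simpa [hne] using hθ r (placeUnder_eq hrv)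
    rw [Ideal.LiesOver.over (P := R.asIdeal) (p := r.asIdeal)] at h2
    have h3 : θ' - 1 ∈ σ⁻¹ • Q.asIdeal := by simpa [Ideal.mem_comap, θ'] using h2
    rw [Ideal.mem_inv_pointwise_smul_iff, smul_sub, smul_one] at h3
    exact h3
  have hfix : ∀ σ ∈ D, σ θN = θN := fun σ hσ => (mem_fixedField_iff D _).mp (θ : M).2 σ hσ
  have hneq : ∀ σ : N ≃ₐ[K] N, σ θN ≠ θN → Q.valuation N (θN - σ θN) = 1 := by
    intro σ hσ
    have hσD : σ ∉ D := fun h => hσ (hfix σ h)
    have h1 : Q.valuation N θN < 1 := (Q.valuation_lt_one_iff_mem θ').mpr hθQ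
    have h2 : Q.valuation N (σ θN - 1) < 1 := by
      have := (Q.valuation_lt_one_iff_mem (K := N) _).mpr (hout σ hσD)
      exact this
    have h3 : Q.valuation N (σ θN) = 1 := by
      have := Valuation.map_eq_of_sub_lt (Q.valuation N) (x := 1) (y := σ θN) (by rwa [map_one])
      rwa [map_one] at this
    rw [Valuation.map_sub_eq_of_lt_right _ (by rwa [h3]), h3]
  -- it generates the fixed field
  have hgen : adjoin K {θN} = M := by
    refine le_antisymm (adjoin_simple_le_iff.mpr (θ : M).2) ?_
    rw [← IsGalois.fixedField_fixingSubgroup (adjoin K {θN}), hM]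
    refine IntermediateField.fixedField_antitone fun σ hσ => ?_
    by_contra hσD
    have h1 : σ θN = θN := (IntermediateField.mem_fixingSubgroup_iff _ _).mp hσ _ (mem_adjoin_simple_self K θN)
    have h2 := hout σ hσD
    rw [show σ • θ' = θ' from RingOfIntegers.coe_injective h1] at h2
    refine Q.isPrime.ne_top ((Ideal.eq_top_iff_one _).mpr ?_)
    simpa using Ideal.sub_mem _ hθQ h2
  -- a simple root modulo `v`
  have hint : IsIntegral ℤ θN := RingOfIntegers.isIntegral_coe θ'
  have hintK : IsIntegral K θN := IsIntegral.of_finite K θN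
  set f := minpoly K θN with hf
  have hfc : ∀ i, v.valuation K (f.coeff i) ≤ 1 := fun i => by
    rw [hf, minpoly.isIntegrallyClosed_eq_field_fractions' (R := RingOfIntegers K) K hint.tower_top, coeff_map]
    exact v.valuation_le_one _
  have hfN : ∀ i, Q.valuation N ((f.map (algebraMap K N)).coeff i) ≤ 1 := fun i => by
    rw [coeff_map]
    exact (valuation_lift_le_iff hQv _).mpr (hfc i)
  have hθ1 : Q.valuation N θN < 1 := (Q.valuation_lt_one_iff_mem θ').mpr hθQ
  have h0 : v.valuation K (f.eval 0) < 1 := by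
    refine valuation_lt_of_lift hQv ?_
    have := valuation_poly_eval_sub_lt (Q.valuation N) _ hfN (x := θN) (y := 0) hθ1.le (by simp) (by simpa using hθ1)
    rw [eval_map, eval_map, ← aeval_def, minpoly.aeval, zero_sub, Valuation.map_neg, ← map_zero (algebraMap K N),
      eval₂_at_apply] at this
    exact this
  have hdN : ∀ i, Q.valuation N ((f.map (algebraMap K N)).derivative.coeff i) ≤ 1 := fun i => by
    rw [coeff_derivative, map_mul]
    refine mul_le_one₀ (hfN _) zero_le ?_
    have := Q.valuation_le_one (K := N) ((i : RingOfIntegers N) + 1)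
    simpa using this
  have hd1 : Q.valuation N ((f.map (algebraMap K N)).derivative.eval θN) = 1 := by
    have hsplit : (f.map (algebraMap K N)).Splits := Normal.splits (F := K) inferInstance θN
    have hmem : θN ∈ (f.map (algebraMap K N)).roots := by
      rw [mem_roots ((minpoly.monic hintK).map _).ne_zero, IsRoot, eval_map, ← aeval_def, minpoly.aeval]
    rw [hsplit.eval_root_derivative ((minpoly.monic hintK).map _) hmem, map_multiset_prod, Multiset.map_map]
    refine Multiset.prod_eq_one fun x hx => ?_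
    obtain ⟨r, hr, rfl⟩ := Multiset.mem_map.mp hx
    have hnd : (f.map (algebraMap K N)).roots.Nodup :=
      nodup_roots (Polynomial.Separable.map (Algebra.IsSeparable.isSeparable K θN))
    obtain ⟨hrne, hr'⟩ := (Multiset.Nodup.mem_erase_iff hnd).mp hr
    rw [mem_roots ((minpoly.monic hintK).map _).ne_zero, IsRoot, eval_map, ← aeval_def] at hr'
    obtain ⟨σ, hσ⟩ := minpoly.exists_algEquiv_of_root (Algebra.IsAlgebraic.isAlgebraic θN) hr'
    obtain rfl : r = σ.symm θN := by rw [← hσ, AlgEquiv.symm_apply_apply]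
    exact hneq σ.symm hrne
  have h1 : v.valuation K (f.derivative.eval 0) = 1 := by
    have h2 := valuation_poly_eval_sub_lt (Q.valuation N) _ hdN (x := θN) (y := 0) hθ1.le (by simp) (by simpa using hθ1)
    have h3 : Q.valuation N ((f.map (algebraMap K N)).derivative.eval 0) = 1 := by
      have := Valuation.map_eq_of_sub_lt (Q.valuation N) (x := (f.map (algebraMap K N)).derivative.eval θN)
        (y := (f.map (algebraMap K N)).derivative.eval 0) (by rwa [Valuation.map_sub_swap, hd1])
      rwa [hd1] at this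
    rw [derivative_map, eval_map, ← map_zero (algebraMap K N), eval₂_at_apply] at h3
    exact le_antisymm ((valuation_lift_le_iff hQv _).mp h3.le) (not_lt.mp fun h => by
      have := valuation_lift_lt hQv h
      rw [h3] at this
      exact lt_irrefl _ this)
  obtain ⟨r, hr⟩ := exists_root_of_approx (v := v) (f.map (algebraMap K (v.adicCompletion K)))
    (fun i => by rw [coeff_map, valued_algebraMap]; exact hfc i) 0 (by simp)
    (by rw [eval_map, ← map_zero (algebraMap K (v.adicCompletion K)), eval₂_at_apply, valued_algebraMap]; exact h0)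
    (by rw [derivative_map, eval_map, ← map_zero (algebraMap K (v.adicCompletion K)), eval₂_at_apply,
      valued_algebraMap]; exact h1)
  let φ : adjoin K {θN} →ₐ[K] v.adicCompletion K := (algHomAdjoinIntegralEquiv K hintK).symm
    ⟨r, mem_aroots.mpr ⟨minpoly.ne_zero hintK, by rwa [eval_map, ← aeval_def] at hr⟩⟩
  exact ⟨φ.comp (equivOfEq hgen.symm).toAlgHom⟩

/-- At a place unramified in `L`, inertia in `N` fixes the image of `L`. -/
theorem inertia_fixes_image {L : Type u} [Field L] [NumberField L] [Algebra K L]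
    (v : HeightOneSpectrum (RingOfIntegers K)) (Q : HeightOneSpectrum (RingOfIntegers N))
    (hQv : Q.asIdeal.LiesOver v.asIdeal)
    (hram : ∀ P : Ideal (RingOfIntegers L), P.IsPrime → P.LiesOver v.asIdeal →
      P.ramificationIdx (RingOfIntegers K) = 1)
    (ψ : L →ₐ[K] N) {σ : N ≃ₐ[K] N} (hσ : σ ∈ Q.asIdeal.inertia (N ≃ₐ[K] N)) (x : L) : σ (ψ x) = ψ x := by
  classical
  letI : Algebra L N := ψ.toRingHom.toAlgebra
  haveI : IsScalarTower K L N := IsScalarTower.of_algebraMap_eq fun a => (ψ.commutes a).symm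
  haveI : IsGalois L N := IsGalois.tower_top_of_isGalois K L N
  haveI := hQv
  let P := placeUnder L Q
  haveI hQP : Q.asIdeal.LiesOver P.asIdeal := liesOver_placeUnder Q
  haveI hPv : P.asIdeal.LiesOver v.asIdeal := Ideal.LiesOver.tower_bot Q.asIdeal P.asIdeal v.asIdeal
  haveI : Finite (RingOfIntegers K ⧸ v.asIdeal) := Ideal.finiteQuotientOfFreeOfNeBot v.asIdeal v.ne_bot
  haveI : Finite (RingOfIntegers L ⧸ P.asIdeal) := Ideal.finiteQuotientOfFreeOfNeBot P.asIdeal P.ne_bot
  have hcard : Nat.card (Q.asIdeal.inertia (N ≃ₐ[L] N)) = Nat.card (Q.asIdeal.inertia (N ≃ₐ[K] N)) := by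
    rw [Ideal.card_inertia_eq_ramificationIdxIn P.asIdeal Q.asIdeal,
      Ideal.card_inertia_eq_ramificationIdxIn v.asIdeal Q.asIdeal,
      Ideal.ramificationIdxIn_eq_ramificationIdx P.asIdeal Q.asIdeal (N ≃ₐ[L] N),
      Ideal.ramificationIdxIn_eq_ramificationIdx v.asIdeal Q.asIdeal (N ≃ₐ[K] N),
      Ideal.ramificationIdx_tower (R := RingOfIntegers K) (q := P.asIdeal) (r := Q.asIdeal),
      hram P.asIdeal P.isPrime hPv, one_mul]
  let res : Q.asIdeal.inertia (N ≃ₐ[L] N) → Q.asIdeal.inertia (N ≃ₐ[K] N) := fun τ =>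
    ⟨AlgEquiv.restrictScalars K τ.1, fun y => τ.2 y⟩
  have hinj : Function.Injective res := fun τ τ' h =>
    Subtype.ext (AlgEquiv.restrictScalars_injective K (congrArg Subtype.val h))
  obtain ⟨τ, hτ⟩ := (hinj.bijective_of_nat_card_le hcard.ge).2 ⟨σ, hσ⟩
  rw [show σ = AlgEquiv.restrictScalars K τ.1 from (congrArg Subtype.val hτ).symm]
  exact τ.1.commutes x

attribute [local instance] Ideal.Quotient.field in
/-- A decomposition group with trivial inertia is cyclic. -/
theorem isCyclic_stabilizer (v : HeightOneSpectrum (RingOfIntegers K)) (Q : HeightOneSpectrum (RingOfIntegers N))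
    (hQv : Q.asIdeal.LiesOver v.asIdeal) (hI : Q.asIdeal.inertia (N ≃ₐ[K] N) = ⊥) :
    IsCyclic (MulAction.stabilizer (N ≃ₐ[K] N) Q.asIdeal) := by
  haveI := hQv
  haveI : v.asIdeal.IsMaximal := v.isMaximal
  haveI : Q.asIdeal.IsMaximal := Q.isMaximal
  haveI : Finite (RingOfIntegers N ⧸ Q.asIdeal) := Ideal.finiteQuotientOfFreeOfNeBot Q.asIdeal Q.ne_bot
  refine isCyclic_of_injective (Ideal.Quotient.stabilizerHom Q.asIdeal v.asIdeal (N ≃ₐ[K] N)) ?_
  rw [← MonoidHom.ker_eq_bot_iff, Ideal.Quotient.ker_stabilizerHom, eq_bot_iff]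
  intro σ hσ
  rw [Subgroup.mem_bot]
  refine Subtype.ext ?_
  have : (σ : N ≃ₐ[K] N) ∈ Q.asIdeal.inertia (N ≃ₐ[K] N) := fun y => hσ y
  rwa [hI, Subgroup.mem_bot] at this

end Groth.Agent.H23Strong
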