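import Groth.Agent.H23Strong.Value
import Mathlib.Algebra.Polynomial.Identities

/-! # Units are local norms at unramified places -/

set_option autoImplicit false
set_option linter.style.haveILetI false

universe u

open IsDedekindDomain NumberField WithZero TensorProduct Filter
open scoped Topology

namespace Groth.Agent.H23Strong

variable {k K : Type u} [Field k] [NumberField k] [Field K] [NumberField K] [Algebra k K]

/-- Functionals take small values on elements small above a place. -/
theorem exists_functional_small (v : HeightOneSpectrum (RingOfIntegers k)) (φ : K →ₗ[k] k) (j : ℕ) :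
    ∃ N : ℕ, ∀ z : K, (∀ W : HeightOneSpectrum (RingOfIntegers K), W.asIdeal.LiesOver v.asIdeal →
      W.valuation K z ≤ exp (-(N : ℤ))) → v.valuation k (φ z) ≤ exp (-(j : ℤ)) := by
  obtain ⟨π, hπ⟩ := v.valuation_exists_uniformizer k
  have hπ0 : π ≠ 0 := fun h => by rw [h, map_zero] at hπ; exact exp_ne_zero hπ.symm
  obtain ⟨N, hN⟩ := exists_functional_bound v ((π ^ j)⁻¹ • φ)
  refine ⟨N, fun z hz => ?_⟩
  have h := hN z hz
  rw [LinearMap.smul_apply, smul_eq_mul, map_mul, map_inv₀, map_pow, hπ, ← exp_nsmul,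
    ← div_eq_inv_mul, div_le_iff₀ exp_pos, one_mul] at h
  simpa using h

/-- One step of the iteration for roots of elements close to one. -/
theorem root_step (W : HeightOneSpectrum (RingOfIntegers K)) (m M n : ℕ) (hm : 1 ≤ m)
    (hM : exp (-(M : ℤ)) ≤ W.valuation K (m : K)) (z w : K)
    (hw : W.valuation K (w - 1) ≤ exp (-1 : ℤ))
    (hz : W.valuation K (z - w ^ m) ≤ exp (-((2 * M + 1 + n : ℕ) : ℤ))) :
    W.valuation K ((z - w ^ m) / m) ≤ exp (-((M + 1 + n : ℕ) : ℤ)) ∧
      W.valuation K (w + (z - w ^ m) / m - 1) ≤ exp (-1 : ℤ) ∧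
      W.valuation K (z - (w + (z - w ^ m) / m) ^ m) ≤ exp (-((2 * M + 1 + (n + 1) : ℕ) : ℤ)) := by
  classical
  set V := W.valuation K
  have hm0 : (m : K) ≠ 0 := Nat.cast_ne_zero.mpr (by omega)
  set δ := (z - w ^ m) / (m : K) with hδdef
  have hδ : V δ ≤ exp (-((M + 1 + n : ℕ) : ℤ)) := by
    rw [hδdef, map_div₀, div_le_iff₀ (zero_lt_iff.mpr ((Valuation.ne_zero_iff _).mpr hm0))]
    refine hz.trans (le_trans (le_of_eq ?_) (mul_le_mul_right hM _))
    rw [← exp_add]
    congr 1
    push_cast
    ring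
  have h1 : exp (-1 : ℤ) < (1 : WithZero (Multiplicative ℤ)) := by rw [← exp_zero, exp_lt_exp]; omega
  have hw1 : V w = 1 := by
    have := Valuation.map_eq_of_sub_lt V (x := 1) (y := w) (by rw [map_one]; exact lt_of_le_of_lt hw h1)
    rwa [map_one] at this
  have hδ1 : V δ ≤ exp (-1 : ℤ) := hδ.trans (by rw [exp_le_exp]; push_cast; omega)
  refine ⟨hδ, ?_, ?_⟩
  · rw [add_sub_right_comm]
    exact Valuation.map_add_le _ hw hδ1
  · let A := V.valuationSubring
    let w' : A := ⟨w, hw1.le⟩
    let δ' : A := ⟨δ, hδ1.trans h1.le⟩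
    obtain ⟨r, hr⟩ := Polynomial.powAddExpansion w' δ' m
    have hr' := congrArg (Subtype.val : A → K) hr
    push_cast [w', δ'] at hr'
    have hmδ : (m : K) * δ = z - w ^ m := by rw [hδdef, mul_div_cancel₀ _ hm0]
    rw [show z - (w + δ) ^ m = (z - w ^ m) * (1 - w ^ (m - 1)) - (r : K) * δ ^ 2 by
      rw [hr']; linear_combination (-(w ^ (m - 1))) * hmδ]
    refine Valuation.map_sub_le _ ?_ ?_
    · rw [map_mul]
      have hpow : V (1 - w ^ (m - 1)) ≤ exp (-1 : ℤ) := by
        rw [Valuation.map_sub_swap, ← geom_sum_mul, map_mul]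
        refine (mul_le_of_le_one_left zero_le ?_).trans hw
        exact Valuation.map_sum_le _ fun i _ => by rw [map_pow, hw1, one_pow]
      refine (mul_le_mul' hz hpow).trans (le_of_eq ?_)
      rw [← exp_add]
      congr 1
      push_cast
      ring
    · rw [map_mul, map_pow]
      refine (mul_le_of_le_one_left zero_le r.2).trans ((pow_le_pow_left₀ zero_le hδ 2).trans ?_)
      rw [← exp_nsmul, exp_le_exp]
      push_cast [nsmul_eq_mul]
      omega

theorem exists_root_near_one (v : HeightOneSpectrum (RingOfIntegers k)) (m : ℕ) (hm : 1 ≤ m) :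
    ∃ N : ℕ, ∀ z : K, (∀ W : HeightOneSpectrum (RingOfIntegers K), W.asIdeal.LiesOver v.asIdeal →
      W.valuation K (z - 1) ≤ exp (-(N : ℤ))) →
      ∃ w : (v.adicCompletion k) ⊗[k] K, w ^ m = (1 : v.adicCompletion k) ⊗ₜ[k] z := by
  classical
  let M : ℕ := ∑ W ∈ (finite_above (K := K) v).toFinset, (log (W.valuation K (m : K))).natAbs
  have hM : ∀ W : HeightOneSpectrum (RingOfIntegers K), W.asIdeal.LiesOver v.asIdeal →
      exp (-(M : ℤ)) ≤ W.valuation K (m : K) := fun W hW => by
    have hne : W.valuation K (m : K) ≠ 0 :=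
      (Valuation.ne_zero_iff _).mpr (Nat.cast_ne_zero.mpr (by omega))
    have h1 : (log (W.valuation K (m : K))).natAbs ≤ M :=
      Finset.single_le_sum (f := fun W : HeightOneSpectrum (RingOfIntegers K) =>
        (log (W.valuation K (m : K))).natAbs) (fun _ _ => Nat.zero_le _)
        ((Set.Finite.mem_toFinset _).mpr (placeUnder_eq hW))
    rw [← exp_log hne, exp_le_exp]
    omega
  refine ⟨2 * M + 1, fun z hz => ?_⟩
  let seq : ℕ → K := fun n => Nat.rec (1 : K) (fun _ w => w + (z - w ^ m) / m) n
  have hinv : ∀ n, ∀ W : HeightOneSpectrum (RingOfIntegers K), W.asIdeal.LiesOver v.asIdeal →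
      W.valuation K (seq n - 1) ≤ exp (-1 : ℤ) ∧
        W.valuation K (z - seq n ^ m) ≤ exp (-((2 * M + 1 + n : ℕ) : ℤ)) := by
    intro n W hW
    induction n with
    | zero =>
      refine ⟨by show W.valuation K (1 - 1) ≤ _; rw [sub_self, map_zero]; exact zero_le, ?_⟩
      show W.valuation K (z - 1 ^ m) ≤ _
      rw [one_pow]
      exact hz W hW
    | succ n ih => exact (root_step W m M n hm (hM W hW) z _ ih.1 ih.2).2
  have hd : ∀ n, ∀ W : HeightOneSpectrum (RingOfIntegers K), W.asIdeal.LiesOver v.asIdeal →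
      W.valuation K (seq (n + 1) - seq n) ≤ exp (-(n : ℤ)) := fun n W hW => by
    show W.valuation K (seq n + (z - seq n ^ m) / m - seq n) ≤ _
    rw [add_sub_cancel_left]
    exact (root_step W m M n hm (hM W hW) z _ (hinv n W hW).1 (hinv n W hW).2).1.trans
      (by rw [exp_le_exp]; push_cast; omega)
  let F := v.adicCompletion k
  let β := Module.finBasis k K
  -- the coordinates converge
  have hsmall : ∀ (g : ℕ → K), (∀ n, ∀ W : HeightOneSpectrum (RingOfIntegers K), W.asIdeal.LiesOver v.asIdeal →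
      W.valuation K (g n) ≤ exp (-(n : ℤ))) → ∀ (l) (j : ℕ), ∃ N, ∀ n ≥ N,
        Valued.v (algebraMap k F (β.coord l (g n))) ≤ exp (-(j : ℤ)) := fun g hg l j => by
    obtain ⟨N, hN⟩ := exists_functional_small v (β.coord l) j
    refine ⟨N, fun n hn => ?_⟩
    rw [valued_algebraMap]
    exact hN _ fun W hW => (hg n W hW).trans (by rw [exp_le_exp]; omega)
  have hcau : ∀ l, CauchySeq fun n => algebraMap k F (β.coord l (seq n)) := fun l => by
    rw [cauchySeq_iff_tendsto, uniformity_eq_comap_nhds_zero, tendsto_comap_iff, tendsto_def]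
    intro U hU
    obtain ⟨j, hj⟩ := exists_ball hU
    obtain ⟨N, hN⟩ := hsmall _ hd l j
    have key : ∀ n ≥ N, ∀ t, Valued.v (algebraMap k F (β.coord l (seq (n + t))) -
        algebraMap k F (β.coord l (seq n))) ≤ exp (-(j : ℤ)) := by
      intro n hn t
      induction t with
      | zero => rw [add_zero, sub_self, map_zero]; exact zero_le
      | succ t ih =>
        rw [← sub_add_sub_cancel _ (algebraMap k F (β.coord l (seq (n + t)))) _]
        refine Valuation.map_add_le _ ?_ ih
        rw [← map_sub, ← map_sub]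
        exact hN (n + t) (by omega)
    refine mem_atTop_sets.mpr ⟨(N, N), fun p hp => ?_⟩
    obtain ⟨hp1, hp2⟩ : N ≤ p.1 ∧ N ≤ p.2 := hp
    refine hj _ ?_
    rw [sub_zero]
    show Valued.v (algebraMap k F (β.coord l (seq p.2)) - algebraMap k F (β.coord l (seq p.1))) ≤ _
    rcases le_total p.1 p.2 with h | h
    · obtain ⟨t, ht⟩ := Nat.exists_eq_add_of_le h
      rw [ht]; exact key _ hp1 t
    · obtain ⟨t, ht⟩ := Nat.exists_eq_add_of_le h
      rw [Valuation.map_sub_swap, ht]; exact key _ hp2 t
  choose c hc using fun l => cauchySeq_tendsto_of_complete (hcau l)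
  letI : TopologicalSpace (F ⊗[k] K) := moduleTopology F _
  haveI : IsModuleTopology F (F ⊗[k] K) := ⟨rfl⟩
  haveI : IsTopologicalRing (F ⊗[k] K) := IsModuleTopology.isTopologicalRing F _
  let comb : (Fin (Module.finrank k K) → F) → F ⊗[k] K := fun u => ∑ l, u l • ((1 : F) ⊗ₜ[k] β l)
  have hcomb : ∀ x : K, comb (fun l => algebraMap k F (β.coord l x)) = (1 : F) ⊗ₜ[k] x := fun x => by
    conv_rhs => rw [← β.sum_repr x, TensorProduct.tmul_sum]
    refine Finset.sum_congr rfl fun l _ => ?_
    rw [algebraMap_smul, TensorProduct.smul_tmul', TensorProduct.smul_tmul, Module.Basis.coord_apply]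
  refine ⟨comb c, ?_⟩
  have hext : ∀ s t : F ⊗[k] K, (∀ l, extFun F (β.coord l) s = extFun F (β.coord l) t) → s = t := by
    have hrepr : ∀ l (s : F ⊗[k] K), (β.baseChange F).repr s l = extFun F (β.coord l) s := fun l s => by
      induction s using TensorProduct.induction_on with
      | zero => simp
      | tmul f x => rw [Module.Basis.baseChange_repr_tmul, extFun_tmul, Module.Basis.coord_apply]
      | add s t hs ht => rw [map_add, map_add, Finsupp.add_apply, hs, ht]
    exact fun s t h => (β.baseChange F).ext_elem fun l => by rw [hrepr, hrepr, h l]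
  refine hext _ _ fun l => ?_
  have hcont : Continuous fun u => extFun F (β.coord l) (comb u ^ m) :=
    (continuous_extFun F _).comp ((show Continuous comb from continuous_finsetSum _ fun l _ =>
      by exact (continuous_apply l).smul (continuous_const (y := (1 : F) ⊗ₜ[k] β l))).pow m)
  have h1 := (hcont.tendsto c).comp (tendsto_pi_nhds.mpr hc)
  have h2 : Tendsto (fun n => extFun F (β.coord l) (comb (fun l => algebraMap k F (β.coord l (seq n))) ^ m))
      atTop (𝓝 (extFun F (β.coord l) ((1 : F) ⊗ₜ[k] z))) := by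
    rw [tendsto_def]
    intro U hU
    obtain ⟨j, hj⟩ := exists_ball hU
    obtain ⟨N, hN⟩ := hsmall (fun n => seq n ^ m - z) (fun n W hW => by
      rw [Valuation.map_sub_swap]
      exact (hinv n W hW).2.trans (by rw [exp_le_exp]; push_cast; omega)) l j
    refine mem_atTop_sets.mpr ⟨N, fun n hn => hj _ ?_⟩
    simp only [hcomb, Algebra.TensorProduct.tmul_pow, one_pow, extFun_one_tmul, ← map_sub]
    exact hN n hn
  exact tendsto_nhds_unique h1 h2

variable {L : Type u} [Field L] [NumberField L] [Algebra K L] [Algebra k L] [IsScalarTower k K L]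

/-- A unit at all unramified places above `v` is the norm of a unit after completing at `v`. -/
theorem exists_norm_eq_at (v : HeightOneSpectrum (RingOfIntegers k)) (c : K)
    (hc : ∀ W : HeightOneSpectrum (RingOfIntegers K), W.asIdeal.LiesOver v.asIdeal → W.valuation K c = 1)
    (hram : ∀ W : HeightOneSpectrum (RingOfIntegers K), W.asIdeal.LiesOver v.asIdeal →
      ∀ Q : Ideal (RingOfIntegers L), Q.IsPrime → Q.LiesOver W.asIdeal → Q.ramificationIdx (RingOfIntegers K) = 1) :
    letI := towerAlg k K L (v.adicCompletion k)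
    ∃ x : (v.adicCompletion k) ⊗[k] L, IsUnit x ∧
      Algebra.norm ((v.adicCompletion k) ⊗[k] K) x = (1 : v.adicCompletion k) ⊗ₜ[k] c := by
  classical
  let F := v.adicCompletion k
  letI := towerAlg k K L F
  have hm : 1 ≤ Module.finrank K L := Module.finrank_pos
  obtain ⟨N, hN⟩ := exists_root_near_one (K := K) v (Module.finrank K L) hm
  obtain ⟨x, hx⟩ := exists_norm_near_above (L := L) v c (N + 1) hc hram
  have hlt : ∀ W : HeightOneSpectrum (RingOfIntegers K), W.asIdeal.LiesOver v.asIdeal →
      W.valuation K (Algebra.norm K x - c) < W.valuation K c := fun W hW => by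
    rw [hc W hW]
    exact lt_of_le_of_lt (hx W hW) (by rw [← exp_zero, exp_lt_exp]; push_cast; omega)
  have hnx : ∀ W : HeightOneSpectrum (RingOfIntegers K), W.asIdeal.LiesOver v.asIdeal →
      W.valuation K (Algebra.norm K x) = 1 := fun W hW => by
    rw [Valuation.map_eq_of_sub_lt _ (hlt W hW), hc W hW]
  haveI : v.asIdeal.IsMaximal := v.isMaximal
  obtain ⟨P, hPp, hPv⟩ := (inferInstance : Nonempty (v.asIdeal.primesOver (RingOfIntegers K)))
  have hP0 : P ≠ ⊥ := Ideal.ne_bot_of_mem_primesOver v.ne_bot ⟨hPp, hPv⟩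
  have hne : Algebra.norm K x ≠ 0 := fun h => by
    have := hnx ⟨P, hPp, hP0⟩ hPv
    rw [h, map_zero] at this
    exact zero_ne_one this
  have hx0 : x ≠ 0 := fun h => hne (by rw [h, Algebra.norm_zero])
  obtain ⟨w, hw⟩ := hN (c / Algebra.norm K x) fun W hW => by
    rw [div_sub_one hne, map_div₀, hnx W hW, div_one, Valuation.map_sub_swap]
    exact (hx W hW).trans (by rw [exp_le_exp]; push_cast; omega)
  obtain ⟨B, -⟩ := exists_towerBasis (k := k) F (Module.finBasis K L)
  have hwu : IsUnit w := by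
    rw [← isUnit_pow_iff (n := Module.finrank K L) (by omega), hw]
    refine (isUnit_iff_ne_zero.mpr ?_).map (Algebra.TensorProduct.includeRight (R := k) (A := F) (B := K))
    obtain hc0 := hc ⟨P, hPp, hP0⟩ hPv
    refine div_ne_zero (fun h => ?_) hne
    rw [h, map_zero] at hc0
    exact zero_ne_one hc0
  refine ⟨algebraMap (F ⊗[k] K) (F ⊗[k] L) w * (1 : F) ⊗ₜ[k] x, (hwu.map _).mul
    ((isUnit_iff_ne_zero.mpr hx0).map (Algebra.TensorProduct.includeRight (R := k) (A := F) (B := L))), ?_⟩
  rw [map_mul, Algebra.norm_algebraMap_of_basis B, Fintype.card_fin, norm_tower_tmul, hw,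
    Algebra.TensorProduct.tmul_mul_tmul, one_mul, div_mul_cancel₀ _ hne]

end Groth.Agent.H23Strong
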