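import Groth.Agent.H23Strong.DegreeOne
import Mathlib.NumberTheory.NumberField.Ideal.Basic

/-! # Approximation by norms that are units away from places of degree one -/

set_option autoImplicit false

universe u v

open IsDedekindDomain NumberField WithZero Polynomial TensorProduct

namespace Groth.Agent.H23Strong

variable {k L : Type u} [Field k] [NumberField k] [Field L] [NumberField L] [Algebra k L]

/-- Any translate by a rational integer multiple has a nonunit value for infinitely many multipliers. -/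
theorem exists_nonunit_one_sub (θ : RingOfIntegers L) (hθ : θ ≠ 0) {M : ℕ} (hM : M ≠ 0) :
    ∃ r : ℕ, 0 < r ∧ ¬ IsUnit (1 - ((r * M : ℕ) : RingOfIntegers L) * θ) := by
  classical
  by_contra hcon
  push Not at hcon
  let b := Module.finBasis ℚ L
  let P := (Algebra.leftMulMatrix b (θ : L)).charpoly
  let d := Module.finrank ℚ L
  have hPm : P.Monic := Matrix.charpoly_monic _
  have hP : ∀ m : ℕ, 0 < m → IsUnit (1 - (m : RingOfIntegers L) * θ) →
      (P ^ 2 - X ^ (2 * d)).eval ((1 : ℚ) / m) = 0 := by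
    intro m hm hu
    have hm0 : (m : ℚ) ≠ 0 := by exact_mod_cast hm.ne'
    have hnorm := hu.map (Algebra.norm ℤ)
    have hN : (Algebra.norm ℚ) ((1 - (m : RingOfIntegers L) * θ : RingOfIntegers L) : L) =
        (Algebra.norm ℤ (1 - (m : RingOfIntegers L) * θ) : ℚ) := (Algebra.coe_norm_int _).symm
    have hsq : (Algebra.norm ℚ) ((1 - (m : RingOfIntegers L) * θ : RingOfIntegers L) : L) ^ 2 = 1 := by
      rw [hN]
      rcases Int.isUnit_iff.mp hnorm with h | h <;> rw [h] <;> norm_num
    have hval : P.eval ((1 : ℚ) / m) * (m : ℚ) ^ d =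
        (Algebra.norm ℚ) ((1 - (m : RingOfIntegers L) * θ : RingOfIntegers L) : L) := by
      rw [Matrix.eval_charpoly, show Matrix.scalar _ ((1 : ℚ) / m) = Algebra.leftMulMatrix b (algebraMap ℚ L (1 / m)) by
        rw [AlgHom.commutes]; rfl, ← map_sub, ← Algebra.norm_eq_matrix_det b, ← Algebra.norm_algebraMap (S := L),
        ← map_mul]
      congr 1
      rw [sub_mul, ← map_mul, div_mul_cancel₀ _ hm0, map_one]
      simp [mul_comm]
    rw [← hval, mul_pow] at hsq
    rw [eval_sub, eval_pow, eval_pow, eval_X, sub_eq_zero, div_pow, one_pow, eq_div_iff (pow_ne_zero _ hm0),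
      mul_comm 2 d, pow_mul]
    exact hsq
  have hzero : P ^ 2 - X ^ (2 * d) = 0 := by
    refine Polynomial.eq_zero_of_infinite_isRoot _ (Set.Infinite.mono ?_ (Set.infinite_range_of_injective
      (f := fun r : ℕ => (1 : ℚ) / (((r + 1) * M : ℕ) : ℚ)) fun a b h => ?_))
    · rintro _ ⟨r, rfl⟩
      refine hP _ (Nat.mul_pos r.succ_pos (Nat.pos_of_ne_zero hM)) ?_
      exact hcon (r + 1) r.succ_pos
    · simp only [one_div, inv_inj, Nat.cast_inj] at h
      exact Nat.add_right_cancel (Nat.eq_of_mul_eq_mul_right (Nat.pos_of_ne_zero hM) h)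
  have h0 : P.eval 0 = 0 := by
    have h1 := congrArg (fun p : Polynomial ℚ => p.eval 0) hzero
    simp only [eval_sub, eval_pow, eval_X, eval_zero] at h1
    rw [zero_pow (Nat.mul_ne_zero two_ne_zero Module.finrank_pos.ne'), sub_zero] at h1
    exact pow_eq_zero_iff two_ne_zero |>.mp h1
  have h2 : Algebra.norm ℚ (θ : L) = 0 := by
    rw [Algebra.norm_eq_matrix_det b, Matrix.det_eq_sign_charpoly_coeff, coeff_zero_eq_eval_zero, h0, mul_zero]
  exact hθ (RingOfIntegers.coe_injective ((Algebra.norm_eq_zero_iff.mp h2).trans (map_zero _).symm))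

variable (k L) in
/-- There are places of degree one outside any finite set. -/
theorem exists_degreeOne_place (E : Finset (HeightOneSpectrum (RingOfIntegers k))) :
    ∃ v, v ∉ E ∧ Nonempty (L →ₐ[k] v.adicCompletion k) := by
  classical
  obtain ⟨θ, hθ0, hθint, hθ⟩ := exists_integral_primitive k L
  obtain ⟨a, b, hab⟩ := exists_bezout (k := k) θ
  let E' := E ∪ (finite_valuation_gt a).toFinset ∪ (finite_valuation_gt b).toFinset
  let M : ℕ := ∏ v ∈ E', Ideal.absNorm v.asIdeal
  have hM : M ≠ 0 := Finset.prod_ne_zero_iff.mpr fun v _ => by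
    rw [ne_eq, Ideal.absNorm_eq_zero_iff]
    exact v.ne_bot
  obtain ⟨r, -, hnu⟩ := exists_nonunit_one_sub (⟨θ, hθint⟩ : RingOfIntegers L)
    (fun h => hθ0 (congrArg (fun x : RingOfIntegers L => (x : L)) h)) hM
  obtain ⟨P, hP, hmem⟩ := exists_max_ideal_of_mem_nonunits (mem_nonunits_iff.mpr hnu)
  haveI := hP
  haveI : Algebra.IsIntegral (RingOfIntegers k) (RingOfIntegers L) := inferInstance
  let v : HeightOneSpectrum (RingOfIntegers k) :=
    ⟨P.comap (algebraMap (RingOfIntegers k) (RingOfIntegers L)), Ideal.comap_isPrime _ _, fun h =>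
      Ring.ne_bot_of_isMaximal_of_not_isField hP (RingOfIntegers.not_isField L) (Ideal.eq_bot_of_comap_eq_bot h)⟩
  have hMv : algebraMap (RingOfIntegers k) (RingOfIntegers L) ((r * M : ℕ) : RingOfIntegers k) ∉ P := fun h => by
    rw [map_natCast] at h
    refine hP.ne_top ((Ideal.eq_top_iff_one P).mpr ?_)
    have h2 : (1 - ((r * M : ℕ) : RingOfIntegers L) * ⟨θ, hθint⟩) + ((r * M : ℕ) : RingOfIntegers L) * ⟨θ, hθint⟩ ∈ P :=
      add_mem hmem (P.mul_mem_right _ h)
    rwa [sub_add_cancel] at h2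
  have hvE : v ∉ E' := fun hv => hMv (by
    have h1 : ((M : ℕ) : RingOfIntegers k) ∈ v.asIdeal := by
      obtain ⟨q, hq⟩ : Ideal.absNorm v.asIdeal ∣ M := Finset.dvd_prod_of_mem _ hv
      rw [hq, Nat.cast_mul]
      exact Ideal.mul_mem_right _ _ (Ideal.absNorm_mem _)
    rw [Nat.cast_mul]
    exact (Ideal.mul_mem_left _ _ h1 : _ ∈ v.asIdeal))
  refine ⟨v, fun h => hvE (Finset.mem_union_left _ (Finset.mem_union_left _ h)), ?_⟩
  have hval : ∀ q : Polynomial k, v ∉ (finite_valuation_gt q).toFinset → ∀ i, v.valuation k (q.coeff i) ≤ 1 :=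
    fun q hq i => not_lt.mp fun h => hq (by rw [Set.Finite.mem_toFinset]; exact ⟨i, h⟩)
  have hintO : IsIntegral (RingOfIntegers k) θ := hθint.tower_top
  have hmin : minpoly k θ = (minpoly (RingOfIntegers k) θ).map (algebraMap (RingOfIntegers k) k) :=
    minpoly.isIntegrallyClosed_eq_field_fractions' k hintO
  set m : RingOfIntegers k := ((r * M : ℕ) : RingOfIntegers k) with hm
  have hmv : m ∉ v.asIdeal := hMv
  have hmk : algebraMap (RingOfIntegers k) k m ≠ 0 := fun h => hmv (by
    rw [IsFractionRing.injective (RingOfIntegers k) k (h.trans (map_zero _).symm)]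
    exact zero_mem _)
  set F := (minpoly (RingOfIntegers k) θ).scaleRoots m with hFdef
  have hFP : F.eval 1 ∈ v.asIdeal := by
    show algebraMap (RingOfIntegers k) (RingOfIntegers L) (F.eval 1) ∈ P
    set θ' : RingOfIntegers L := ⟨θ, hθint⟩
    have h0 : aeval θ' (minpoly (RingOfIntegers k) θ) = 0 := by
      apply RingOfIntegers.coe_injective
      rw [← Polynomial.aeval_algebraMap_apply, map_zero]
      exact minpoly.aeval _ θ
    have h1 := Polynomial.scaleRoots_aeval_eq_zero (r := m) h0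
    rw [aeval_def, ← eval_map] at h1
    have h2 := Polynomial.sub_dvd_eval_sub (1 : RingOfIntegers L)
      (algebraMap (RingOfIntegers k) (RingOfIntegers L) m * θ') (F.map (algebraMap (RingOfIntegers k) _))
    rw [h1, sub_zero, eval_map, ← map_one (algebraMap (RingOfIntegers k) (RingOfIntegers L)), eval₂_at_apply,
      map_one] at h2
    obtain ⟨t, ht⟩ := h2
    rw [ht]
    refine Ideal.mul_mem_right _ _ ?_
    rw [hm, map_natCast]
    exact hmem
  have hvm : v.valuation k (algebraMap (RingOfIntegers k) k m) = 1 := (v.valuation_eq_one_iff_notMem).mpr hmv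
  refine degreeOne_of_lt_one v hθ hab (fun i => ?_)
    (hval a fun h => hvE (Finset.mem_union_left _ (Finset.mem_union_right _ h)))
    (hval b fun h => hvE (Finset.mem_union_right _ h))
    ((algebraMap (RingOfIntegers k) k m)⁻¹) (by rw [map_inv₀, hvm, inv_one]) ?_
  · rw [hmin, coeff_map]
    exact v.valuation_le_one _
  · have h1 : algebraMap (RingOfIntegers k) k (F.eval 1) =
        algebraMap (RingOfIntegers k) k m ^ (minpoly (RingOfIntegers k) θ).natDegree *
          (minpoly k θ).eval (algebraMap (RingOfIntegers k) k m)⁻¹ := by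
      rw [hmin, eval_map, ← Polynomial.scaleRoots_eval₂_mul, mul_inv_cancel₀ hmk,
        ← map_one (algebraMap (RingOfIntegers k) k), eval₂_at_apply]
    have h2 : v.valuation k (algebraMap (RingOfIntegers k) k (F.eval 1)) < 1 := (v.valuation_lt_one_iff_mem _).mpr hFP
    rwa [h1, map_mul, map_pow, hvm, one_pow, one_mul] at h2

/-- Approximation of local norms by a global norm that is a unit away from places of degree one. -/
theorem exists_near_norm (Sf : Finset (HeightOneSpectrum (RingOfIntegers k))) (Si : Finset (InfinitePlace k))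
    (tf : (v : HeightOneSpectrum (RingOfIntegers k)) → v.adicCompletion k) (ti : (w : InfinitePlace k) → w.Completion)
    (htf : ∀ v ∈ Sf, ∃ x : (v.adicCompletion k) ⊗[k] L, Algebra.norm (v.adicCompletion k) x = tf v)
    (hti : ∀ w ∈ Si, ∃ x : w.Completion ⊗[k] L, Algebra.norm w.Completion x = ti w)
    (Uf : (v : HeightOneSpectrum (RingOfIntegers k)) → Set (v.adicCompletion k))
    (hUf : ∀ v ∈ Sf, Uf v ∈ nhds (tf v))
    (Ui : (w : InfinitePlace k) → Set w.Completion) (hUi : ∀ w ∈ Si, Ui w ∈ nhds (ti w))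
    (v₀ : HeightOneSpectrum (RingOfIntegers k)) (hv₀ : v₀ ∉ Sf)
    (hLv₀ : Nonempty (L →ₐ[k] v₀.adicCompletion k)) :
    ∃ x : L, x ≠ 0 ∧ (∀ v ∈ Sf, algebraMap k (v.adicCompletion k) (Algebra.norm k x) ∈ Uf v) ∧
      (∀ w ∈ Si, algebraMap k w.Completion (Algebra.norm k x) ∈ Ui w) ∧
      (∀ v ∉ Sf, v ≠ v₀ → v.valuation k (Algebra.norm k x) ≤ 1) ∧
      ∀ v ∉ Sf, v.valuation k (Algebra.norm k x) = 1 ∨ Nonempty (L →ₐ[k] v.adicCompletion k) := by
  classical
  let n := Module.finrank k L
  obtain ⟨η, -, hηint, hη⟩ := exists_integral_primitive k L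
  let B₀ := ((finite_le_absNorm (k := k) n).toFinset \ Sf).erase v₀
  obtain ⟨v₁, hv₁, -⟩ := exists_degreeOne_place k L (insert v₀ Sf)
  simp only [Finset.mem_insert, not_or] at hv₁
  let T := Sf ∪ insert v₁ B₀
  have hv₀T : v₀ ∉ T := by simp [T, B₀, hv₀, Ne.symm hv₁.1]
  let ι := Module.Free.ChooseBasisIndex ℤ (RingOfIntegers L)
  let ω : ι ⊕ Fin 2 → L := Sum.elim (fun i => integralBasis L i) ![η, 1]
  have hω : ∀ i, IsIntegral ℤ (ω i) := by
    rintro (i | i)
    · show IsIntegral ℤ (integralBasis L i)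
      rw [integralBasis_apply]
      exact RingOfIntegers.isIntegral_coe _
    · fin_cases i
      · exact hηint
      · exact isIntegral_one
  have hspan : ∀ l : L, ∃ c : ι ⊕ Fin 2 → k, ∑ i, algebraMap k L (c i) * ω i = l := fun l => by
    refine ⟨Sum.elim (fun i => ((integralBasis L).repr l i : k)) 0, ?_⟩
    rw [Fintype.sum_sum_type]
    conv_rhs => rw [exists_coords L l]
    simp [ω, ι]
  -- neighbourhoods of the coordinates
  have hopen : ∀ {F : Type u} [Field F] [TopologicalSpace F] [IsTopologicalRing F] [Algebra k F]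
      (t : F) (U : Set F), U ∈ nhds t → (∃ x : F ⊗[k] L, Algebra.norm F x = t) →
      ∃ (u : ι ⊕ Fin 2 → F) (W : ι ⊕ Fin 2 → Set F), (∀ i, W i ∈ nhds (u i)) ∧
        ∀ u' : ι ⊕ Fin 2 → F, (∀ i, u' i ∈ W i) → Algebra.norm F (∑ i, u' i • ((1 : F) ⊗ₜ[k] ω i)) ∈ U := by
    intro F _ _ _ _ t U hU ⟨x, hx⟩
    obtain ⟨u, hu⟩ := exists_comb ω hspan x
    have h1 := (continuous_norm_comb (k := k) (F := F) ω).continuousAt.preimage_mem_nhds
      (show U ∈ nhds (Algebra.norm F (∑ i, u i • ((1 : F) ⊗ₜ[k] ω i))) by rwa [hu, hx])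
    rw [nhds_pi, Filter.mem_pi'] at h1
    obtain ⟨I, W, hW, hsub⟩ := h1
    exact ⟨u, W, hW, fun u' hu' => hsub fun i _ => hu' i⟩
  have hfin : ∀ v, ∃ (u : ι ⊕ Fin 2 → v.adicCompletion k) (W : ι ⊕ Fin 2 → Set (v.adicCompletion k)),
      (∀ i, W i ∈ nhds (u i)) ∧ (v ∈ T → ∀ u' : ι ⊕ Fin 2 → v.adicCompletion k, (∀ i, u' i ∈ W i) →
        ((v ∈ Sf → Algebra.norm (v.adicCompletion k) (∑ i, u' i • ((1 : v.adicCompletion k) ⊗ₜ[k] ω i)) ∈ Uf v) ∧
        (v ∉ Sf → Valued.v (Algebra.norm (v.adicCompletion k) (∑ i, u' i • ((1 : v.adicCompletion k) ⊗ₜ[k] ω i))) = 1))) := by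
    intro v
    by_cases hv : v ∈ Sf
    · obtain ⟨u, W, hW, h⟩ := hopen (tf v) (Uf v) (hUf v hv) (htf v hv)
      exact ⟨u, W, hW, fun _ u' hu' => ⟨fun _ => h u' hu', fun h' => absurd hv h'⟩⟩
    · have h1 : {y | Valued.v y = Valued.v (1 : v.adicCompletion k)} ∈ nhds (1 : v.adicCompletion k) :=
        Valued.locally_const (by rw [map_one]; exact one_ne_zero)
      obtain ⟨u, W, hW, h⟩ := hopen 1 _ h1 ⟨1, map_one _⟩
      exact ⟨u, W, hW, fun _ u' hu' => ⟨fun h' => absurd h' hv, fun _ => (h u' hu').trans (map_one _)⟩⟩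
  choose uf Wf hWf hnf using hfin
  have hinf : ∀ w, ∃ (u : ι ⊕ Fin 2 → w.Completion) (W : ι ⊕ Fin 2 → Set w.Completion),
      (∀ i, W i ∈ nhds (u i)) ∧ (w ∈ Si → ∀ u' : ι ⊕ Fin 2 → w.Completion, (∀ i, u' i ∈ W i) →
        Algebra.norm w.Completion (∑ i, u' i • ((1 : w.Completion) ⊗ₜ[k] ω i)) ∈ Ui w) := by
    intro w
    by_cases hw : w ∈ Si
    · obtain ⟨u, W, hW, h⟩ := hopen (ti w) (Ui w) (hUi w hw) (hti w hw)
      exact ⟨u, W, hW, fun _ => h⟩
    · exact ⟨0, fun _ => Set.univ, fun _ => Filter.univ_mem, fun h => absurd h hw⟩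
  choose ui Wi hWi hni using hinf
  -- coordinates along the integral basis and a perturbation making the element primitive
  have hc : ∀ i, ∃ c : k, (∀ P ∈ T, algebraMap k (P.adicCompletion k) c ∈ Wf P (Sum.inl i)) ∧
      (∀ w, algebraMap k w.Completion c ∈ Wi w (Sum.inl i)) ∧ ∀ P ∉ T, P ≠ v₀ → P.valuation k c ≤ 1 := fun i =>
    strong_approx v₀ T hv₀T (fun P => uf P (Sum.inl i)) _ (fun P _ => hWf P _) (fun w => ui w (Sum.inl i)) _
      fun w => hWi w _
  choose c hcf hci hcint using hc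
  obtain ⟨g₀, hg₀f, hg₀i, hg₀int⟩ := strong_approx v₀ T hv₀T (fun P => uf P (Sum.inr 0))
    (fun P => interior (Wf P (Sum.inr 0))) (fun P _ => interior_mem_nhds.mpr (hWf P _))
    (fun w => ui w (Sum.inr 0)) (fun w => interior (Wi w (Sum.inr 0))) fun w => interior_mem_nhds.mpr (hWi w _)
  let y := ∑ i, algebraMap k L (c i) * ω (Sum.inl i) + algebraMap k L g₀ * η
  let bad := {r : k | IntermediateField.adjoin k {y + algebraMap k L r * η} ≠ ⊤}
  have hbad : bad.Finite := by
    haveI : Finite (IntermediateField k L) :=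
      ((Field.exists_primitive_element_iff_finite_intermediateField k L).mp ⟨inferInstance, η, hη⟩)
    refine Set.Finite.of_finite_image (f := fun r => IntermediateField.adjoin k {y + algebraMap k L r * η})
      (Set.toFinite _) fun r hr r' hr' h => ?_
    by_contra hne
    simp only at h
    apply hr
    rw [← top_le_iff, ← hη, IntermediateField.adjoin_simple_le_iff]
    have h1 : y + algebraMap k L r' * η ∈ IntermediateField.adjoin k {y + algebraMap k L r * η} := by
      rw [h]; exact IntermediateField.mem_adjoin_simple_self k _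
    have h2 := mul_mem (IntermediateField.algebraMap_mem _ (r - r')⁻¹)
      (sub_mem (IntermediateField.mem_adjoin_simple_self k (y + algebraMap k L r * η)) h1)
    rwa [add_sub_add_left_eq_sub, ← sub_mul, ← map_sub, ← mul_assoc, ← map_mul,
      inv_mul_cancel₀ (sub_ne_zero.mpr hne), map_one, one_mul] at h2
  have hball : ∀ P, ∃ e : ℕ, P ∈ T → ∀ z, Valued.v (z - algebraMap k (P.adicCompletion k) g₀) ≤ exp (-(e : ℤ)) →
      z ∈ Wf P (Sum.inr 0) := fun P => by
    by_cases hP : P ∈ T
    · obtain ⟨e, he⟩ := exists_ball (isOpen_interior.mem_nhds (hg₀f P hP))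
      exact ⟨e, fun _ z hz => interior_subset (he z hz)⟩
    · exact ⟨0, fun h => absurd h hP⟩
  choose e he using hball
  obtain ⟨M, hM0, hMe⟩ := exists_small_at T e
  choose ε hε hεW using fun w => Metric.mem_nhds_iff.mp (isOpen_interior.mem_nhds (hg₀i w))
  obtain ⟨w₀⟩ := (inferInstance : Nonempty (InfinitePlace k))
  let lim : Finset ℝ := insert 1 ((Finset.univ.image ε) ∪ ((hbad.toFinset.filter (· ≠ 0)).image fun r => w₀ r))
  have hlim : lim.Nonempty := Finset.insert_nonempty _ _
  have hlim0 : 0 < lim.min' hlim := by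
    refine (Finset.lt_min'_iff _ _).mpr fun x hx => ?_
    simp only [lim, Finset.mem_insert, Finset.mem_union, Finset.mem_image, Finset.mem_filter, Finset.mem_univ,
      true_and] at hx
    rcases hx with rfl | ⟨w, rfl⟩ | ⟨r, ⟨-, hr⟩, rfl⟩
    · exact one_pos
    · exact hε w
    · exact w₀.1.pos hr
  obtain ⟨g, hg0, hgf, hgi⟩ := exists_small v₀ hM0 hlim0
  have hprim : IntermediateField.adjoin k {y + algebraMap k L g * η} = ⊤ := by
    by_contra hb
    refine absurd (hgi w₀) (not_lt.mpr (Finset.min'_le _ _ ?_))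
    exact Finset.mem_insert_of_mem (Finset.mem_union_right _ (Finset.mem_image.mpr
      ⟨g, Finset.mem_filter.mpr ⟨hbad.mem_toFinset.mpr hb, hg0⟩, rfl⟩))
  set θ := y + algebraMap k L g * η with hθdef
  set G := g₀ + g with hG
  have hGf : ∀ P ∈ T, algebraMap k (P.adicCompletion k) G ∈ Wf P (Sum.inr 0) := fun P hP => he P hP _ (by
    rw [hG, map_add, add_sub_cancel_left, valued_algebraMap]
    exact (hgf P fun h => hv₀T (h ▸ hP)).trans (hMe P hP))
  have hGi : ∀ w, algebraMap k w.Completion G ∈ Wi w (Sum.inr 0) := fun w => interior_subset (hεW w (by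
    rw [Metric.mem_ball, dist_eq_norm, hG, map_add, add_sub_cancel_left, norm_algebraMap_infinite]
    exact lt_of_lt_of_le (hgi w) (Finset.min'_le _ _ (Finset.mem_insert_of_mem (Finset.mem_union_left _
      (Finset.mem_image_of_mem _ (Finset.mem_univ w)))))))
  have hGint : ∀ P ∉ T, P ≠ v₀ → P.valuation k G ≤ 1 := fun P hP hP0 =>
    Valuation.map_add_le _ (hg₀int P hP hP0) ((hgf P hP0).trans (P.intValuation_le_one M))
  -- the exceptional places of the minimal polynomial
  obtain ⟨a, b, hab⟩ := exists_bezout (k := k) θ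
  let D := (((finite_valuation_gt a).toFinset ∪ (finite_valuation_gt b).toFinset) \ T).erase v₀
  have hθint : ∀ P ∉ T, P ≠ v₀ → ∀ i, P.valuation k ((minpoly k θ).coeff i) ≤ 1 := fun P hP hP0 => by
    refine coeff_minpoly_le_one P ?_
    have h1 := integralAt_comb P ω hω (Sum.elim c ![G, 0]) (by
      rintro (i | i)
      · exact hcint i P hP hP0
      · fin_cases i
        · exact hGint P hP hP0
        · show P.valuation k 0 ≤ 1
          rw [map_zero]; exact zero_le)
    convert h1 using 1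
    simp only [Fintype.sum_sum_type, Fin.sum_univ_two, hθdef, y, hG, map_add]
    simp [ω]
    ring
  have hdeg : (minpoly k θ).natDegree = n := natDegree_minpoly_of_adjoin hprim
  have hnT : ∀ P ∉ T, P ≠ v₀ → (minpoly k θ).natDegree < Ideal.absNorm P.asIdeal := fun P hP hP0 => by
    by_contra hle
    rw [hdeg, not_lt] at hle
    exact hP (Finset.mem_union_right _ (Finset.mem_insert_of_mem (Finset.mem_erase.mpr ⟨hP0, Finset.mem_sdiff.mpr
      ⟨(Set.Finite.mem_toFinset _).mpr hle, fun h => hP (Finset.mem_union_left _ h)⟩⟩)))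
  have hres : ∀ P, ∃ r : k, P ∈ D → P.valuation k r ≤ 1 ∧
      ∀ z, P.valuation k (z - r) < 1 → P.valuation k ((minpoly k θ).eval (-z)) = 1 := fun P => by
    by_cases hP : P ∈ D
    · obtain ⟨hP0, hP1⟩ := Finset.mem_erase.mp hP
      have hPT := (Finset.mem_sdiff.mp hP1).2
      obtain ⟨r, hr⟩ := exists_nonroot P (minpoly.monic (IsIntegral.of_finite k θ)) (hθint P hPT hP0)
        (hnT P hPT hP0)
      exact ⟨r, fun _ => hr⟩
    · exact ⟨0, fun h => absurd h hP⟩
  choose r hr using hres
  let V : ∀ P : HeightOneSpectrum (RingOfIntegers k), Set (P.adicCompletion k) := fun P =>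
    if P ∈ T then Wf P (Sum.inr 1) else {z | Valued.v (z - algebraMap k _ (r P)) ≤ exp (-((1 : ℕ) : ℤ))}
  obtain ⟨c₁, hc₁f, hc₁i, hc₁int⟩ := strong_approx v₀ (T ∪ D) (by simp [hv₀T, D])
    (fun P => if P ∈ T then uf P (Sum.inr 1) else algebraMap k _ (r P)) V
    (fun P _ => by
      simp only [V]
      split_ifs
      · exact hWf P _
      · exact ball_mem_nhds _ 1)
    (fun w => ui w (Sum.inr 1)) _ fun w => hWi w _
  have hc₁int' : ∀ P ∉ T, P ≠ v₀ → P.valuation k c₁ ≤ 1 := fun P hP hP0 => by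
    by_cases hD : P ∈ D
    · have h1 := hc₁f P (Finset.mem_union_right _ hD)
      simp only [V, if_neg hP, Set.mem_ofPred_eq, ← map_sub, valued_algebraMap] at h1
      rw [← sub_add_cancel c₁ (r P)]
      exact Valuation.map_add_le _ (h1.trans (by rw [← exp_zero, exp_le_exp]; omega)) (hr P hD).1
    · exact hc₁int P (by simp [hP, hD]) hP0
  let x := θ + algebraMap k L c₁
  have hx : x = ∑ i, algebraMap k L (Sum.elim c ![G, c₁] i) * ω i := by
    simp only [x, hθdef, y, hG, Fintype.sum_sum_type, Fin.sum_univ_two]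
    simp [ω]
    ring
  have hnorm : ∀ {F : Type u} [Field F] [Algebra k F],
      Algebra.norm F (∑ i, algebraMap k F (Sum.elim c ![G, c₁] i) • ((1 : F) ⊗ₜ[k] ω i)) =
        algebraMap k F (Algebra.norm k x) := by
    intro F _ _
    rw [← norm_one_tmul F x, hx, TensorProduct.tmul_sum]
    congr 1
    refine Finset.sum_congr rfl fun i _ => ?_
    rw [algebraMap_smul, TensorProduct.smul_tmul', TensorProduct.smul_tmul, Algebra.smul_def]
  have hmemf : ∀ P ∈ T, ∀ i, algebraMap k (P.adicCompletion k) (Sum.elim c ![G, c₁] i) ∈ Wf P i := by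
    intro P hP
    rintro (i | i)
    · exact hcf i P hP
    · fin_cases i
      · exact hGf P hP
      · have h1 := hc₁f P (Finset.mem_union_left _ hP)
        simp only [V, if_pos hP] at h1
        exact h1
  have hmemi : ∀ w, ∀ i, algebraMap k w.Completion (Sum.elim c ![G, c₁] i) ∈ Wi w i := by
    intro w
    rintro (i | i)
    · exact hci i w
    · fin_cases i
      · exact hGi w
      · exact hc₁i w
  have hvalT : ∀ P ∈ T, P ∉ Sf → P.valuation k (Algebra.norm k x) = 1 := fun P hP hPS => by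
    have h1 := (hnf P hP _ (hmemf P hP)).2 hPS
    rwa [hnorm, valued_algebraMap] at h1
  have hx0 : x ≠ 0 := fun h => by
    have h1 := hvalT v₁ (Finset.mem_union_right _ (Finset.mem_insert_self _ _)) hv₁.2
    rw [h, Algebra.norm_zero, map_zero] at h1
    exact zero_ne_one h1
  have hout : ∀ P ∉ Sf, P ≠ v₀ → P.valuation k (Algebra.norm k x) = 1 ∨
      (P.valuation k (Algebra.norm k x) ≤ 1 ∧ Nonempty (L →ₐ[k] P.adicCompletion k)) := by
    intro P hPS hP0
    by_cases hPT : P ∈ T
    · exact Or.inl (hvalT P hPT hPS)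
    have hval : P.valuation k (Algebra.norm k x) = P.valuation k ((minpoly k θ).eval (-c₁)) := by
      show P.valuation k (Algebra.norm k (θ + algebraMap k L c₁)) = _
      rw [norm_add_algebraMap θ hdeg, map_mul, map_pow, Valuation.map_neg, map_one, one_pow, one_mul]
    rw [hval]
    by_cases hPD : P ∈ D
    · left
      refine (hr P hPD).2 c₁ ?_
      have h1 := hc₁f P (Finset.mem_union_right _ hPD)
      simp only [V, if_neg hPT, Set.mem_ofPred_eq, ← map_sub, valued_algebraMap] at h1
      exact lt_of_le_of_lt h1 (by rw [← exp_zero, exp_lt_exp]; omega)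
    · have hco : ∀ q : Polynomial k, P ∉ (finite_valuation_gt q).toFinset → ∀ i, P.valuation k (q.coeff i) ≤ 1 :=
        fun q hq i => not_lt.mp fun h => hq (by rw [Set.Finite.mem_toFinset]; exact ⟨i, h⟩)
      have hnot : P ∉ (finite_valuation_gt a).toFinset ∪ (finite_valuation_gt b).toFinset := fun h =>
        hPD (Finset.mem_erase.mpr ⟨hP0, Finset.mem_sdiff.mpr ⟨h, hPT⟩⟩)
      rw [Finset.mem_union, not_or] at hnot
      have hc' : P.valuation k (-c₁) ≤ 1 := by rw [Valuation.map_neg]; exact hc₁int' P hPT hP0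
      have hle := valuation_eval_le_one (P.valuation k) _ _ (hθint P hPT hP0) hc'
      rcases hle.lt_or_eq with h | h
      · exact Or.inr ⟨hle, degreeOne_of_lt_one P hprim hab (hθint P hPT hP0) (hco a hnot.1) (hco b hnot.2) _ hc' h⟩
      · exact Or.inl h
  refine ⟨x, hx0, fun P hP => ?_, fun w hw => ?_, fun P hP hP0 => ?_, fun P hP => ?_⟩
  · have h1 := (hnf P (Finset.mem_union_left _ hP) _ (hmemf P (Finset.mem_union_left _ hP))).1 hP
    rwa [hnorm] at h1
  · have h1 := hni w hw _ (hmemi w)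
    rwa [hnorm] at h1
  · exact (hout P hP hP0).elim (fun h => h.le) fun h => h.1
  · by_cases hP0 : P = v₀
    · exact Or.inr (hP0 ▸ hLv₀)
    · exact (hout P hP hP0).imp_right fun h => h.2

end Groth.Agent.H23Strong
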