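import Groth.Agent.H23Strong.LocalNorm

/-! # Changing the coordinate on the projective line -/

set_option autoImplicit false
set_option linter.style.haveILetI false

universe u v

open IsDedekindDomain NumberField WithZero TensorProduct
open scoped Topology

namespace Groth.Agent.H23Strong

section identity

variable {k : Type u} {K : Type u} {F : Type v} [Field k] [Field K] [Field F] [Algebra k K] [Algebra k F]

theorem moebius_identity (α β γ δ : k) (a b : K) (t t' : F)
    (hu : algebraMap k F γ * t + algebraMap k F δ ≠ 0) (hw : algebraMap k K γ * a + algebraMap k K δ ≠ 0)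
    (a' b' : K) (ha' : a' = (algebraMap k K α * a + algebraMap k K β) / (algebraMap k K γ * a + algebraMap k K δ))
    (hb' : b' = b * (algebraMap k K γ * a + algebraMap k K δ))
    (ht' : t' = (algebraMap k F α * t + algebraMap k F β) / (algebraMap k F γ * t + algebraMap k F δ)) :
    ((1 : F) ⊗ₜ[k] b * (t ⊗ₜ[k] (1 : K) - (1 : F) ⊗ₜ[k] a)) *
        ((algebraMap k F (α * δ - β * γ) / (algebraMap k F γ * t + algebraMap k F δ)) ⊗ₜ[k] (1 : K)) =
      (1 : F) ⊗ₜ[k] b' * (t' ⊗ₜ[k] (1 : K) - (1 : F) ⊗ₜ[k] a') := by
  let l : F →ₐ[k] F ⊗[k] K := Algebra.TensorProduct.includeLeft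
  let r : K →ₐ[k] F ⊗[k] K := Algebra.TensorProduct.includeRight
  set u := algebraMap k F γ * t + algebraMap k F δ with hudef
  set w := algebraMap k K γ * a + algebraMap k K δ with hwdef
  have hab : b' * a' = b * (algebraMap k K α * a + algebraMap k K β) := by
    rw [hb', ha', mul_assoc, mul_div_cancel₀ _ hw]
  have h1 : l t' * l u = algebraMap k _ α * l t + algebraMap k _ β := by
    rw [← map_mul, ht', div_mul_cancel₀ _ hu, map_add, map_mul, l.commutes, l.commutes]
  have h2 : l (algebraMap k F (α * δ - β * γ) / u) * l u =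
      algebraMap k _ α * algebraMap k _ δ - algebraMap k _ β * algebraMap k _ γ := by
    rw [← map_mul, div_mul_cancel₀ _ hu, l.commutes, map_sub, map_mul, map_mul]
  have h3 : r b' = r b * (algebraMap k _ γ * r a + algebraMap k _ δ) := by
    rw [hb', map_mul, hwdef, map_add, map_mul, r.commutes, r.commutes]
  have h4 : r b' * r a' = r b * (algebraMap k _ α * r a + algebraMap k _ β) := by
    rw [← map_mul, hab, map_mul, map_add, map_mul, r.commutes, r.commutes]
  have h5 : l u = algebraMap k _ γ * l t + algebraMap k _ δ := by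
    rw [hudef, map_add, map_mul, l.commutes, l.commutes]
  show r b * (l t - r a) * l (algebraMap k F (α * δ - β * γ) / u) = r b' * (l t' - r a')
  refine ((isUnit_iff_ne_zero.mpr hu).map l).mul_left_inj.mp ?_
  linear_combination (r b * (l t - r a)) * h2 - (r b') * h1 + (l u) * h4 -
    (algebraMap k _ α * l t + algebraMap k _ β) * h3 + r b * (algebraMap k _ α * r a + algebraMap k _ β) * h5

theorem moebius_zero (a' b' : K) :
    (1 : F) ⊗ₜ[k] b' * ((0 : F) ⊗ₜ[k] (1 : K) - (1 : F) ⊗ₜ[k] a') = (1 : F) ⊗ₜ[k] (-(b' * a')) := by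
  rw [TensorProduct.zero_tmul, zero_sub, mul_neg, Algebra.TensorProduct.tmul_mul_tmul, one_mul,
    TensorProduct.tmul_neg]

/-- The inverse transformation is continuous near the transformed point. -/
theorem exists_moebius_nhd [TopologicalSpace F] [IsTopologicalRing F] [ContinuousInv₀ F] [T1Space F]
    (α β γ δ : k) (hdet : α * δ - β * γ ≠ 0) (t t' : F)
    (hu : algebraMap k F γ * t + algebraMap k F δ ≠ 0)
    (ht' : t' = (algebraMap k F α * t + algebraMap k F β) / (algebraMap k F γ * t + algebraMap k F δ))
    (U : Set F) (hU : IsOpen U) (htU : t ∈ U) :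
    ∃ U' : Set F, IsOpen U' ∧ t' ∈ U' ∧ ∀ t₀' : k, α ≠ γ * t₀' → algebraMap k F t₀' ∈ U' →
      algebraMap k F ((δ * t₀' - β) / (α - γ * t₀')) ∈ U := by
  let den : F → F := fun s => algebraMap k F α - algebraMap k F γ * s
  let f : F → F := fun s => (algebraMap k F δ * s - algebraMap k F β) / den s
  have hden : Continuous den := continuous_const.sub (continuous_const.mul continuous_id)
  have hO : IsOpen {s | den s ≠ 0} := isOpen_ne.preimage hden
  have hf : ContinuousOn f {s | den s ≠ 0} :=
    ((continuous_const.mul continuous_id).sub continuous_const).continuousOn.div hden.continuousOn fun s hs => hs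
  have hD : algebraMap k F α * algebraMap k F δ - algebraMap k F β * algebraMap k F γ ≠ 0 := by
    rw [← map_mul, ← map_mul, ← map_sub]
    exact (map_ne_zero_iff _ (algebraMap k F).injective).mpr hdet
  have h1 : den t' * (algebraMap k F γ * t + algebraMap k F δ) =
      algebraMap k F α * algebraMap k F δ - algebraMap k F β * algebraMap k F γ := by
    simp only [den, ht', sub_mul, mul_assoc, div_mul_cancel₀ _ hu]
    ring
  have h2 : (algebraMap k F δ * t' - algebraMap k F β) * (algebraMap k F γ * t + algebraMap k F δ) =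
      t * (algebraMap k F α * algebraMap k F δ - algebraMap k F β * algebraMap k F γ) := by
    rw [ht', sub_mul, mul_assoc, div_mul_cancel₀ _ hu]
    ring
  have hne : den t' ≠ 0 := fun h => hD (by rw [← h1, h, zero_mul])
  refine ⟨{s | den s ≠ 0} ∩ f ⁻¹' U, hf.isOpen_inter_preimage hO hU, ⟨hne, ?_⟩, fun t₀' _ h => ?_⟩
  · show f t' ∈ U
    rw [show f t' = t by
      simp only [f]
      rw [← mul_div_mul_right _ _ hu, h1, h2, mul_div_cancel_right₀ _ hD]]
    exact htU
  · have := h.2
    rw [Set.mem_preimage] at this
    simpa [f, den, map_div₀] using this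

end identity

section places

variable {k K : Type u} [Field k] [NumberField k] [Field K] [NumberField K] [Algebra k K]

theorem valuation_lift_eq_one {W : HeightOneSpectrum (RingOfIntegers K)} {v : HeightOneSpectrum (RingOfIntegers k)}
    (h : W.asIdeal.LiesOver v.asIdeal) {x : k} (hx : v.valuation k x = 1) :
    W.valuation K (algebraMap k K x) = 1 := by
  refine le_antisymm ((valuation_lift_le_iff h x).mpr hx.le) ?_
  have h1 := (valuation_lift_le_iff h x⁻¹).mpr (by rw [map_inv₀, hx, inv_one])
  rw [map_inv₀, map_inv₀] at h1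
  have hne : W.valuation K (algebraMap k K x) ≠ 0 := (Valuation.ne_zero_iff _).mpr
    ((map_ne_zero_iff _ (algebraMap k K).injective).mpr fun h0 => by rw [h0, map_zero] at hx; exact zero_ne_one hx)
  rwa [inv_le_one₀ (zero_lt_iff.mpr hne)] at h1

end places

end Groth.Agent.H23Strong
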