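import Groth.Agent.H23Strong.DegreeOne
import Mathlib.RingTheory.NormTrace
import Mathlib.RingTheory.Trace.Quotient
import Mathlib.FieldTheory.Finite.GaloisField
import Mathlib.RingTheory.Localization.NormTrace
import Mathlib.RingTheory.Artinian.Module
import Mathlib.NumberTheory.NumberField.Ideal.Basic

/-! # Units are norms modulo any power of an unramified prime -/

set_option autoImplicit false

universe u v

open IsLocalRing IsDedekindDomain

namespace Groth.Agent.H23Strong.NormUnit

theorem norm_prod_apply {K B C : Type*} [Field K] [CommRing B] [CommRing C] [Algebra K B] [Algebra K C]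
    [Module.Finite K B] [Module.Finite K C] (b : B) (c : C) :
    Algebra.norm K ((b, c) : B × C) = Algebra.norm K b * Algebra.norm K c := by
  rw [Algebra.norm_apply, Algebra.norm_apply, Algebra.norm_apply, ← LinearMap.det_prodMap]
  congr 1

/-- Norm and trace of a finite reduced algebra over a finite field are surjective. -/
theorem exists_norm_trace {K : Type*} [Field K] [Finite K] {B : Type*} [CommRing B] [Nontrivial B] [Algebra K B]
    [Module.Finite K B] [IsReduced B] :
    (∀ a : K, ∃ x : B, Algebra.norm K x = a) ∧ ∀ a : K, ∃ x : B, Algebra.trace K B x = a := by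
  classical
  haveI : IsArtinianRing B := IsArtinianRing.of_finite K B
  obtain ⟨I₀⟩ := (inferInstance : Nonempty (MaximalSpectrum B))
  let F : MaximalSpectrum B → Type _ := fun I => B ⧸ I.asIdeal
  let φ : (∀ I, F I) →ₐ[K] F I₀ × (∀ J : {J // J ≠ I₀}, F J.1) :=
    (Pi.evalAlgHom K F I₀).prod (Pi.algHom _ _ fun J => Pi.evalAlgHom K F J.1)
  have hφ : Function.Bijective φ := (Equiv.piSplitAt I₀ F).bijective
  let e : B ≃ₐ[K] F I₀ × (∀ J : {J // J ≠ I₀}, F J.1) :=
    ((IsArtinianRing.equivPi B).restrictScalars K).trans (AlgEquiv.ofBijective φ hφ)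
  haveI : Finite (F I₀) := Module.finite_of_finite K
  letI : Field (F I₀) := Ideal.Quotient.field I₀.asIdeal
  haveI : ∀ J : {J // J ≠ I₀}, Module.Finite K (F J.1) := fun J => inferInstance
  refine ⟨fun a => ?_, fun a => ?_⟩
  · obtain ⟨y, hy⟩ := FiniteField.norm_surjective K (F I₀) a
    refine ⟨e.symm (y, 1), ?_⟩
    rw [Algebra.norm_eq_of_algEquiv e.symm (y, 1), norm_prod_apply, map_one, mul_one, hy]
  · obtain ⟨y, hy⟩ := Algebra.trace_surjective K (F I₀) a
    refine ⟨e.symm (y, 0), ?_⟩
    rw [Algebra.trace_eq_of_algEquiv e.symm (y, 0), Algebra.trace_prod_apply, map_zero, add_zero, hy]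

section local_

variable {R S : Type*} [CommRing R] [IsLocalRing R] [CommRing S] [Algebra R S] [Module.Free R S] [Module.Finite R S]

attribute [local instance] Ideal.Quotient.field

theorem norm_quotient_mk (x : S) :
    Algebra.norm (R ⧸ maximalIdeal R) (Ideal.Quotient.mk ((maximalIdeal R).map (algebraMap R S)) x) =
      Ideal.Quotient.mk (maximalIdeal R) (Algebra.norm R x) := by
  classical
  let b : Module.Basis (Module.Free.ChooseBasisIndex R S) R S := Module.Free.chooseBasis R S
  rw [Algebra.norm_eq_matrix_det b, Algebra.norm_eq_matrix_det (basisQuotient b), RingHom.map_det]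
  congr 1
  ext i j
  simp only [Algebra.leftMulMatrix_apply, Algebra.coe_lmul_eq_mul, LinearMap.toMatrix_apply,
    basisQuotient_apply, LinearMap.mul_apply', RingHom.mapMatrix_apply, Matrix.map_apply, ← map_mul,
    basisQuotient_repr]

/-- Norms of congruent elements are congruent. -/
theorem norm_sub_mem (J : Ideal R) {x x' : S} (h : x - x' ∈ J.map (algebraMap R S)) :
    Algebra.norm R x - Algebra.norm R x' ∈ J := by
  classical
  let b : Module.Basis (Module.Free.ChooseBasisIndex R S) R S := Module.Free.chooseBasis R S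
  rw [← Ideal.Quotient.eq, Algebra.norm_eq_matrix_det b, Algebra.norm_eq_matrix_det b, RingHom.map_det,
    RingHom.map_det]
  congr 1
  ext i j
  rw [RingHom.mapMatrix_apply, RingHom.mapMatrix_apply, Matrix.map_apply, Matrix.map_apply, Ideal.Quotient.eq,
    Algebra.leftMulMatrix_eq_repr_mul, Algebra.leftMulMatrix_eq_repr_mul, ← Finsupp.sub_apply, ← map_sub, ← sub_mul]
  have h1 : (x - x') * b j ∈ (J • ⊤ : Submodule R S) := by
    rw [Ideal.smul_top_eq_map, Submodule.restrictScalars_mem]
    exact Ideal.mul_mem_right _ _ h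
  generalize (x - x') * b j = z at h1 ⊢
  refine Submodule.smul_induction_on h1 (fun r hr m _ => ?_) fun a a' ha ha' => ?_
  · rw [map_smul, Finsupp.smul_apply, smul_eq_mul]
    exact Ideal.mul_mem_right _ _ hr
  · rw [map_add, Finsupp.add_apply]
    exact add_mem ha ha'

/-- Units are norms modulo any power of the maximal ideal. -/
theorem exists_norm_congr [Finite (R ⧸ maximalIdeal R)] {π : R} (hπ : maximalIdeal R = Ideal.span {π})
    [Nontrivial (S ⧸ (maximalIdeal R).map (algebraMap R S))]
    [IsReduced (S ⧸ (maximalIdeal R).map (algebraMap R S))] (u : R) (hu : IsUnit u) (N : ℕ) :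
    ∃ x : S, Algebra.norm R x - u ∈ maximalIdeal R ^ N := by
  haveI : Module.Finite (R ⧸ maximalIdeal R) (S ⧸ (maximalIdeal R).map (algebraMap R S)) :=
    Module.Finite.of_basis (basisQuotient (Module.Free.chooseBasis R S))
  obtain ⟨hnorm, htr⟩ := exists_norm_trace (K := R ⧸ maximalIdeal R) (B := S ⧸ (maximalIdeal R).map (algebraMap R S))
  suffices h : ∀ M : ℕ, ∃ x : S, Algebra.norm R x - u ∈ maximalIdeal R ^ (M + 1) by
    cases N with
    | zero => exact ⟨1, by simp⟩
    | succ M => exact h M
  intro M
  induction M with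
  | zero =>
    obtain ⟨z, hz⟩ := hnorm (Ideal.Quotient.mk _ u)
    obtain ⟨x, rfl⟩ := Ideal.Quotient.mk_surjective z
    rw [norm_quotient_mk] at hz
    refine ⟨x, ?_⟩
    rw [zero_add, pow_one]
    exact Ideal.Quotient.eq.mp hz
  | succ M ih =>
    obtain ⟨x, hx⟩ := ih
    rw [hπ, Ideal.span_singleton_pow, Ideal.mem_span_singleton'] at hx
    obtain ⟨r, hr⟩ := hx
    obtain ⟨c, hc⟩ := hu
    obtain ⟨z, hz⟩ := htr (Ideal.Quotient.mk _ (-(↑c⁻¹ * r)))
    obtain ⟨y, rfl⟩ := Ideal.Quotient.mk_surjective z
    rw [Algebra.trace_quotient_mk, Ideal.Quotient.eq, hπ, Ideal.mem_span_singleton'] at hz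
    obtain ⟨d, hd⟩ := hz
    obtain ⟨e, he⟩ := Algebra.norm_one_add_smul (π ^ (M + 1)) y
    refine ⟨x * (1 + π ^ (M + 1) • y), ?_⟩
    rw [map_mul, he, hπ, Ideal.span_singleton_pow, Ideal.mem_span_singleton']
    have hN : Algebra.norm R x = u + r * π ^ (M + 1) := by rw [hr]; ring
    refine ⟨u * d + r * Algebra.trace R S y * π ^ M + (u + r * π ^ (M + 1)) * e * π ^ M, ?_⟩
    rw [hN]
    have h1 : u * (↑c⁻¹ * r) = r := by rw [← mul_assoc, ← hc, Units.mul_inv, one_mul]
    linear_combination (π ^ (M + 1) * u) * hd + π ^ (M + 1) * h1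

end local_

open NumberField WithZero in
/-- A unit at an unramified place is congruent to a norm. -/
theorem exists_norm_near {K : Type u} [Field K] [NumberField K] (W : HeightOneSpectrum (RingOfIntegers K))
    (L : Type u) [Field L] [NumberField L] [Algebra K L]
    (hram : ∀ Q : Ideal (RingOfIntegers L), Q.IsPrime → Q.LiesOver W.asIdeal →
      Q.ramificationIdx (RingOfIntegers K) = 1)
    (b : K) (hb : W.valuation K b = 1) (N : ℕ) :
    ∃ x : L, IntegralAt W x ∧ W.valuation K (Algebra.norm K x - b) ≤ exp (-(N : ℤ)) := by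
  classical
  let A := HeightOneSpectrum.valuationSubringAtPrime K W
  have hA : ∀ z : K, z ∈ A ↔ W.valuation K z ≤ 1 := fun z => by
    rw [show A = (W.valuation K).valuationSubring from HeightOneSpectrum.valuationSubringAtPrime_eq_valuationSubring W]
    exact Valuation.mem_valuationSubring_iff _ _
  letI : Algebra A L := ((algebraMap K L).comp A.subtype).toAlgebra
  haveI : IsScalarTower A K L := IsScalarTower.of_algebraMap_eq fun _ => rfl
  haveI : IsScalarTower (RingOfIntegers K) A L := IsScalarTower.of_algebraMap_eq fun r => by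
    show algebraMap (RingOfIntegers K) L r = algebraMap K L (algebraMap (RingOfIntegers K) K r)
    exact IsScalarTower.algebraMap_apply _ K L r
  haveI : IsFractionRing A K := inferInstance
  haveI : IsDiscreteValuationRing A :=
    IsLocalization.AtPrime.isDiscreteValuationRing_of_dedekind_domain (RingOfIntegers K) W.ne_bot A
  let S := integralClosure A L
  haveI : IsIntegralClosure S A L := integralClosure.isIntegralClosure A L
  haveI : Module.Finite A S := IsIntegralClosure.finite A K L S
  haveI : Module.IsTorsionFree A L := Module.IsTorsionFree.trans_faithfulSMul A K L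
  haveI : Module.IsTorsionFree A S := IsIntegralClosure.isTorsionFree A L
  haveI : Module.Free A S := Module.free_of_finite_type_torsion_free'
  haveI : IsLocalization (Algebra.algebraMapSubmonoid S (nonZeroDivisors A)) L :=
    IsIntegralClosure.isLocalization A K L S
  haveI : Finite (A ⧸ maximalIdeal A) :=
    haveI : Finite (RingOfIntegers K ⧸ W.asIdeal) := Ideal.finiteQuotientOfFreeOfNeBot W.asIdeal W.ne_bot
    Finite.of_equiv _ (IsLocalization.AtPrime.equivQuotMaximalIdeal W.asIdeal A).toEquiv
  obtain ⟨π₀, hπ₀⟩ := W.intValuation_exists_uniformizer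
  let π : A := algebraMap (RingOfIntegers K) A π₀
  have hπv : W.valuation K (π : K) = exp (-1 : ℤ) := (W.valuation_of_algebraMap π₀).trans hπ₀
  have hπm : maximalIdeal A = Ideal.span {π} := by
    rw [← IsLocalization.AtPrime.map_eq_maximalIdeal W.asIdeal A]
    refine le_antisymm (Ideal.map_le_iff_le_comap.mpr fun z hz => ?_) ((Ideal.span_singleton_le_iff_mem _).mpr
      (Ideal.mem_map_of_mem _ ((W.intValuation_lt_one_iff_mem π₀).mp (by rw [hπ₀, ← exp_zero, exp_lt_exp]; omega))))
    have hz1 : W.valuation K (algebraMap (RingOfIntegers K) K z) ≤ exp (-1 : ℤ) := by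
      rw [W.valuation_of_algebraMap]
      exact (W.intValuation_le_pow_iff_mem z 1).mpr (by rwa [pow_one])
    have hzA : algebraMap (RingOfIntegers K) K z / (π : K) ∈ A := by
      rw [hA, map_div₀, hπv, div_le_iff₀ exp_pos, one_mul]
      exact hz1
    rw [Ideal.mem_comap, Ideal.mem_span_singleton']
    have hπ0 : (π : K) ≠ 0 := fun h => by rw [h, map_zero] at hπv; exact exp_ne_zero hπv.symm
    exact ⟨⟨_, hzA⟩, Subtype.ext (div_mul_cancel₀ _ hπ0)⟩
  haveI : IsReduced (S ⧸ (maximalIdeal A).map (algebraMap A S)) := by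
    rw [← Ideal.isRadical_iff_quotient_reduced]
    rintro x ⟨n, hn⟩
    -- clear denominators
    obtain ⟨⟨m, hm⟩, hmx⟩ := IsIntegral.exists_multiple_integral_of_isLocalization
      W.asIdeal.primeCompl (Rₘ := A) (x : L) x.2
    rw [Submonoid.smul_def, Algebra.smul_def] at hmx
    let y : RingOfIntegers L := ⟨algebraMap (RingOfIntegers K) L m * (x : L), isIntegral_trans _ hmx⟩
    let ι : RingOfIntegers L →+* S := (algebraMap (RingOfIntegers L) L).codRestrict S fun z =>
      (RingOfIntegers.isIntegral_coe z).tower_top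
    have hι : ∀ r : RingOfIntegers K, ι (algebraMap _ _ r) = algebraMap A S (algebraMap _ A r) := fun r =>
      Subtype.ext (by
        show algebraMap (RingOfIntegers L) L (algebraMap _ _ r) = algebraMap A L (algebraMap _ A r)
        rw [← IsScalarTower.algebraMap_apply, ← IsScalarTower.algebraMap_apply])
    have hyx : ι y = algebraMap A S (algebraMap _ A m) * x := Subtype.ext (by
      show algebraMap (RingOfIntegers K) L m * (x : L) = algebraMap A L (algebraMap _ A m) * x
      rw [← IsScalarTower.algebraMap_apply])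
    suffices hy : y ∈ W.asIdeal.map (algebraMap (RingOfIntegers K) (RingOfIntegers L)) by
      have h1 : ι y ∈ (maximalIdeal A).map (algebraMap A S) := by
        have h2 := Ideal.mem_map_of_mem ι hy
        rw [Ideal.map_map, show ι.comp (algebraMap (RingOfIntegers K) (RingOfIntegers L)) =
          (algebraMap A S).comp (algebraMap _ A) from RingHom.ext hι, ← Ideal.map_map,
          IsLocalization.AtPrime.map_eq_maximalIdeal W.asIdeal A] at h2
        exact h2
      have hu : IsUnit (algebraMap A S (algebraMap _ A m)) :=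
        (IsLocalization.map_units A (⟨m, hm⟩ : W.asIdeal.primeCompl)).map _
      rw [hyx] at h1
      exact (Ideal.unit_mul_mem_iff_mem _ hu).mp h1
    have hclear : ∀ z : S, z ∈ (maximalIdeal A).map (algebraMap A S) → ∃ s ∉ W.asIdeal,
        ∃ w ∈ W.asIdeal.map (algebraMap (RingOfIntegers K) (RingOfIntegers L)),
          (w : L) = algebraMap (RingOfIntegers K) L s * (z : L) := by
      intro z hz
      rw [← Submodule.restrictScalars_mem A, ← Ideal.smul_top_eq_map] at hz
      refine Submodule.smul_induction_on hz (fun r hr t _ => ?_) fun z z' ih ih' => ?_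
      · obtain ⟨⟨r₀, ⟨s, hs⟩⟩, hrs⟩ := IsLocalization.surj W.asIdeal.primeCompl r
        have hr₀ : r₀ ∈ W.asIdeal := by
          refine (IsLocalization.AtPrime.to_map_mem_maximal_iff A W.asIdeal r₀).mp ?_
          rw [← hrs]
          exact Ideal.mul_mem_right _ _ hr
        obtain ⟨⟨m', hm'⟩, hmt⟩ := IsIntegral.exists_multiple_integral_of_isLocalization
          W.asIdeal.primeCompl (Rₘ := A) (t : L) t.2
        rw [Submonoid.smul_def, Algebra.smul_def] at hmt
        let t' : RingOfIntegers L := ⟨algebraMap (RingOfIntegers K) L m' * (t : L), isIntegral_trans _ hmt⟩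
        refine ⟨s * m', W.asIdeal.primeCompl.mul_mem hs hm', algebraMap _ _ r₀ * t',
          Ideal.mul_mem_right _ _ (Ideal.mem_map_of_mem _ hr₀), ?_⟩
        show algebraMap (RingOfIntegers L) L (algebraMap _ _ r₀ * t') = _
        rw [map_mul, ← IsScalarTower.algebraMap_apply]
        show algebraMap (RingOfIntegers K) L r₀ * (algebraMap (RingOfIntegers K) L m' * (t : L)) = _
        rw [Subalgebra.coe_smul, Algebra.smul_def, IsScalarTower.algebraMap_apply (RingOfIntegers K) A L r₀, ← hrs,
          map_mul, map_mul, ← IsScalarTower.algebraMap_apply (RingOfIntegers K) A L]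
        ring
      · obtain ⟨s, hs, w, hw, hwz⟩ := ih
        obtain ⟨s', hs', w', hw', hwz'⟩ := ih'
        refine ⟨s * s', W.asIdeal.primeCompl.mul_mem hs hs', algebraMap _ _ s' * w + algebraMap _ _ s * w',
          add_mem (Ideal.mul_mem_left _ _ hw) (Ideal.mul_mem_left _ _ hw'), ?_⟩
        show algebraMap (RingOfIntegers L) L _ = _
        rw [map_add, map_mul, map_mul, ← IsScalarTower.algebraMap_apply, ← IsScalarTower.algebraMap_apply]
        show algebraMap (RingOfIntegers K) L s' * (w : L) + algebraMap (RingOfIntegers K) L s * (w' : L) = _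
        rw [hwz, hwz', map_mul, Subalgebra.coe_add]
        ring
    obtain ⟨s, hs, w, hw, hwz⟩ := hclear _ hn
    rw [Ideal.map_algebraMap_eq_finsetProd_pow W.ne_bot]
    have hy : ∀ P ∈ W.asIdeal.primesOver (RingOfIntegers L), y ∈ P := fun P hP => by
      haveI := hP.1
      haveI := hP.2
      refine hP.1.mem_of_pow_mem n ((hP.1.mem_or_mem (x := algebraMap _ _ s) ?_).resolve_left fun h =>
        hs (by rw [Ideal.LiesOver.over (P := P) (p := W.asIdeal)]; exact h))
      have h1 : algebraMap (RingOfIntegers K) (RingOfIntegers L) s * y ^ n =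
          algebraMap (RingOfIntegers K) (RingOfIntegers L) m ^ n * w := RingOfIntegers.coe_injective (by
        rw [map_mul, map_mul, map_pow, map_pow, ← IsScalarTower.algebraMap_apply, ← IsScalarTower.algebraMap_apply]
        show algebraMap (RingOfIntegers K) L s * (algebraMap (RingOfIntegers K) L m * (x : L)) ^ n =
          algebraMap (RingOfIntegers K) L m ^ n * (w : L)
        rw [hwz, SubmonoidClass.coe_pow]
        ring)
      rw [h1]
      refine Ideal.mul_mem_left _ _ ?_
      have h2 : W.asIdeal.map (algebraMap (RingOfIntegers K) (RingOfIntegers L)) ≤ P :=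
        Ideal.map_le_iff_le_comap.mpr (le_of_eq (Ideal.LiesOver.over (P := P) (p := W.asIdeal)))
      exact h2 hw
    rw [Finset.prod_congr rfl (g := fun P => P) fun P hP => ?_]
    · have h4 := IsDedekindDomain.inf_prime_pow_eq_prod (s := (W.asIdeal.primesOver (RingOfIntegers L)).toFinset)
        (fun P => P) (fun _ => 1) (fun P hP => ?_) (fun P _ Q _ h => h)
      · simp only [pow_one] at h4
        rw [← h4, Submodule.mem_finsetInf]
        exact fun P hP => hy P (Set.mem_toFinset.mp hP)
      · have hP' := Set.mem_toFinset.mp hP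
        exact Ideal.prime_of_isPrime (Ideal.ne_bot_of_mem_primesOver W.ne_bot hP') hP'.1
    · have hP' := Set.mem_toFinset.mp hP
      rw [hram P hP'.1 hP'.2, pow_one]
  haveI : Nontrivial (S ⧸ (maximalIdeal A).map (algebraMap A S)) :=
    Ideal.Quotient.nontrivial_iff.mpr fun h => by
      obtain ⟨Q, hQ, hQm⟩ := Ideal.exists_ideal_over_maximal_of_isIntegral (S := S) (maximalIdeal A)
        (fun z hz => by
          rw [RingHom.mem_ker] at hz
          rw [show z = 0 from Subtype.ext ((algebraMap K L).injective ((congrArg Subtype.val hz).trans (map_zero _).symm))]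
          exact zero_mem _)
      exact hQ.ne_top (top_le_iff.mp (h ▸ Ideal.map_le_iff_le_comap.mpr hQm.ge))
  obtain ⟨x, hx⟩ := exists_norm_congr (S := S) hπm ⟨b, (hA b).mpr hb.le⟩ (isUnit_iff_exists_inv.mpr
    ⟨⟨b⁻¹, (hA _).mpr (by rw [map_inv₀, hb, inv_one])⟩, Subtype.ext (mul_inv_cancel₀ (fun h => by
      change b = 0 at h
      rw [h, map_zero] at hb; exact zero_ne_one hb))⟩) N
  obtain ⟨p, hp, hpx⟩ := x.2
  refine ⟨(x : L), ⟨p.map (algebraMap A K), hp.map _, fun i => ?_, ?_⟩, ?_⟩
  · rw [Polynomial.coeff_map]; exact (hA _).mp (p.coeff i).2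
  · rw [Polynomial.aeval_map_algebraMap]; exact hpx
  · rw [show Algebra.norm K (x : L) = algebraMap A K (Algebra.norm A x) from
      Algebra.norm_localization A (nonZeroDivisors A) x]
    rw [hπm, Ideal.span_singleton_pow, Ideal.mem_span_singleton'] at hx
    obtain ⟨r, hr⟩ := hx
    have h1 : algebraMap A K (Algebra.norm A x) - b = (r : K) * (π : K) ^ N := by
      rw [show b = algebraMap A K ⟨b, (hA b).mpr hb.le⟩ from rfl, ← map_sub, ← hr]
      rfl
    rw [h1, map_mul, map_pow, hπv, ← exp_nsmul]
    refine (mul_le_of_le_one_left zero_le ((hA _).mp r.2)).trans ?_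
    simp

end Groth.Agent.H23Strong.NormUnit
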