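import Groth.Agent.H23Strong.Main
import Mathlib.FieldTheory.SplittingField.Construction

/-! # Places splitting in finitely many fields -/

set_option autoImplicit false

universe u v

open IsDedekindDomain NumberField WithZero Polynomial

namespace Groth.Agent.H23Strong

section lift

variable {k K : Type u} [Field k] [NumberField k] [Field K] [NumberField K] [Algebra k K]
  {W : HeightOneSpectrum (RingOfIntegers K)} {v : HeightOneSpectrum (RingOfIntegers k)}

theorem under_mem_iff (h : W.asIdeal.LiesOver v.asIdeal) (r : RingOfIntegers k) :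
    algebraMap (RingOfIntegers k) (RingOfIntegers K) r ∈ W.asIdeal ↔ r ∈ v.asIdeal := by
  haveI := h
  rw [Ideal.LiesOver.over (P := W.asIdeal) (p := v.asIdeal)]
  rfl

theorem valuation_lift_lt (h : W.asIdeal.LiesOver v.asIdeal) {z : k} (hz : v.valuation k z < 1) :
    W.valuation K (algebraMap k K z) < 1 := by
  obtain ⟨n, ⟨d, hd⟩, hnd⟩ := HeightOneSpectrum.exists_primeCompl_mul_eq_of_integer v z hz.le
  have hd' : v.valuation k (algebraMap (RingOfIntegers k) k d) = 1 :=
    v.valuation_eq_one_iff_notMem.mpr hd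
  have hn : n ∈ v.asIdeal := by
    have h1 : v.valuation k (algebraMap (RingOfIntegers k) k n) < 1 := by rw [← hnd, map_mul, hd', mul_one]; exact hz
    exact (v.valuation_lt_one_iff_mem (K := k) n).mp h1
  have hdW : W.valuation K (algebraMap k K (algebraMap (RingOfIntegers k) k d)) = 1 := by
    rw [← IsScalarTower.algebraMap_apply, IsScalarTower.algebraMap_apply (RingOfIntegers k) (RingOfIntegers K) K,
      W.valuation_eq_one_iff_notMem, under_mem_iff h]
    exact hd
  have h1 : W.valuation K (algebraMap k K (algebraMap (RingOfIntegers k) k n)) < 1 := by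
    rw [← IsScalarTower.algebraMap_apply, IsScalarTower.algebraMap_apply (RingOfIntegers k) (RingOfIntegers K) K,
      W.valuation_lt_one_iff_mem, under_mem_iff h]
    exact hn
  rwa [← hnd, map_mul, map_mul, hdW, mul_one] at h1

theorem valuation_lift_le_iff (h : W.asIdeal.LiesOver v.asIdeal) (z : k) :
    W.valuation K (algebraMap k K z) ≤ 1 ↔ v.valuation k z ≤ 1 := by
  constructor
  · intro hW
    by_contra hv
    have hz0 : z ≠ 0 := fun h0 => hv (by rw [h0, map_zero]; exact zero_le)
    have h1 : v.valuation k z⁻¹ < 1 := by rw [map_inv₀]; exact inv_lt_one_of_one_lt₀ (not_le.mp hv)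
    have h2 := valuation_lift_lt h h1
    rw [map_inv₀, map_inv₀] at h2
    refine absurd h2 (not_lt.mpr (one_le_inv₀ ?_ |>.mpr hW))
    exact zero_lt_iff.mpr ((Valuation.ne_zero_iff _).mpr ((map_ne_zero_iff _ (algebraMap k K).injective).mpr hz0))
  · intro hv
    rcases hv.lt_or_eq with hlt | heq
    · exact (valuation_lift_lt h hlt).le
    · by_contra hW
      have h1 : W.valuation K (algebraMap k K z)⁻¹ < 1 := by rw [map_inv₀]; exact inv_lt_one_of_one_lt₀ (not_le.mp hW)
      rw [← map_inv₀] at h1
      obtain ⟨n, ⟨d, hd⟩, hnd⟩ := HeightOneSpectrum.exists_primeCompl_mul_eq_of_integer v z⁻¹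
        (by rw [map_inv₀, heq, inv_one])
      have hn : v.valuation k (algebraMap (RingOfIntegers k) k n) = 1 := by
        rw [← hnd, map_mul, map_inv₀, heq, inv_one, v.valuation_eq_one_iff_notMem.mpr hd, one_mul]
      have h2 : W.valuation K (algebraMap k K (algebraMap (RingOfIntegers k) k n)) < 1 := by
        rw [← hnd, map_mul, map_mul]
        refine lt_of_le_of_lt (mul_le_of_le_one_right zero_le ?_) h1
        rw [← IsScalarTower.algebraMap_apply, IsScalarTower.algebraMap_apply (RingOfIntegers k) (RingOfIntegers K) K]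
        exact W.valuation_le_one _
      rw [← IsScalarTower.algebraMap_apply, IsScalarTower.algebraMap_apply (RingOfIntegers k) (RingOfIntegers K) K,
        W.valuation_lt_one_iff_mem, under_mem_iff h, ← v.valuation_lt_one_iff_mem (K := k), hn] at h2
      exact lt_irrefl _ h2

theorem valuation_lt_of_lift (h : W.asIdeal.LiesOver v.asIdeal) {z : k} (hz : W.valuation K (algebraMap k K z) < 1) :
    v.valuation k z < 1 := by
  refine lt_of_le_of_ne ((valuation_lift_le_iff h z).mp hz.le) fun h1 => ?_
  have h2 : v.valuation k z⁻¹ ≤ 1 := by rw [map_inv₀, h1, inv_one]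
  have h3 := (valuation_lift_le_iff h z⁻¹).mpr h2
  have hz0 : z ≠ 0 := fun h0 => by rw [h0, map_zero] at h1; exact zero_ne_one h1
  have h4 : W.valuation K (algebraMap k K z) * W.valuation K (algebraMap k K z⁻¹) = 1 := by
    rw [← map_mul, ← map_mul, mul_inv_cancel₀ hz0, map_one, map_one]
  exact absurd h4 (ne_of_lt (lt_of_le_of_lt (mul_le_of_le_one_right zero_le h3) hz))

variable (v) in
theorem exists_place_above : ∃ W : HeightOneSpectrum (RingOfIntegers K), W.asIdeal.LiesOver v.asIdeal := by
  obtain ⟨Q, -, hQ, hQv⟩ := Ideal.exists_ideal_over_prime_of_isIntegral v.asIdeal (⊥ : Ideal (RingOfIntegers K))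
    (by rw [← RingHom.ker_eq_comap_bot, (RingHom.injective_iff_ker_eq_bot _).mp
      (FaithfulSMul.algebraMap_injective (RingOfIntegers k) (RingOfIntegers K))]; exact bot_le)
  refine ⟨⟨Q, hQ, fun h => v.ne_bot ?_⟩, ⟨hQv.symm⟩⟩
  rw [← hQv, h, ← RingHom.ker_eq_comap_bot, (RingHom.injective_iff_ker_eq_bot _).mp
      (FaithfulSMul.algebraMap_injective (RingOfIntegers k) (RingOfIntegers K))]

end lift

theorem valuation_poly_eval_sub_lt {F : Type*} [Field F] {Γ : Type*} [LinearOrderedCommGroupWithZero Γ]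
    (w : Valuation F Γ) (q : Polynomial F) (hq : ∀ i, w (q.coeff i) ≤ 1) {x y : F} (hx : w x ≤ 1) (hy : w y ≤ 1)
    (hxy : w (x - y) < 1) : w (q.eval x - q.eval y) < 1 := by
  rw [eval_eq_sum_range, eval_eq_sum_range, ← Finset.sum_sub_distrib]
  refine Valuation.map_sum_lt _ one_ne_zero fun i _ => ?_
  rw [← mul_sub, map_mul]
  refine lt_of_le_of_lt (mul_le_of_le_one_left zero_le (hq i)) ?_
  clear * - hx hy hxy
  induction i with
  | zero => simp
  | succ i ih =>
    rw [pow_succ, pow_succ, show x ^ i * x - y ^ i * y = (x ^ i - y ^ i) * x + y ^ i * (x - y) by ring]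
    refine Valuation.map_add_lt _ ?_ ?_ <;> rw [map_mul]
    · exact lt_of_le_of_lt (mul_le_of_le_one_right zero_le hx) ih
    · refine lt_of_le_of_lt (mul_le_of_le_one_left zero_le ?_) hxy
      rw [map_pow]; exact pow_le_one₀ zero_le hy

theorem prod_X_sub_C_congr {F : Type*} [Field F] {Γ : Type*} [LinearOrderedCommGroupWithZero Γ]
    (w : Valuation F Γ) (s : Multiset F) (ρ : F → F) (h : ∀ a ∈ s, w (ρ a) ≤ 1 ∧ w (a - ρ a) < 1) :
    (∀ i, w (((s.map ρ).map fun r => X - C r).prod.coeff i) ≤ 1) ∧
      ∀ i, w ((s.map fun a => X - C a).prod.coeff i - ((s.map ρ).map fun r => X - C r).prod.coeff i) < 1 := by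
  induction s using Multiset.induction with
  | empty =>
    refine ⟨fun i => ?_, fun i => ?_⟩
    · simp only [Multiset.map_zero, Multiset.prod_zero, coeff_one]
      split_ifs <;> simp
    · simp
  | cons a s ih =>
    obtain ⟨h1, h2⟩ := ih fun b hb => h b (Multiset.mem_cons_of_mem hb)
    obtain ⟨hr, har⟩ := h a (Multiset.mem_cons_self a s)
    have ha : w a ≤ 1 := by
      rw [← sub_add_cancel a (ρ a)]
      exact Valuation.map_add_le _ har.le hr
    simp only [Multiset.map_cons, Multiset.prod_cons, sub_mul, coeff_sub, coeff_C_mul]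
    refine ⟨fun i => Valuation.map_sub_le w ?_ ?_, fun i => ?_⟩
    · cases i with
      | zero => simp
      | succ i => rw [coeff_X_mul]; exact h1 i
    · rw [map_mul]; exact mul_le_one₀ hr zero_le (h1 i)
    · generalize (s.map fun a => X - C a).prod = P at h2
      generalize ((s.map ρ).map fun r => X - C r).prod = Q at h1 h2
      rw [show ((X : Polynomial F) * P).coeff i - a * P.coeff i - (((X : Polynomial F) * Q).coeff i - ρ a * Q.coeff i) =
        (((X : Polynomial F) * P).coeff i - ((X : Polynomial F) * Q).coeff i) - (a * (P.coeff i - Q.coeff i) + (a - ρ a) * Q.coeff i) by ring]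
      refine lt_of_le_of_lt (Valuation.map_sub _ _ _) (max_lt ?_ (Valuation.map_add_lt _ ?_ ?_))
      · cases i with
        | zero => simp
        | succ i => rw [coeff_X_mul, coeff_X_mul]; exact h2 i
      · rw [map_mul]; exact lt_of_le_of_lt (mul_le_of_le_one_left zero_le ha) (h2 i)
      · rw [map_mul]; exact lt_of_le_of_lt (mul_le_of_le_one_right zero_le (h1 i)) har

variable (k : Type u) [Field k] [NumberField k]

/-- Outside any finite set there is a place where a monic polynomial splits into linear factors. -/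
theorem exists_split_place (f : Polynomial k) (hf : f.Monic) (E : Finset (HeightOneSpectrum (RingOfIntegers k))) :
    ∃ v ∉ E, ∃ s : Multiset k, (∀ r ∈ s, v.valuation k r ≤ 1) ∧
      ∀ i, v.valuation k (f.coeff i - (s.map fun r => X - C r).prod.coeff i) < 1 := by
  classical
  let N := f.SplittingField
  haveI : NumberField N := NumberField.of_module_finite k N
  obtain ⟨θ, hθ0, hθint, hθ⟩ := exists_integral_primitive k N
  have hq : ∀ α : N, ∃ q : Polynomial k, aeval θ q = α := fun α => by
    have h1 : α ∈ (IntermediateField.adjoin k {θ}).toSubalgebra := by rw [hθ]; trivial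
    rw [IntermediateField.adjoin_simple_toSubalgebra_of_isAlgebraic (IsAlgebraic.of_finite k θ),
      Algebra.adjoin_singleton_eq_range_aeval] at h1
    exact h1
  choose q hq using hq
  set roots := (f.map (algebraMap k N)).roots with hroots
  let E' := E ∪ roots.toFinset.biUnion fun α => (finite_valuation_gt (q α)).toFinset
  let M : ℕ := ∏ v ∈ E', Ideal.absNorm v.asIdeal
  have hM : M ≠ 0 := Finset.prod_ne_zero_iff.mpr fun v _ => by
    rw [ne_eq, Ideal.absNorm_eq_zero_iff]
    exact v.ne_bot
  obtain ⟨θ', hθ'⟩ : ∃ θ' : RingOfIntegers N, algebraMap (RingOfIntegers N) N θ' = θ := ⟨⟨θ, hθint⟩, rfl⟩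
  obtain ⟨n, hn, hnu⟩ := exists_nonunit_one_sub θ'
    (fun h => hθ0 (by rw [← hθ', h, map_zero])) hM
  obtain ⟨P, hP, hmem⟩ := exists_max_ideal_of_mem_nonunits (mem_nonunits_iff.mpr hnu)
  haveI := hP
  have hP0 : P ≠ ⊥ := Ring.ne_bot_of_isMaximal_of_not_isField hP (RingOfIntegers.not_isField N)
  let W : HeightOneSpectrum (RingOfIntegers N) := ⟨P, hP.isPrime, hP0⟩
  let v : HeightOneSpectrum (RingOfIntegers k) :=
    ⟨P.comap (algebraMap (RingOfIntegers k) (RingOfIntegers N)), Ideal.comap_isPrime _ _, fun h =>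
      hP0 (Ideal.eq_bot_of_comap_eq_bot h)⟩
  have hover : W.asIdeal.LiesOver v.asIdeal := ⟨rfl⟩
  have hm : W.valuation N ((n * M : ℕ) : N) = 1 := by
    rw [← map_natCast (algebraMap (RingOfIntegers N) N), W.valuation_eq_one_iff_notMem]
    intro h
    refine hP.ne_top ((Ideal.eq_top_iff_one P).mpr ?_)
    have h2 : (1 - ((n * M : ℕ) : RingOfIntegers N) * θ') + ((n * M : ℕ) : RingOfIntegers N) * θ' ∈ P :=
      add_mem hmem (P.mul_mem_right _ h)
    rwa [sub_add_cancel] at h2
  have hvE : v ∉ E' := fun hv => by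
    have h1 : ((n * M : ℕ) : RingOfIntegers k) ∈ v.asIdeal := by
      obtain ⟨t, ht⟩ : Ideal.absNorm v.asIdeal ∣ M := Finset.dvd_prod_of_mem _ hv
      rw [ht, Nat.cast_mul, Nat.cast_mul]
      exact Ideal.mul_mem_left _ _ (Ideal.mul_mem_right _ _ (Ideal.absNorm_mem _))
    rw [← under_mem_iff (K := N) hover, map_natCast] at h1
    have h2 : W.valuation N (algebraMap (RingOfIntegers N) N ((n * M : ℕ) : RingOfIntegers N)) < 1 :=
      (W.valuation_lt_one_iff_mem _).mpr h1
    rw [map_natCast, hm] at h2
    exact lt_irrefl _ h2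
  set c : k := ((n * M : ℕ) : k)⁻¹ with hc
  have hcv : W.valuation N (algebraMap k N c) = 1 := by rw [hc, map_inv₀, map_natCast, map_inv₀, hm, inv_one]
  have hθc : W.valuation N (θ - algebraMap k N c) < 1 := by
    have h1 : W.valuation N (algebraMap (RingOfIntegers N) N (1 - ((n * M : ℕ) : RingOfIntegers N) * θ')) < 1 :=
      (W.valuation_lt_one_iff_mem _).mpr hmem
    rw [map_sub (algebraMap _ _), map_one, map_mul, map_natCast,
      hθ'] at h1
    have hne : ((n * M : ℕ) : N) ≠ 0 := Nat.cast_ne_zero.mpr (Nat.mul_ne_zero hn.ne' hM)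
    rw [hc, map_inv₀, map_natCast, show θ - ((n * M : ℕ) : N)⁻¹ = -(((n * M : ℕ) : N)⁻¹ * (1 - ((n * M : ℕ) : N) * θ)) by
      rw [mul_sub, mul_one, ← mul_assoc, inv_mul_cancel₀ hne, one_mul]; ring,
      Valuation.map_neg, map_mul, map_inv₀, hm, inv_one, one_mul]
    exact h1
  have hθ1 : W.valuation N θ ≤ 1 := hθ' ▸ W.valuation_le_one θ'
  let ρ : N → N := fun α => algebraMap k N ((q α).eval c)
  have hcl : v.valuation k c ≤ 1 := (valuation_lift_le_iff hover c).mp hcv.le
  have hval : ∀ α ∈ roots, ∀ i, v.valuation k ((q α).coeff i) ≤ 1 := fun α hα i => not_lt.mp fun h =>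
    hvE (Finset.mem_union_right _ (Finset.mem_biUnion.mpr ⟨α, Multiset.mem_toFinset.mpr hα,
      (Set.Finite.mem_toFinset _).mpr ⟨i, h⟩⟩))
  have hρ : ∀ α ∈ roots, W.valuation N (ρ α) ≤ 1 ∧ W.valuation N (α - ρ α) < 1 := fun α hα => by
    have hco : ∀ i, W.valuation N (((q α).map (algebraMap k N)).coeff i) ≤ 1 := fun i => by
      rw [coeff_map]
      exact (valuation_lift_le_iff hover _).mpr (hval α hα i)
    refine ⟨(valuation_lift_le_iff hover _).mpr (valuation_eval_le_one _ _ _ (hval α hα) hcl), ?_⟩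
    have h1 := valuation_poly_eval_sub_lt (W.valuation N) _ hco hθ1 hcv.le hθc
    rwa [eval_map, eval_map, ← aeval_def, hq α, eval₂_at_apply] at h1
  refine ⟨v, fun h => hvE (Finset.mem_union_left _ h), roots.map fun α => (q α).eval c, ?_, fun i => ?_⟩
  · intro r hr
    obtain ⟨α, hα, rfl⟩ := Multiset.mem_map.mp hr
    exact valuation_eval_le_one _ _ _ (hval α hα) hcl
  · obtain ⟨-, h2⟩ := prod_X_sub_C_congr (W.valuation N) roots ρ hρ
    refine valuation_lt_of_lift hover (lt_of_le_of_lt (le_of_eq ?_) (h2 i))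
    congr 1
    rw [map_sub, ← coeff_map, ← coeff_map, ← (SplittingField.splits f).eq_prod_roots_of_monic (hf.map _),
      Polynomial.map_multiset_prod, Multiset.map_map, Multiset.map_map, Multiset.map_map]
    congr 3
    refine Multiset.map_congr rfl fun α _ => ?_
    simp [ρ]

/-- Outside any finite set there is a place all of whose places in `K` split off a factor in `L`. -/
theorem exists_split_places {ι : Type} [Fintype ι] (K L : ι → Type u) [∀ i, Field (K i)] [∀ i, NumberField (K i)]
    [∀ i, Algebra k (K i)] [∀ i, Field (L i)] [∀ i, NumberField (L i)] [∀ i, Algebra (K i) (L i)]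
    [∀ i, Algebra k (L i)] [∀ i, IsScalarTower k (K i) (L i)]
    (E : Finset (HeightOneSpectrum (RingOfIntegers k))) :
    ∃ v ∉ E, ∀ i, ∀ W : HeightOneSpectrum (RingOfIntegers (K i)), W.asIdeal.LiesOver v.asIdeal →
      Nonempty (L i →ₐ[K i] W.adicCompletion (K i)) := by
  classical
  choose θ hθ0 hθint hθ using fun i => exists_integral_primitive (K i) (L i)
  choose a b hab using fun i => exists_bezout (k := K i) (θ i)
  let f : Polynomial k := ∏ i, minpoly k (θ i)
  have hfm : f.Monic := monic_prod_of_monic _ _ fun i _ => minpoly.monic (IsIntegral.of_finite k (θ i))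
  let under : ∀ i, HeightOneSpectrum (RingOfIntegers (K i)) → HeightOneSpectrum (RingOfIntegers k) := fun i W =>
    ⟨W.asIdeal.comap (algebraMap (RingOfIntegers k) (RingOfIntegers (K i))), Ideal.comap_isPrime _ _, fun h =>
      W.ne_bot (Ideal.eq_bot_of_comap_eq_bot h)⟩
  let E' := E ∪ Finset.univ.biUnion fun i =>
    ((finite_valuation_gt (a i)).toFinset ∪ (finite_valuation_gt (b i)).toFinset).image (under i)
  obtain ⟨v, hvE, s, hs, hfs⟩ := exists_split_place k f hfm E'
  refine ⟨v, fun h => hvE (Finset.mem_union_left _ h), fun i W hW => ?_⟩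
  have hunder : under i W = v := HeightOneSpectrum.ext (by haveI := hW; exact (Ideal.LiesOver.over (P := W.asIdeal)).symm)
  set g := minpoly (K i) (θ i) with hg
  have hgm : g.Monic := minpoly.monic (IsIntegral.of_finite _ _)
  have hgc : ∀ j, W.valuation (K i) (g.coeff j) ≤ 1 := fun j => by
    rw [hg, minpoly.isIntegrallyClosed_eq_field_fractions' (R := RingOfIntegers (K i)) (K i) (hθint i).tower_top,
      coeff_map]
    exact W.valuation_le_one _
  have hgood : ∀ q : Polynomial (K i), (q = a i ∨ q = b i) → ∀ j, W.valuation (K i) (q.coeff j) ≤ 1 :=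
    fun q hq j => not_lt.mp fun h => hvE (Finset.mem_union_right _ (Finset.mem_biUnion.mpr ⟨i, Finset.mem_univ i,
      Finset.mem_image.mpr ⟨W, Finset.mem_union.mpr (hq.imp (fun h' => (Set.Finite.mem_toFinset _).mpr ⟨j, by subst h'; exact h⟩)
        fun h' => (Set.Finite.mem_toFinset _).mpr ⟨j, by subst h'; exact h⟩), hunder⟩⟩))
  -- work in the residue field
  let A := (W.valuation (K i)).valuationSubring
  have hA : ∀ z, W.valuation (K i) z ≤ 1 → z ∈ A := fun z hz => (Valuation.mem_valuationSubring_iff _ _).mpr hz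
  have hres : ∀ x : A, W.valuation (K i) (x : K i) < 1 → IsLocalRing.residue A x = 0 := fun x hx => by
    rw [IsLocalRing.residue_eq_zero_iff, IsLocalRing.mem_maximalIdeal, mem_nonunits_iff]
    intro hu
    obtain ⟨y, hy⟩ := hu.exists_right_inv
    have h1 : W.valuation (K i) (x : K i) * W.valuation (K i) (y : K i) = 1 := by
      rw [← map_mul, show (x : K i) * (y : K i) = 1 from congrArg Subtype.val hy, map_one]
    exact absurd h1 (ne_of_lt (lt_of_le_of_lt (mul_le_of_le_one_right zero_le y.2) hx))
  let sK : Multiset A := s.pmap (fun r hr => (⟨algebraMap k (K i) r, hA _ hr⟩ : A))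
    fun r hr => (valuation_lift_le_iff hW r).mpr (hs r hr)
  have hsK : sK.map A.subtype = s.map (algebraMap k (K i)) := by
    rw [Multiset.map_pmap]
    exact Multiset.pmap_eq_map _ (algebraMap k (K i)) s _
  obtain ⟨gA, hgA, -, hgAm⟩ := Polynomial.lifts_and_degree_eq_and_monic
    ((Polynomial.lifts_iff_coeff_lifts g).mpr fun j => ⟨(⟨g.coeff j, hA _ (hgc j)⟩ : A), rfl⟩ :
      g ∈ Polynomial.lifts (algebraMap A (K i))) hgm
  obtain ⟨h, hh⟩ : g ∣ f.map (algebraMap k (K i)) := by
    refine dvd_trans (minpoly.dvd (K i) (θ i) ?_) (Polynomial.map_dvd _ (Finset.dvd_prod_of_mem _ (Finset.mem_univ i)))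
    rw [aeval_map_algebraMap, minpoly.aeval]
  -- the product of the linear factors
  let PA : Polynomial A := (sK.map fun r => X - C r).prod
  have hPA : PA.map A.subtype = ((s.map fun r => X - C r).prod).map (algebraMap k (K i)) := by
    rw [Polynomial.map_multiset_prod, Polynomial.map_multiset_prod, Multiset.map_map, Multiset.map_map]
    have h0 := congrArg (fun m : Multiset (K i) => m.map fun r => X - C r) hsK
    simp only [Multiset.map_map] at h0
    congr 1
    rw [Multiset.map_congr rfl (fun r _ => show _ = ((fun r : K i => X - C r) ∘ A.subtype) r by simp),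
      Multiset.map_congr (s := s) rfl (fun r _ => show _ = ((fun r : K i => X - C r) ∘ algebraMap k (K i)) r by simp)]
    exact h0
  have hfc : ∀ j, W.valuation (K i) ((f.map (algebraMap k (K i))).coeff j) ≤ 1 := fun j => by
    rw [coeff_map, ← sub_add_cancel (f.coeff j) ((s.map fun r => X - C r).prod.coeff j), map_add]
    refine Valuation.map_add_le _ (valuation_lift_lt hW (hfs j)).le ?_
    rw [← coeff_map, ← hPA, coeff_map]
    exact (PA.coeff j).2
  obtain ⟨fA, hfA, -, hfAm⟩ := Polynomial.lifts_and_degree_eq_and_monic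
    ((Polynomial.lifts_iff_coeff_lifts _).mpr fun j => ⟨(⟨(f.map (algebraMap k (K i))).coeff j, hA _ (hfc j)⟩ : A), rfl⟩ :
      f.map (algebraMap k (K i)) ∈ Polynomial.lifts (algebraMap A (K i))) (hfm.map _)
  have hdvd : gA ∣ fA := (Polynomial.map_dvd_map (algebraMap A (K i)) Subtype.val_injective hgAm).mp
    (by rw [hgA, hfA]; exact ⟨h, hh⟩)
  have heq : fA.map (IsLocalRing.residue A) = PA.map (IsLocalRing.residue A) := by
    ext j
    rw [coeff_map, coeff_map, ← sub_eq_zero, ← map_sub]
    refine hres _ ?_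
    have h1 := valuation_lift_lt hW (hfs j)
    have h2 : ((fA.coeff j - PA.coeff j : A) : K i) = algebraMap k (K i) (f.coeff j - (s.map fun r => X - C r).prod.coeff j) := by
      rw [map_sub]
      show (algebraMap A (K i)) (fA.coeff j) - A.subtype (PA.coeff j) = _
      rw [← coeff_map, ← coeff_map, ← coeff_map, hfA, hPA, coeff_map, coeff_map]
    rwa [h2]
  have hdeg : (gA.map (IsLocalRing.residue A)).degree ≠ 0 := by
    rw [degree_eq_natDegree (hgAm.map _).ne_zero, hgAm.natDegree_map, ← hgAm.natDegree_map (algebraMap A (K i)), hgA]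
    exact_mod_cast (minpoly.natDegree_pos (IsIntegral.of_finite (K i) (θ i))).ne'
  have hsp : (PA.map (IsLocalRing.residue A)).Splits := by
    rw [Polynomial.map_multiset_prod, Multiset.map_map]
    refine Polynomial.Splits.multisetProd fun p hp => ?_
    obtain ⟨r, -, rfl⟩ := Multiset.mem_map.mp hp
    simp [Polynomial.Splits.X_sub_C]
  have hd : gA.map (IsLocalRing.residue A) ∣ PA.map (IsLocalRing.residue A) := heq ▸ Polynomial.map_dvd _ hdvd
  obtain ⟨x, hx⟩ := (hsp.of_dvd (by rw [← heq]; exact (hfAm.map _).ne_zero) hd).exists_eval_eq_zero hdeg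
  have hx2 : (PA.map (IsLocalRing.residue A)).eval x = 0 := by
    obtain ⟨t, ht⟩ := hd
    rw [ht, eval_mul, hx, zero_mul]
  rw [Polynomial.map_multiset_prod, Multiset.map_map, eval_multiset_prod, Multiset.map_map,
    Multiset.prod_eq_zero_iff] at hx2
  obtain ⟨r, -, hr⟩ := Multiset.mem_map.mp hx2
  simp only [Function.comp_apply, Polynomial.map_sub, map_X, map_C, eval_sub, eval_X, eval_C, sub_eq_zero] at hr
  refine degreeOne_of_lt_one W (hθ i) (hab i) hgc (hgood _ (Or.inl rfl)) (hgood _ (Or.inr rfl)) (r : K i)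
    ((Valuation.mem_valuationSubring_iff _ _).mp r.2) ?_
  refine lt_of_le_of_ne (valuation_eval_le_one _ _ _ hgc ((Valuation.mem_valuationSubring_iff _ _).mp r.2))
    fun h1 => ?_
  have he : g.eval (r : K i) = ((gA.eval r : A) : K i) := by
    rw [← hgA, eval_map]
    exact (Polynomial.hom_eval₂ gA (RingHom.id A) (algebraMap A (K i)) r).symm
  have hzero : IsLocalRing.residue A (gA.eval r) = 0 := by
    rw [show IsLocalRing.residue A (gA.eval r) = (gA.map (IsLocalRing.residue A)).eval (IsLocalRing.residue A r) by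
      rw [eval_map]; exact Polynomial.hom_eval₂ gA (RingHom.id A) (IsLocalRing.residue A) r, ← hr]
    exact hx
  rw [IsLocalRing.residue_eq_zero_iff, IsLocalRing.mem_maximalIdeal, mem_nonunits_iff] at hzero
  rw [he] at h1
  have hne : ((gA.eval r : A) : K i) ≠ 0 := fun h0 => by rw [h0, map_zero] at h1; exact zero_ne_one h1
  exact hzero (isUnit_iff_exists_inv.mpr ⟨⟨_, hA _ (by rw [map_inv₀, h1, inv_one])⟩, Subtype.ext (mul_inv_cancel₀ hne)⟩)

end Groth.Agent.H23Strong
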