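import Groth.Agent.H23Strong.Split
import Mathlib.Topology.Algebra.Module.ModuleTopology

/-! # Approximation in a tower with norms that are units away from places of degree one -/

set_option autoImplicit false

universe u v

open IsDedekindDomain NumberField WithZero Polynomial TensorProduct
open scoped Topology

namespace Groth.Agent.H23Strong

variable {k K L : Type u} [Field k] [NumberField k] [Field K] [NumberField K] [Field L] [NumberField L]
  [Algebra k K] [Algebra K L] [Algebra k L] [IsScalarTower k K L]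

/-- The place below. -/
noncomputable def placeUnder (k : Type u) {K : Type u} [Field k] [NumberField k] [Field K] [NumberField K] [Algebra k K]
    (W : HeightOneSpectrum (RingOfIntegers K)) : HeightOneSpectrum (RingOfIntegers k) :=
  ⟨W.asIdeal.comap (algebraMap (RingOfIntegers k) (RingOfIntegers K)), Ideal.comap_isPrime _ _, fun h =>
    W.ne_bot (Ideal.eq_bot_of_comap_eq_bot h)⟩

theorem liesOver_placeUnder (W : HeightOneSpectrum (RingOfIntegers K)) :
    W.asIdeal.LiesOver (placeUnder k W).asIdeal := ⟨rfl⟩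

theorem placeUnder_eq {W : HeightOneSpectrum (RingOfIntegers K)} {v : HeightOneSpectrum (RingOfIntegers k)}
    (h : W.asIdeal.LiesOver v.asIdeal) : placeUnder k W = v :=
  HeightOneSpectrum.ext (by haveI := h; exact (Ideal.LiesOver.over (P := W.asIdeal)).symm)

theorem finite_above (v : HeightOneSpectrum (RingOfIntegers k)) :
    {W : HeightOneSpectrum (RingOfIntegers K) | placeUnder k W = v}.Finite := by
  haveI : v.asIdeal.IsMaximal := v.isMaximal
  refine ((IsDedekindDomain.primesOver_finite v.asIdeal (RingOfIntegers K)).preimage (f := fun W => W.asIdeal)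
    fun a _ b _ h => HeightOneSpectrum.ext h).subset fun W hW => ⟨W.isPrime, ?_⟩
  exact hW ▸ liesOver_placeUnder W

/-- An element integral at all places over `v` is an integral combination with denominators prime to `v`. -/
theorem exists_denominator (v : HeightOneSpectrum (RingOfIntegers k)) (z : K)
    (hz : ∀ W : HeightOneSpectrum (RingOfIntegers K), W.asIdeal.LiesOver v.asIdeal → W.valuation K z ≤ 1) :
    ∃ s : RingOfIntegers k, s ∉ v.asIdeal ∧ ∃ u : RingOfIntegers K,
      algebraMap k K (algebraMap (RingOfIntegers k) k s) * z = algebraMap (RingOfIntegers K) K u := by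
  let J : Ideal (RingOfIntegers K) :=
    { carrier := {d | ∃ u : RingOfIntegers K, algebraMap (RingOfIntegers K) K d * z = algebraMap (RingOfIntegers K) K u}
      add_mem' := fun {a b} ⟨u, hu⟩ ⟨u', hu'⟩ => ⟨u + u', by rw [map_add, map_add, add_mul, hu, hu']⟩
      zero_mem' := ⟨0, by rw [map_zero, zero_mul]⟩
      smul_mem' := fun c a ⟨u, hu⟩ => ⟨c * u, by rw [smul_eq_mul, map_mul, map_mul, mul_assoc, hu]⟩ }
  by_cases hle : J.comap (algebraMap (RingOfIntegers k) (RingOfIntegers K)) ≤ v.asIdeal
  · exfalso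
    obtain ⟨Q, hJQ, hQ, hQv⟩ := Ideal.exists_ideal_over_prime_of_isIntegral v.asIdeal J hle
    let W : HeightOneSpectrum (RingOfIntegers K) := ⟨Q, hQ, fun h => v.ne_bot (by
      rw [← hQv, h, ← RingHom.ker_eq_comap_bot, (RingHom.injective_iff_ker_eq_bot _).mp
        (FaithfulSMul.algebraMap_injective (RingOfIntegers k) (RingOfIntegers K))])⟩
    obtain ⟨n, ⟨d, hd⟩, hnd⟩ := HeightOneSpectrum.exists_primeCompl_mul_eq_of_integer W z (hz W ⟨hQv.symm⟩)
    exact hd (hJQ ⟨n, by rw [mul_comm]; exact hnd⟩)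
  · obtain ⟨s, hs, hsv⟩ := SetLike.not_le_iff_exists.mp hle
    obtain ⟨u, hu⟩ := hs
    refine ⟨s, hsv, u, ?_⟩
    rw [← IsScalarTower.algebraMap_apply, IsScalarTower.algebraMap_apply (RingOfIntegers k) (RingOfIntegers K) K]
    exact hu

theorem exists_coords_at (v : HeightOneSpectrum (RingOfIntegers k)) (z : K)
    (hz : ∀ W : HeightOneSpectrum (RingOfIntegers K), W.asIdeal.LiesOver v.asIdeal → W.valuation K z ≤ 1) :
    ∃ e : Module.Free.ChooseBasisIndex ℤ (RingOfIntegers K) → k,
      (∀ l, v.valuation k (e l) ≤ 1) ∧ ∑ l, algebraMap k K (e l) * integralBasis K l = z := by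
  obtain ⟨s, hs, u, hu⟩ := exists_denominator v z hz
  have hs1 : v.valuation k (algebraMap (RingOfIntegers k) k s) = 1 := v.valuation_eq_one_iff_notMem.mpr hs
  have hs0 : algebraMap k K (algebraMap (RingOfIntegers k) k s) ≠ 0 := fun h => by
    rw [(map_eq_zero_iff _ (algebraMap k K).injective).mp h, map_zero] at hs1
    exact zero_ne_one hs1
  refine ⟨fun l => ((RingOfIntegers.basis K).repr u l : k) / algebraMap (RingOfIntegers k) k s, fun l => ?_, ?_⟩
  · rw [map_div₀, hs1, div_one]
    have := v.valuation_le_one (K := k) (((RingOfIntegers.basis K).repr u l : ℤ) : RingOfIntegers k)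
    simpa using this
  · refine mul_left_cancel₀ hs0 (Eq.trans ?_ hu.symm)
    rw [Finset.mul_sum]
    conv_rhs => rw [← (RingOfIntegers.basis K).sum_repr u, map_sum]
    refine Finset.sum_congr rfl fun l _ => ?_
    rw [← mul_assoc, ← map_mul, mul_div_cancel₀ _ (fun h => hs0 (by rw [h, map_zero])), map_intCast, zsmul_eq_mul,
      map_mul, map_intCast, integralBasis_apply]

theorem continuous_comb {F : Type*} [Field F] [TopologicalSpace F] [IsTopologicalRing F] [Algebra k F]
    [TopologicalSpace (F ⊗[k] L)] [IsModuleTopology F (F ⊗[k] L)] {ι : Type*} [Fintype ι] (ω : ι → L) :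
    Continuous fun u : ι → F => ∑ i, u i • ((1 : F) ⊗ₜ[k] ω i) := by
  haveI : ContinuousAdd (F ⊗[k] L) := IsModuleTopology.toContinuousAdd F _
  have h := IsModuleTopology.continuous_of_linearMap
    (Fintype.linearCombination F (fun i => (1 : F) ⊗ₜ[k] ω i) : (ι → F) →ₗ[F] F ⊗[k] L)
  exact h.congr fun u => Fintype.linearCombination_apply F _ u

open scoped Classical in
theorem exists_tower_approx (v₀ : HeightOneSpectrum (RingOfIntegers k))
    (T : Finset (HeightOneSpectrum (RingOfIntegers k))) (hv₀ : v₀ ∉ T)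
    (hsmall : ∀ W : HeightOneSpectrum (RingOfIntegers K), Ideal.absNorm W.asIdeal ≤ Module.finrank K L →
      placeUnder k W ∈ insert v₀ T)
    (U : (v : HeightOneSpectrum (RingOfIntegers k)) → Set ((v.adicCompletion k) ⊗[k] L))
    (hU : ∀ v ∈ T, ∃ x, U v ∈ @nhds _ (moduleTopology (v.adicCompletion k) _) x)
    (Ui : (w : InfinitePlace k) → Set (w.Completion ⊗[k] L))
    (hUi : ∀ w, ∃ x, Ui w ∈ @nhds _ (moduleTopology w.Completion _) x) :
    ∃ x : L, (∀ v ∈ T, (1 : v.adicCompletion k) ⊗ₜ[k] x ∈ U v) ∧ (∀ w, (1 : w.Completion) ⊗ₜ[k] x ∈ Ui w) ∧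
      ∀ W : HeightOneSpectrum (RingOfIntegers K), placeUnder k W ∉ insert v₀ T →
        W.valuation K (Algebra.norm K x) ≤ 1 ∧
          (W.valuation K (Algebra.norm K x) = 1 ∨ Nonempty (L →ₐ[K] W.adicCompletion K)) := by
  classical
  obtain ⟨η, -, hηint, hη⟩ := exists_integral_primitive K L
  let ι := Module.Free.ChooseBasisIndex ℤ (RingOfIntegers L)
  let κ := Module.Free.ChooseBasisIndex ℤ (RingOfIntegers K)
  let ω : ι ⊕ Unit ⊕ κ → L :=
    Sum.elim (fun i => integralBasis L i) (Sum.elim (fun _ => η) fun l => algebraMap K L (integralBasis K l))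
  have hβ : ∀ l, IsIntegral ℤ (integralBasis K l) := fun l => by
    rw [integralBasis_apply]; exact RingOfIntegers.isIntegral_coe _
  have hω : ∀ i, IsIntegral ℤ (ω i) := by
    rintro (i | i | l)
    · show IsIntegral ℤ (integralBasis L i)
      rw [integralBasis_apply]
      exact RingOfIntegers.isIntegral_coe _
    · exact hηint
    · exact (hβ l).algebraMap
  have hspan : ∀ l : L, ∃ c : ι ⊕ Unit ⊕ κ → k, ∑ i, algebraMap k L (c i) * ω i = l := fun l => by
    refine ⟨Sum.elim (fun i => ((integralBasis L).repr l i : k)) 0, ?_⟩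
    rw [Fintype.sum_sum_type]
    conv_rhs => rw [exists_coords L l]
    simp [ω, ι]
  -- neighbourhoods of the coordinates
  have hopen : ∀ (F : Type u) [Field F] [TopologicalSpace F] [IsTopologicalRing F] [Algebra k F]
      (U : Set (F ⊗[k] L)), (∃ x, U ∈ @nhds _ (moduleTopology F _) x) →
      ∃ (u : ι ⊕ Unit ⊕ κ → F) (W : ι ⊕ Unit ⊕ κ → Set F), (∀ i, W i ∈ nhds (u i)) ∧
        ∀ u' : ι ⊕ Unit ⊕ κ → F, (∀ i, u' i ∈ W i) → ∑ i, u' i • ((1 : F) ⊗ₜ[k] ω i) ∈ U := by
    intro F _ _ _ _ U ⟨x, hx⟩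
    letI : TopologicalSpace (F ⊗[k] L) := moduleTopology F _
    haveI : IsModuleTopology F (F ⊗[k] L) := ⟨rfl⟩
    obtain ⟨u, hu⟩ := exists_comb ω hspan x
    have h1 := (continuous_comb (k := k) (F := F) ω).continuousAt.preimage_mem_nhds
      (show U ∈ nhds (∑ i, u i • ((1 : F) ⊗ₜ[k] ω i)) by rw [hu]; exact hx)
    rw [nhds_pi, Filter.mem_pi'] at h1
    obtain ⟨I, W, hW, hsub⟩ := h1
    exact ⟨u, W, hW, fun u' hu' => hsub fun i _ => hu' i⟩
  have hfin : ∀ v, ∃ (u : ι ⊕ Unit ⊕ κ → v.adicCompletion k) (W : ι ⊕ Unit ⊕ κ → Set (v.adicCompletion k)),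
      (∀ i, W i ∈ nhds (u i)) ∧ (v ∈ T → ∀ u' : ι ⊕ Unit ⊕ κ → v.adicCompletion k, (∀ i, u' i ∈ W i) →
        ∑ i, u' i • ((1 : v.adicCompletion k) ⊗ₜ[k] ω i) ∈ U v) := by
    intro v
    by_cases hv : v ∈ T
    · obtain ⟨u, W, hW, h⟩ := hopen _ (U v) (hU v hv)
      exact ⟨u, W, hW, fun _ => h⟩
    · exact ⟨0, fun _ => Set.univ, fun _ => Filter.univ_mem, fun h => absurd h hv⟩
  choose uf Wf hWf hnf using hfin
  have hinf := fun w : InfinitePlace k => hopen w.Completion (Ui w) (hUi w)
  choose ui Wi hWi hni using hinf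
  -- coordinates along the integral basis and a perturbation making the element primitive
  have hc : ∀ i, ∃ c : k, (∀ P ∈ T, algebraMap k (P.adicCompletion k) c ∈ Wf P (Sum.inl i)) ∧
      (∀ w, algebraMap k w.Completion c ∈ Wi w (Sum.inl i)) ∧ ∀ P ∉ T, P ≠ v₀ → P.valuation k c ≤ 1 := fun i =>
    strong_approx v₀ T hv₀ (fun P => uf P (Sum.inl i)) _ (fun P _ => hWf P _) (fun w => ui w (Sum.inl i)) _
      fun w => hWi w _
  choose c hcf hci hcint using hc
  obtain ⟨g₀, hg₀f, hg₀i, hg₀int⟩ := strong_approx v₀ T hv₀ (fun P => uf P (Sum.inr (Sum.inl ())))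
    (fun P => interior (Wf P (Sum.inr (Sum.inl ())))) (fun P _ => interior_mem_nhds.mpr (hWf P _))
    (fun w => ui w (Sum.inr (Sum.inl ()))) (fun w => interior (Wi w (Sum.inr (Sum.inl ()))))
    fun w => interior_mem_nhds.mpr (hWi w _)
  let y := ∑ i, algebraMap k L (c i) * ω (Sum.inl i) + algebraMap k L g₀ * η
  let bad := {r : k | IntermediateField.adjoin K {y + algebraMap k L r * η} ≠ ⊤}
  have hbad : bad.Finite := by
    haveI : Finite (IntermediateField K L) :=
      (Field.exists_primitive_element_iff_finite_intermediateField K L).mp ⟨inferInstance, η, hη⟩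
    refine Set.Finite.of_finite_image (f := fun r => IntermediateField.adjoin K {y + algebraMap k L r * η})
      (Set.toFinite _) fun r hr r' hr' h => ?_
    by_contra hne
    simp only at h
    apply hr
    rw [← top_le_iff, ← hη, IntermediateField.adjoin_simple_le_iff]
    have h1 : y + algebraMap k L r' * η ∈ IntermediateField.adjoin K {y + algebraMap k L r * η} := by
      rw [h]; exact IntermediateField.mem_adjoin_simple_self K _
    have h2 := mul_mem (IntermediateField.algebraMap_mem _ (algebraMap k K (r - r')⁻¹))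
      (sub_mem (IntermediateField.mem_adjoin_simple_self K (y + algebraMap k L r * η)) h1)
    rwa [← IsScalarTower.algebraMap_apply, add_sub_add_left_eq_sub, ← sub_mul, ← map_sub, ← mul_assoc, ← map_mul,
      inv_mul_cancel₀ (sub_ne_zero.mpr hne), map_one, one_mul] at h2
  have hball : ∀ P, ∃ e : ℕ, P ∈ T → ∀ z, Valued.v (z - algebraMap k (P.adicCompletion k) g₀) ≤ exp (-(e : ℤ)) →
      z ∈ Wf P (Sum.inr (Sum.inl ())) := fun P => by
    by_cases hP : P ∈ T
    · obtain ⟨e, he⟩ := exists_ball (isOpen_interior.mem_nhds (hg₀f P hP))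
      exact ⟨e, fun _ z hz => interior_subset (he z hz)⟩
    · exact ⟨0, fun h => absurd h hP⟩
  choose e he using hball
  obtain ⟨M, hM0, hMe⟩ := exists_small_at T e
  choose ε hε hεW using fun w => Metric.mem_nhds_iff.mp (isOpen_interior.mem_nhds (hg₀i w))
  obtain ⟨w₀⟩ := (inferInstance : Nonempty (InfinitePlace k))
  let lim : Finset ℝ := insert 1 ((Finset.univ.image ε) ∪ ((hbad.toFinset.filter (· ≠ 0)).image fun r => w₀ r))
  have hlim : lim.Nonempty := Finset.insert_nonempty _ _
  have hlim0 : 0 < lim.min' hlim := by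
    refine (Finset.lt_min'_iff _ _).mpr fun x hx => ?_
    simp only [lim, Finset.mem_insert, Finset.mem_union, Finset.mem_image, Finset.mem_filter, Finset.mem_univ,
      true_and] at hx
    rcases hx with rfl | ⟨w, rfl⟩ | ⟨r, ⟨-, hr⟩, rfl⟩
    · exact one_pos
    · exact hε w
    · exact w₀.1.pos hr
  obtain ⟨g, hg0, hgf, hgi⟩ := exists_small v₀ hM0 hlim0
  have hprim : IntermediateField.adjoin K {y + algebraMap k L g * η} = ⊤ := by
    by_contra hb
    refine absurd (hgi w₀) (not_lt.mpr (Finset.min'_le _ _ ?_))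
    exact Finset.mem_insert_of_mem (Finset.mem_union_right _ (Finset.mem_image.mpr
      ⟨g, Finset.mem_filter.mpr ⟨hbad.mem_toFinset.mpr hb, hg0⟩, rfl⟩))
  set θ := y + algebraMap k L g * η with hθdef
  set G := g₀ + g with hG
  have hGf : ∀ P ∈ T, algebraMap k (P.adicCompletion k) G ∈ Wf P (Sum.inr (Sum.inl ())) := fun P hP => he P hP _ (by
    rw [hG, map_add, add_sub_cancel_left, valued_algebraMap]
    exact (hgf P fun h => hv₀ (h ▸ hP)).trans (hMe P hP))
  have hGi : ∀ w, algebraMap k w.Completion G ∈ Wi w (Sum.inr (Sum.inl ())) := fun w => interior_subset (hεW w (by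
    rw [Metric.mem_ball, dist_eq_norm, hG, map_add, add_sub_cancel_left, norm_algebraMap_infinite]
    exact lt_of_lt_of_le (hgi w) (Finset.min'_le _ _ (Finset.mem_insert_of_mem (Finset.mem_union_left _
      (Finset.mem_image_of_mem _ (Finset.mem_univ w)))))))
  have hGint : ∀ P ∉ T, P ≠ v₀ → P.valuation k G ≤ 1 := fun P hP hP0 =>
    Valuation.map_add_le _ (hg₀int P hP hP0) ((hgf P hP0).trans (P.intValuation_le_one M))
  -- the exceptional places of the minimal polynomial
  obtain ⟨a, b, hab⟩ := exists_bezout (k := K) θ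
  let D := (((finite_valuation_gt a).toFinset ∪ (finite_valuation_gt b).toFinset).image (placeUnder k)) \ insert v₀ T
  have hout : ∀ W : HeightOneSpectrum (RingOfIntegers K), placeUnder k W ∉ insert v₀ T →
      ∀ z : k, (∀ P ∉ T, P ≠ v₀ → P.valuation k z ≤ 1) → W.valuation K (algebraMap k K z) ≤ 1 := by
    intro W hW z hz
    rw [Finset.mem_insert, not_or] at hW
    exact (valuation_lift_le_iff (liesOver_placeUnder W) z).mpr (hz _ hW.2 hW.1)
  have hθint : ∀ W : HeightOneSpectrum (RingOfIntegers K), placeUnder k W ∉ insert v₀ T →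
      ∀ i, W.valuation K ((minpoly K θ).coeff i) ≤ 1 := fun W hW => by
    refine coeff_minpoly_le_one W ?_
    have h1 := integralAt_comb W ω hω (fun i => algebraMap k K (Sum.elim c (Sum.elim (fun _ => G) 0) i)) (by
      rintro (i | i | l)
      · exact hout W hW _ (hcint i)
      · exact hout W hW _ hGint
      · show W.valuation K (algebraMap k K 0) ≤ 1
        rw [map_zero, map_zero]; exact zero_le)
    convert h1 using 1
    simp only [← IsScalarTower.algebraMap_apply k K L, Fintype.sum_sum_type, hθdef, y, hG, map_add]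
    simp [ω]
    ring
  have hdeg : (minpoly K θ).natDegree = Module.finrank K L := natDegree_minpoly_of_adjoin hprim
  have hres : ∀ W : HeightOneSpectrum (RingOfIntegers K), ∃ r : K, placeUnder k W ∉ insert v₀ T → W.valuation K r ≤ 1 ∧
      ∀ z, W.valuation K (z - r) < 1 → W.valuation K ((minpoly K θ).eval (-z)) = 1 := fun W => by
    by_cases hW : placeUnder k W ∈ insert v₀ T
    · exact ⟨0, fun h => absurd hW h⟩
    · obtain ⟨r, hr⟩ := exists_nonroot W (minpoly.monic (IsIntegral.of_finite K θ)) (hθint W hW)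
        (by rw [hdeg]; exact not_le.mp fun h => hW (hsmall W h))
      exact ⟨r, fun _ => hr⟩
  choose r hr using hres
  let DK := D.biUnion fun P => (finite_above (K := K) P).toFinset
  have hDK : ∀ W, W ∈ DK ↔ placeUnder k W ∈ D := fun W => by simp [DK]
  obtain ⟨cK, hcK, hcKint⟩ := exists_finite_approx DK r fun _ => 1
  have hexp1 : exp (-((1 : ℕ) : ℤ)) < (1 : ℤᵐ⁰) := by rw [← exp_zero, exp_lt_exp]; omega
  have hcK1 : ∀ P ∈ D, ∀ W : HeightOneSpectrum (RingOfIntegers K), W.asIdeal.LiesOver P.asIdeal →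
      W.valuation K cK ≤ 1 := fun P hP W hW => by
    have hu := placeUnder_eq hW
    have h1 := hcK W ((hDK W).mpr (by rw [hu]; exact hP))
    rw [← sub_add_cancel cK (r W)]
    exact Valuation.map_add_le _ (h1.trans hexp1.le) (hr W (by rw [hu]; exact (Finset.mem_sdiff.mp hP).2)).1
  have hetgt : ∀ P, ∃ et : κ → k, P ∈ D → (∀ l, P.valuation k (et l) ≤ 1) ∧
      ∑ l, algebraMap k K (et l) * integralBasis K l = cK := fun P => by
    by_cases hP : P ∈ D
    · obtain ⟨et, het⟩ := exists_coords_at P cK (hcK1 P hP)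
      exact ⟨et, fun _ => het⟩
    · exact ⟨0, fun h => absurd h hP⟩
  choose et het using hetgt
  let V : κ → ∀ P : HeightOneSpectrum (RingOfIntegers k), Set (P.adicCompletion k) := fun l P =>
    if P ∈ T then Wf P (Sum.inr (Sum.inr l))
    else {z | Valued.v (z - algebraMap k _ (et P l)) ≤ exp (-((1 : ℕ) : ℤ))}
  have hc₁ : ∀ l, ∃ c₁ : k, (∀ P ∈ T ∪ D, algebraMap k (P.adicCompletion k) c₁ ∈ V l P) ∧
      (∀ w, algebraMap k w.Completion c₁ ∈ Wi w (Sum.inr (Sum.inr l))) ∧
      ∀ P ∉ T ∪ D, P ≠ v₀ → P.valuation k c₁ ≤ 1 := fun l =>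
    strong_approx v₀ (T ∪ D) (by simp [hv₀, D])
      (fun P => if P ∈ T then uf P (Sum.inr (Sum.inr l)) else algebraMap k _ (et P l)) (V l)
      (fun P _ => by
        simp only [V]
        split_ifs
        · exact hWf P _
        · exact ball_mem_nhds _ 1)
      (fun w => ui w (Sum.inr (Sum.inr l))) _ fun w => hWi w _
  choose c₁ hc₁f hc₁i hc₁int using hc₁
  have hc₁D : ∀ P ∈ D, ∀ l, P.valuation k (c₁ l - et P l) ≤ exp (-((1 : ℕ) : ℤ)) := fun P hP l => by
    have h1 := hc₁f l P (Finset.mem_union_right _ hP)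
    have hPT : P ∉ T := fun h => (Finset.mem_sdiff.mp hP).2 (Finset.mem_insert_of_mem h)
    simp only [V, if_neg hPT, Set.mem_ofPred_eq, ← map_sub, valued_algebraMap] at h1
    exact h1
  have hc₁int' : ∀ l, ∀ P ∉ T, P ≠ v₀ → P.valuation k (c₁ l) ≤ 1 := fun l P hP hP0 => by
    by_cases hD : P ∈ D
    · rw [← sub_add_cancel (c₁ l) (et P l)]
      exact Valuation.map_add_le _ ((hc₁D P hD l).trans hexp1.le) ((het P hD).1 l)
    · exact hc₁int l P (by simp [hP, hD]) hP0
  let C := ∑ l, algebraMap k K (c₁ l) * integralBasis K l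
  let x := θ + algebraMap K L C
  have hx : x = ∑ i, algebraMap k L (Sum.elim c (Sum.elim (fun _ => G) c₁) i) * ω i := by
    simp only [x, C, hθdef, y, hG, Fintype.sum_sum_type, map_sum, map_mul, ← IsScalarTower.algebraMap_apply k K L]
    simp [ω]
    ring
  have htmul : ∀ (F : Type u) [Field F] [Algebra k F],
      ∑ i, algebraMap k F (Sum.elim c (Sum.elim (fun _ => G) c₁) i) • ((1 : F) ⊗ₜ[k] ω i) = (1 : F) ⊗ₜ[k] x := by
    intro F _ _
    rw [hx, TensorProduct.tmul_sum]
    refine Finset.sum_congr rfl fun i _ => ?_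
    rw [algebraMap_smul, TensorProduct.smul_tmul', TensorProduct.smul_tmul, Algebra.smul_def]
  refine ⟨x, fun P hP => ?_, fun w => ?_, fun W hW => ?_⟩
  · rw [← htmul]
    refine hnf P hP _ ?_
    rintro (i | i | l)
    · exact hcf i P hP
    · exact hGf P hP
    · have h1 := hc₁f l P (Finset.mem_union_left _ hP)
      simp only [V, if_pos hP] at h1
      exact h1
  · rw [← htmul]
    refine hni w _ ?_
    rintro (i | i | l)
    · exact hci i w
    · exact hGi w
    · exact hc₁i l w
  · have hval : W.valuation K (Algebra.norm K x) = W.valuation K ((minpoly K θ).eval (-C)) := by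
      show W.valuation K (Algebra.norm K (θ + algebraMap K L C)) = _
      rw [norm_add_algebraMap θ hdeg, map_mul, map_pow, Valuation.map_neg, map_one, one_pow, one_mul]
    rw [hval]
    have hb1 : ∀ l, W.valuation K (integralBasis K l) ≤ 1 := fun l => by
      rw [integralBasis_apply]; exact W.valuation_le_one _
    by_cases hWD : placeUnder k W ∈ D
    · have h1 : W.valuation K (C - cK) < 1 := by
        rw [← (het _ hWD).2, ← Finset.sum_sub_distrib]
        refine Valuation.map_sum_lt _ one_ne_zero fun l _ => ?_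
        rw [← sub_mul, ← map_sub, map_mul]
        exact lt_of_le_of_lt (mul_le_of_le_one_right zero_le (hb1 l))
          (valuation_lift_lt (liesOver_placeUnder W) (lt_of_le_of_lt (hc₁D _ hWD l) hexp1))
      have h2 : W.valuation K (C - r W) < 1 := by
        rw [← sub_add_sub_cancel C cK (r W)]
        exact Valuation.map_add_lt _ h1 (lt_of_le_of_lt (hcK W ((hDK W).mpr hWD)) hexp1)
      have h3 := (hr W hW).2 C h2
      exact ⟨h3.le, Or.inl h3⟩
    · have hnot : W ∉ (finite_valuation_gt a).toFinset ∪ (finite_valuation_gt b).toFinset := fun h =>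
        hWD (Finset.mem_sdiff.mpr ⟨Finset.mem_image_of_mem _ h, hW⟩)
      rw [Finset.mem_union, not_or] at hnot
      have hco : ∀ q : Polynomial K, W ∉ (finite_valuation_gt q).toFinset → ∀ i, W.valuation K (q.coeff i) ≤ 1 :=
        fun q hq i => not_lt.mp fun h => hq (by rw [Set.Finite.mem_toFinset]; exact ⟨i, h⟩)
      have hC : W.valuation K (-C) ≤ 1 := by
        rw [Valuation.map_neg]
        refine Valuation.map_sum_le _ fun l _ => ?_
        rw [map_mul]
        exact mul_le_one₀ (hout W hW _ (hc₁int' l)) zero_le (hb1 l)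
      have hle := valuation_eval_le_one (W.valuation K) _ _ (hθint W hW) hC
      refine ⟨hle, ?_⟩
      rcases hle.lt_or_eq with h | h
      · exact Or.inr (degreeOne_of_lt_one W hprim hab (hθint W hW) (hco a hnot.1) (hco b hnot.2) _ hC h)
      · exact Or.inl h

end Groth.Agent.H23Strong
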