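import Groth.Agent.H23Strong.Tower
import Groth.Agent.H23Strong.BaseNorm
import Groth.Agent.H23Strong.NormUnit

/-! # Locally split values of data admitting affine coordinates -/

set_option autoImplicit false
set_option linter.style.haveILetI false
set_option linter.unusedSectionVars false

universe u v

open IsDedekindDomain NumberField WithZero TensorProduct
open scoped Topology

namespace Groth.Agent.H23Strong

section local_

variable {k K : Type u} [Field k] [NumberField k] [Field K] [NumberField K] [Algebra k K]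

theorem valuation_lift_le_exp {W : HeightOneSpectrum (RingOfIntegers K)} {v : HeightOneSpectrum (RingOfIntegers k)}
    (h : W.asIdeal.LiesOver v.asIdeal) (e : ℕ) {z : k} (hz : v.valuation k z ≤ exp (-(e : ℤ))) :
    W.valuation K (algebraMap k K z) ≤ exp (-(e : ℤ)) := by
  obtain ⟨π, hπ⟩ := v.valuation_exists_uniformizer k
  have hπ0 : π ≠ 0 := fun h => by rw [h, map_zero] at hπ; exact exp_ne_zero hπ.symm
  have h1 : v.valuation k (z / π ^ e) ≤ 1 := by
    rw [map_div₀, map_pow, hπ, ← exp_nsmul, div_le_iff₀ exp_pos, one_mul]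
    simpa using hz
  have h2 : W.valuation K (algebraMap k K π) ≤ exp (-1 : ℤ) := by
    have h3 := valuation_lift_lt h (show v.valuation k π < 1 by rw [hπ, ← exp_zero, exp_lt_exp]; omega)
    by_cases h0 : W.valuation K (algebraMap k K π) = 0
    · rw [h0]; exact zero_le
    · rw [← exp_log h0] at h3 ⊢
      rw [← exp_zero, exp_lt_exp] at h3
      rw [exp_le_exp]; omega
  rw [show z = z / π ^ e * π ^ e by rw [div_mul_cancel₀ _ (pow_ne_zero _ hπ0)], map_mul, map_mul, map_pow, map_pow]
  refine (mul_le_of_le_one_left zero_le ((valuation_lift_le_iff h _).mpr h1)).trans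
    ((pow_le_pow_left₀ zero_le h2 e).trans ?_)
  rw [← exp_nsmul]
  simp

/-- Functionals are bounded on elements small above a place. -/
theorem exists_functional_bound (v : HeightOneSpectrum (RingOfIntegers k)) (φ : K →ₗ[k] k) :
    ∃ N : ℕ, ∀ z : K, (∀ W : HeightOneSpectrum (RingOfIntegers K), W.asIdeal.LiesOver v.asIdeal →
      W.valuation K z ≤ exp (-(N : ℤ))) → v.valuation k (φ z) ≤ 1 := by
  classical
  obtain ⟨π, hπ⟩ := v.valuation_exists_uniformizer k
  let m : ℕ := ∑ l, (log (v.valuation k (φ (integralBasis K l)))).natAbs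
  set D : k := π ^ m with hD
  have hDv : v.valuation k D = exp (-(m : ℤ)) := by rw [hD, map_pow, hπ, ← exp_nsmul]; simp
  have hD0 : D ≠ 0 := fun h => by rw [h, map_zero] at hDv; exact exp_ne_zero hDv.symm
  let N : ℕ := ∑ W ∈ (finite_above (K := K) v).toFinset, (log (W.valuation K (algebraMap k K D))).natAbs
  refine ⟨N, fun z hz => ?_⟩
  have hDK : algebraMap k K D ≠ 0 := (map_ne_zero_iff _ (algebraMap k K).injective).mpr hD0
  obtain ⟨e, he, hze⟩ := exists_coords_at v (z / algebraMap k K D) fun W hW => by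
    have hne : W.valuation K (algebraMap k K D) ≠ 0 := (Valuation.ne_zero_iff _).mpr hDK
    rw [map_div₀, div_le_iff₀ (zero_lt_iff.mpr hne), one_mul]
    refine (hz W hW).trans ?_
    have h1 : (log (W.valuation K (algebraMap k K D))).natAbs ≤ N :=
      Finset.single_le_sum (f := fun W : HeightOneSpectrum (RingOfIntegers K) => (log (W.valuation K (algebraMap k K D))).natAbs) (fun _ _ => Nat.zero_le _)
        ((Set.Finite.mem_toFinset _).mpr (placeUnder_eq hW))
    rw [← exp_log hne, exp_le_exp]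
    omega
  have h2 : φ z = ∑ l, e l * (D * φ (integralBasis K l)) := by
    rw [show z = D • (z / algebraMap k K D) by rw [Algebra.smul_def, mul_div_cancel₀ _ hDK], ← hze, map_smul,
      map_sum, Finset.smul_sum]
    refine Finset.sum_congr rfl fun l _ => ?_
    rw [← Algebra.smul_def, map_smul, smul_eq_mul, smul_eq_mul]
    ring
  rw [h2]
  refine Valuation.map_sum_le _ fun l _ => ?_
  rw [map_mul, map_mul, hDv]
  refine mul_le_one₀ (he l) zero_le ?_
  by_cases h0 : v.valuation k (φ (integralBasis K l)) = 0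
  · rw [h0, mul_zero]; exact zero_le
  · rw [← exp_log h0, ← exp_add, ← exp_zero, exp_le_exp]
    have h1 : (log (v.valuation k (φ (integralBasis K l)))).natAbs ≤ m :=
      Finset.single_le_sum (f := fun l => (log (v.valuation k (φ (integralBasis K l)))).natAbs)
        (fun _ _ => Nat.zero_le _) (Finset.mem_univ l)
    omega

theorem finite_functional_bad (φ : K →ₗ[k] k) :
    {v : HeightOneSpectrum (RingOfIntegers k) | ∃ z : K, (∀ W : HeightOneSpectrum (RingOfIntegers K),
      W.asIdeal.LiesOver v.asIdeal → W.valuation K z ≤ 1) ∧ 1 < v.valuation k (φ z)}.Finite := by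
  refine (Set.finite_iUnion fun l => HeightOneSpectrum.Support.finite (RingOfIntegers k) (φ (integralBasis K l))).subset
    fun v ⟨z, hz, hlt⟩ => ?_
  by_contra hv
  simp only [Set.mem_iUnion, not_exists] at hv
  obtain ⟨e, he, rfl⟩ := exists_coords_at v z hz
  refine absurd hlt (not_lt.mpr ?_)
  rw [map_sum]
  refine Valuation.map_sum_le _ fun l _ => ?_
  rw [← Algebra.smul_def, map_smul, smul_eq_mul, map_mul]
  exact mul_le_one₀ (he l) zero_le (not_lt.mp (hv l))

variable {L : Type u} [Field L] [NumberField L] [Algebra K L]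

/-- Units at the places above `v` are simultaneously close to norms. -/
theorem exists_norm_near_above (v : HeightOneSpectrum (RingOfIntegers k)) (b : K) (N : ℕ)
    (hb : ∀ W : HeightOneSpectrum (RingOfIntegers K), W.asIdeal.LiesOver v.asIdeal → W.valuation K b = 1)
    (hram : ∀ W : HeightOneSpectrum (RingOfIntegers K), W.asIdeal.LiesOver v.asIdeal →
      ∀ Q : Ideal (RingOfIntegers L), Q.IsPrime → Q.LiesOver W.asIdeal → Q.ramificationIdx (RingOfIntegers K) = 1) :
    ∃ x : L, ∀ W : HeightOneSpectrum (RingOfIntegers K), W.asIdeal.LiesOver v.asIdeal →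
      W.valuation K (Algebra.norm K x - b) ≤ exp (-(N : ℤ)) := by
  classical
  let bL := Module.finBasis K L
  have hxW : ∀ W : HeightOneSpectrum (RingOfIntegers K), ∃ (c : Fin (Module.finrank K L) → K)
      (e : Fin (Module.finrank K L) → ℕ), W.asIdeal.LiesOver v.asIdeal → ∀ c' : Fin (Module.finrank K L) → K,
        (∀ i, W.valuation K (c' i - c i) ≤ exp (-(e i : ℤ))) →
          W.valuation K (Algebra.norm K (∑ i, algebraMap K L (c' i) * bL i) - b) ≤ exp (-(N : ℤ)) := by
    intro W
    by_cases hW : W.asIdeal.LiesOver v.asIdeal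
    · obtain ⟨x, -, hx⟩ := NormUnit.exists_norm_near W L (hram W hW) b (hb W hW) N
      let F := W.adicCompletion K
      have hcont := continuous_norm_comb (k := K) (F := F) (fun i => bL i)
      have hnorm : ∀ c : Fin (Module.finrank K L) → K,
          Algebra.norm F (∑ i, algebraMap K F (c i) • ((1 : F) ⊗ₜ[K] bL i)) =
            algebraMap K F (Algebra.norm K (∑ i, algebraMap K L (c i) * bL i)) := fun c => by
        rw [← norm_one_tmul F (∑ i, algebraMap K L (c i) * bL i), TensorProduct.tmul_sum]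
        congr 1
        refine Finset.sum_congr rfl fun i _ => ?_
        rw [algebraMap_smul, TensorProduct.smul_tmul', TensorProduct.smul_tmul, Algebra.smul_def]
      let c : Fin (Module.finrank K L) → K := fun i => bL.repr x i
      have hc : ∑ i, algebraMap K L (c i) * bL i = x := by
        conv_rhs => rw [← bL.sum_repr x]
        exact Finset.sum_congr rfl fun i _ => (Algebra.smul_def _ _).symm
      have hmem : {y : F | Valued.v (y - algebraMap K F b) ≤ exp (-(N : ℤ))} ∈
          nhds (Algebra.norm F (∑ i, algebraMap K F (c i) • ((1 : F) ⊗ₜ[K] bL i))) := by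
        obtain ⟨e, he⟩ : ∃ e : ℕ, e = N := ⟨N, rfl⟩
        refine Filter.mem_of_superset (ball_mem_nhds _ N) fun y hy => ?_
        rw [Set.mem_ofPred_eq, hnorm, hc] at hy
        rw [Set.mem_ofPred_eq, ← sub_add_sub_cancel y (algebraMap K F (Algebra.norm K x)) (algebraMap K F b)]
        refine Valuation.map_add_le _ hy ?_
        rw [← map_sub, valued_algebraMap]
        exact hx
      have h1 := hcont.continuousAt.preimage_mem_nhds hmem
      rw [nhds_pi, Filter.mem_pi'] at h1
      obtain ⟨I, S, hS, hsub⟩ := h1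
      choose e he using fun i => exists_ball (hS i)
      refine ⟨c, e, fun _ c' hc' => ?_⟩
      have h2 := hsub (show (fun i => algebraMap K F (c' i)) ∈ Set.pi (I : Set _) S from fun i _ => he i _ (by
        rw [← map_sub, valued_algebraMap]; exact hc' i))
      rw [Set.mem_preimage, Set.mem_ofPred_eq, hnorm, ← map_sub, valued_algebraMap] at h2
      exact h2
    · exact ⟨0, 0, fun h => absurd h hW⟩
  choose c e hce using hxW
  have hex := fun i => exists_finite_approx (K := K) (finite_above (K := K) v).toFinset (fun W => c W i) fun W => e W i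
  choose c' hc' _ using hex
  exact ⟨∑ i, algebraMap K L (c' i) * bL i, fun W hW =>
    hce W hW c' fun i => hc' i W ((Set.Finite.mem_toFinset _).mpr (placeUnder_eq hW))⟩

end local_

variable {k : Type u} [Field k] [NumberField k] {ι : Type} [Fintype ι]
variable (kf Lf : ι → Type u) [∀ i, Field (kf i)] [∀ i, NumberField (kf i)] [∀ i, Algebra k (kf i)]
  [∀ i, Field (Lf i)] [∀ i, NumberField (Lf i)] [∀ i, Algebra (kf i) (Lf i)]
  [∀ i, Algebra k (Lf i)] [∀ i, IsScalarTower k (kf i) (Lf i)]

/-- The normalized norms. -/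
noncomputable def zLoc (F : Type v) [Field F] [Algebra k F] (b : ∀ i, kf i) (u : ∀ i, F ⊗[k] Lf i) (i : ι) :
    F ⊗[k] kf i :=
  letI := towerAlg k (kf i) (Lf i) F
  (1 : F) ⊗ₜ[k] (b i)⁻¹ * Algebra.norm (F ⊗[k] kf i) (u i)

open scoped Classical in
/-- The linear functional on the normalized norms. -/
noncomputable def funLoc (F : Type v) [Field F] [Algebra k F] (φ : (∀ i, kf i) →ₗ[k] k) (b : ∀ i, kf i)
    (u : ∀ i, F ⊗[k] Lf i) : F :=
  ∑ i, extFun F (φ.comp (LinearMap.single k kf i)) (zLoc kf Lf F b u i)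

theorem funLoc_global (F : Type v) [Field F] [Algebra k F] (φ : (∀ i, kf i) →ₗ[k] k) (b : ∀ i, kf i)
    (x : ∀ i, Lf i) :
    funLoc kf Lf F φ b (fun i => (1 : F) ⊗ₜ[k] x i) =
      algebraMap k F (φ fun i => (b i)⁻¹ * Algebra.norm (kf i) (x i)) := by
  classical
  rw [funLoc, ← Finset.univ_sum_single (fun i => (b i)⁻¹ * Algebra.norm (kf i) (x i)), map_sum, map_sum]
  refine Finset.sum_congr rfl fun i _ => ?_
  rw [zLoc, norm_tower_tmul, Algebra.TensorProduct.tmul_mul_tmul, one_mul, extFun_one_tmul]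
  simp only [LinearMap.comp_apply, LinearMap.coe_single]

theorem funLoc_target (F : Type v) [Field F] [Algebra k F] (φ : (∀ i, kf i) →ₗ[k] k) (a b : ∀ i, kf i)
    (hb : ∀ i, b i ≠ 0) (t : F) (u : ∀ i, F ⊗[k] Lf i)
    (hu : ∀ i, letI := towerAlg k (kf i) (Lf i) F
      Algebra.norm (F ⊗[k] kf i) (u i) = (1 : F) ⊗ₜ[k] b i * (t ⊗ₜ[k] (1 : kf i) - (1 : F) ⊗ₜ[k] a i)) :
    funLoc kf Lf F φ b u = t * algebraMap k F (φ 1) - algebraMap k F (φ a) := by
  classical
  rw [show (1 : ∀ i, kf i) = ∑ i, Pi.single i (1 : kf i) from (Finset.univ_sum_single (1 : ∀ i, kf i)).symm]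
  conv_rhs => arg 2; rw [← Finset.univ_sum_single a]
  rw [funLoc, map_sum φ, map_sum φ, map_sum, map_sum, Finset.mul_sum, ← Finset.sum_sub_distrib]
  refine Finset.sum_congr rfl fun i _ => ?_
  rw [zLoc, hu i, ← mul_assoc, Algebra.TensorProduct.tmul_mul_tmul, one_mul, inv_mul_cancel₀ (hb i),
    ← Algebra.TensorProduct.one_def, one_mul, map_sub, extFun_tmul_one, extFun_one_tmul]
  simp only [LinearMap.comp_apply, LinearMap.coe_single]

theorem continuous_zLoc (F : Type v) [Field F] [Algebra k F] [TopologicalSpace F] [IsTopologicalRing F]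
    (b : ∀ i, kf i) (i : ι) :
    letI : ∀ j, TopologicalSpace (F ⊗[k] Lf j) := fun _ => moduleTopology F _
    letI : TopologicalSpace (F ⊗[k] kf i) := moduleTopology F _
    Continuous fun u : ∀ j, F ⊗[k] Lf j => zLoc kf Lf F b u i := by
  letI : ∀ j, TopologicalSpace (F ⊗[k] Lf j) := fun _ => moduleTopology F _
  letI : TopologicalSpace (F ⊗[k] kf i) := moduleTopology F _
  haveI : IsModuleTopology F (F ⊗[k] kf i) := ⟨rfl⟩
  haveI : IsModuleTopology F (F ⊗[k] Lf i) := ⟨rfl⟩
  haveI : FiniteDimensional (kf i) (Lf i) := inferInstance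
  haveI : IsTopologicalRing (F ⊗[k] kf i) := IsModuleTopology.isTopologicalRing F _
  exact continuous_const.mul ((continuous_norm_tower (k := k) (K := kf i) (L := Lf i) F).comp (continuous_apply i))

theorem continuous_extFun {K : Type u} [Field K] [Algebra k K] (F : Type v) [Field F] [Algebra k F]
    [TopologicalSpace F] [IsTopologicalRing F] (φ : K →ₗ[k] k) :
    letI : TopologicalSpace (F ⊗[k] K) := moduleTopology F _
    Continuous (extFun F φ) := by
  letI : TopologicalSpace (F ⊗[k] K) := moduleTopology F _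
  haveI : IsModuleTopology F (F ⊗[k] K) := ⟨rfl⟩
  exact IsModuleTopology.continuous_of_linearMap _

theorem continuous_funLoc (F : Type v) [Field F] [Algebra k F] [TopologicalSpace F] [IsTopologicalRing F]
    (φ : (∀ i, kf i) →ₗ[k] k) (b : ∀ i, kf i) :
    letI : ∀ j, TopologicalSpace (F ⊗[k] Lf j) := fun _ => moduleTopology F _
    Continuous fun u : ∀ j, F ⊗[k] Lf j => funLoc kf Lf F φ b u := by
  letI : ∀ j, TopologicalSpace (F ⊗[k] Lf j) := fun _ => moduleTopology F _
  refine continuous_finsetSum _ fun i _ => ?_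
  letI : TopologicalSpace (F ⊗[k] kf i) := moduleTopology F _
  exact Continuous.comp (continuous_extFun F _) (continuous_zLoc kf Lf F b i)

/-- A neighbourhood in each factor inside a neighbourhood in the product. -/
theorem exists_pi_nhds {J : Type*} {X : J → Type*} [∀ j, TopologicalSpace (X j)] {x : ∀ j, X j} {S : Set (∀ j, X j)}
    (h : S ∈ nhds x) : ∃ U : ∀ j, Set (X j), (∀ j, U j ∈ nhds (x j)) ∧ ∀ y, (∀ j, y j ∈ U j) → y ∈ S := by
  rw [nhds_pi, Filter.mem_pi'] at h
  obtain ⟨I, U, hU, hsub⟩ := h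
  exact ⟨U, hU, fun y hy => hsub fun i _ => hy i⟩

theorem exists_value (a b : ∀ i, kf i) (hb : ∀ i, b i ≠ 0)
    (Xl Yl : (∀ i, kf i) →ₗ[k] k) (x₀ : k) (y₀ : ℤ)
    (hid : ∀ (z : ∀ i, kf i) i,
      z i = algebraMap k (kf i) (Xl z + x₀) + algebraMap k (kf i) (Yl z + y₀) * a i)
    (hX1 : Xl 1 = 1) (hXa : Xl a = x₀) (hY1 : Yl 1 = 0) (hYa : Yl a = 1 + y₀)
    (Sf : Finset (HeightOneSpectrum (RingOfIntegers k))) (Si : Finset (InfinitePlace k))
    (hSb : ∀ i, ∀ W : HeightOneSpectrum (RingOfIntegers (kf i)), placeUnder k W ∉ Sf → W.valuation (kf i) (b i) = 1)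
    (hSram : ∀ i, ∀ W : HeightOneSpectrum (RingOfIntegers (kf i)), placeUnder k W ∉ Sf →
      ∀ Q : Ideal (RingOfIntegers (Lf i)), Q.IsPrime → Q.LiesOver W.asIdeal →
        Q.ramificationIdx (RingOfIntegers (kf i)) = 1)
    (tf : (v : HeightOneSpectrum (RingOfIntegers k)) → v.adicCompletion k) (ti : (w : InfinitePlace k) → w.Completion)
    (htf : ∀ i, ∀ v ∈ Sf,
      letI := towerAlg k (kf i) (Lf i) (v.adicCompletion k)
      ∃ x : (v.adicCompletion k) ⊗[k] Lf i, Algebra.norm ((v.adicCompletion k) ⊗[k] kf i) x =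
        (1 : v.adicCompletion k) ⊗ₜ[k] b i * (tf v ⊗ₜ[k] (1 : kf i) - (1 : v.adicCompletion k) ⊗ₜ[k] a i))
    (hti : ∀ i, ∀ w ∈ Si,
      letI := towerAlg k (kf i) (Lf i) w.Completion
      ∃ x : w.Completion ⊗[k] Lf i, Algebra.norm (w.Completion ⊗[k] kf i) x =
        (1 : w.Completion) ⊗ₜ[k] b i * (ti w ⊗ₜ[k] (1 : kf i) - (1 : w.Completion) ⊗ₜ[k] a i))
    (Uf : (v : HeightOneSpectrum (RingOfIntegers k)) → Set (v.adicCompletion k))
    (hUf : ∀ v ∈ Sf, Uf v ∈ nhds (tf v))
    (Ui : (w : InfinitePlace k) → Set w.Completion) (hUi : ∀ w ∈ Si, Ui w ∈ nhds (ti w)) :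
    ∃ t₀ : k, (∀ v ∈ Sf, algebraMap k (v.adicCompletion k) t₀ ∈ Uf v) ∧
      (∀ w ∈ Si, algebraMap k w.Completion t₀ ∈ Ui w) ∧
      ∀ i, ∀ W : HeightOneSpectrum (RingOfIntegers (kf i)),
        W.valuation (kf i) (algebraMap k (kf i) t₀ - a i) < 1 →
          placeUnder k W ∈ Sf ∨ Nonempty (Lf i →ₐ[kf i] W.adicCompletion (kf i)) := by
  classical
  obtain ⟨v₀, hv₀, hv₀s⟩ := exists_split_places k kf Lf Sf
  obtain ⟨v₁, hv₁, hv₁s⟩ := exists_split_places k kf Lf (insert v₀ Sf)
  rw [Finset.mem_insert, not_or] at hv₁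
  -- an element with nonvanishing denominator
  have hxs : ∃ xs : ∀ i, Lf i, Yl (fun i => (b i)⁻¹ * Algebra.norm (kf i) (xs i)) + (y₀ : k) ≠ 0 := by
    by_contra hc
    push Not at hc
    have hzero : ∀ i, Yl.comp (LinearMap.single k kf i) = 0 := by
      intro i
      let m := Module.finrank (kf i) (Lf i)
      let P : Polynomial k := ∑ j ∈ Finset.range (m + 1), Polynomial.monomial j
        (Yl (Pi.single i ((b i)⁻¹ * (a i ^ (m - j) * (m.choose j : kf i)))))
      let C₀ : k := Yl (Function.update (fun j => (b j)⁻¹) i 0) + y₀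
      have hP : ∀ r : ℕ, (P + Polynomial.C C₀).eval (r : k) = 0 := by
        intro r
        have h1 := hc (Function.update (fun _ => 1) i (algebraMap (kf i) (Lf i) ((r : kf i) + a i)))
        have h2 : (fun j => (b j)⁻¹ * Algebra.norm (kf j)
            (Function.update (fun _ => 1) i (algebraMap (kf i) (Lf i) ((r : kf i) + a i)) j)) =
            Function.update (fun j => (b j)⁻¹) i 0 + Pi.single i ((b i)⁻¹ * ((r : kf i) + a i) ^ m) := by
          funext j
          by_cases hj : j = i
          · subst hj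
            simp only [Function.update_self, Algebra.norm_algebraMap, Pi.add_apply, Pi.single_eq_same, zero_add, m]
          · simp [Function.update_of_ne hj, Pi.single_eq_of_ne hj]
        rw [h2, map_add] at h1
        rw [← h1]
        simp only [P, C₀, Polynomial.eval_add, Polynomial.eval_C, Polynomial.eval_finsetSum, Polynomial.eval_monomial]
        rw [add_pow, Finset.mul_sum, ← LinearMap.coe_single (R := k), map_sum, map_sum]
        have : ∀ j, Yl (LinearMap.single k kf i ((b i)⁻¹ * (a i ^ (m - j) * (m.choose j : kf i)))) * (r : k) ^ j =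
            Yl (LinearMap.single k kf i ((b i)⁻¹ * ((r : kf i) ^ j * a i ^ (m - j) * (m.choose j : kf i)))) := fun j => by
          rw [show (b i)⁻¹ * ((r : kf i) ^ j * a i ^ (m - j) * (m.choose j : kf i)) =
            ((r : k) ^ j) • ((b i)⁻¹ * (a i ^ (m - j) * (m.choose j : kf i))) by
              rw [Algebra.smul_def, map_pow, map_natCast]; ring, map_smul, map_smul, smul_eq_mul, mul_comm]
        simp only [this]
        ring
      have hP0 : P + Polynomial.C C₀ = 0 := Polynomial.eq_zero_of_infinite_isRoot _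
        ((Set.infinite_range_of_injective Nat.cast_injective).mono (by rintro _ ⟨r, rfl⟩; exact hP r))
      have hm : 0 < m := Module.finrank_pos
      have hco : ∀ j, 0 < j → j ≤ m → Yl (Pi.single i ((b i)⁻¹ * (a i ^ (m - j) * (m.choose j : kf i)))) = 0 := by
        intro j hj hjm
        have h1 := congrArg (fun q : Polynomial k => q.coeff j) hP0
        simp only [P, Polynomial.coeff_add, Polynomial.finsetSum_coeff, Polynomial.coeff_monomial,
          Polynomial.coeff_C, if_neg hj.ne', Polynomial.coeff_zero, add_zero, Finset.sum_ite_eq', Finset.mem_range,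
          Nat.lt_succ_iff.mpr hjm, if_true] at h1
        exact h1
      have hspan : ∀ z : kf i, ∃ p q : k, z = algebraMap k (kf i) p + algebraMap k (kf i) q * a i := by
        intro z
        exact ⟨Xl (Function.update 0 i z) + x₀, Yl (Function.update 0 i z) + y₀, by
          conv_lhs => rw [← Function.update_self i z (0 : ∀ j, kf j)]
          exact hid _ i⟩
      have htop := hco m hm le_rfl
      simp only [Nat.sub_self, pow_zero, one_mul, Nat.choose_self, Nat.cast_one, mul_one] at htop
      have hC0 : C₀ = 0 := by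
        have h1 := hc fun _ => 1
        have h2 : (fun j => (b j)⁻¹ * Algebra.norm (kf j) (1 : Lf j)) =
            Function.update (fun j => (b j)⁻¹) i 0 + Pi.single i (b i)⁻¹ := by
          funext j
          by_cases hj : j = i
          · subst hj; simp
          · simp [Function.update_of_ne hj, Pi.single_eq_of_ne hj]
        rw [h2, map_add, htop, add_zero] at h1
        exact h1
      have hsub : Yl (Pi.single i ((b i)⁻¹ * a i)) = 0 := by
        by_cases hm1 : m = 1
        · have h0 := congrArg (fun q : Polynomial k => q.coeff 0) hP0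
          simp only [P, hC0, Polynomial.coeff_add, Polynomial.finsetSum_coeff, Polynomial.coeff_monomial,
            map_zero, Polynomial.coeff_zero, add_zero, Finset.sum_ite_eq', Finset.mem_range, Nat.succ_pos,
            if_true] at h0
          simpa [hm1] using h0
        · have h0 := hco (m - 1) (by omega) (Nat.sub_le _ _)
          rw [show m - (m - 1) = 1 by omega, pow_one, ← Nat.choose_symm (show m - 1 ≤ m from Nat.sub_le _ _),
            show m - (m - 1) = 1 by omega, Nat.choose_one_right, ← mul_assoc,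
            show (b i)⁻¹ * a i * (m : kf i) = (m : k) • ((b i)⁻¹ * a i) by
              rw [Algebra.smul_def, map_natCast, mul_comm], Pi.single_smul, map_smul, smul_eq_zero] at h0
          exact h0.resolve_left (Nat.cast_ne_zero.mpr hm.ne')
      refine LinearMap.ext fun z => ?_
      obtain ⟨p, q, hpq⟩ := hspan (b i * z)
      have hz : z = p • (b i)⁻¹ + q • ((b i)⁻¹ * a i) := by
        rw [Algebra.smul_def, Algebra.smul_def, ← mul_assoc, mul_comm (algebraMap k (kf i) q), mul_assoc,
          mul_comm (algebraMap k (kf i) p), ← mul_add, ← hpq, inv_mul_cancel_left₀ (hb i)]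
      rw [hz, LinearMap.zero_apply, map_add, map_smul, map_smul, LinearMap.comp_apply, LinearMap.comp_apply,
        LinearMap.coe_single, htop, hsub, smul_zero, smul_zero, add_zero]
    have hY0 : Yl = 0 := LinearMap.pi_ext' fun i => by rw [hzero i, LinearMap.zero_comp]
    have h1 := hc fun _ => 1
    rw [hY0, LinearMap.zero_apply, zero_add] at h1
    rw [hY0, LinearMap.zero_apply, h1] at hYa
    simp at hYa
  obtain ⟨xs, hxs⟩ := hxs
  -- places needing a prescribed congruence
  let small : Finset (HeightOneSpectrum (RingOfIntegers k)) := Finset.univ.biUnion fun i =>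
    (finite_le_absNorm (k := kf i) (Module.finrank (kf i) (Lf i))).toFinset.image (placeUnder k)
  let badY : Finset (HeightOneSpectrum (RingOfIntegers k)) :=
    Finset.univ.biUnion fun i => (finite_functional_bad (Yl.comp (LinearMap.single k kf i))).toFinset
  let aux := (small ∪ badY) \ insert v₀ (insert v₁ Sf)
  let T := Sf ∪ insert v₁ aux
  have hv₀T : v₀ ∉ T := by simp [T, aux, hv₀, Ne.symm hv₁.1]
  have hy₀ : ∀ v : HeightOneSpectrum (RingOfIntegers k), v.valuation k (y₀ : k) ≤ 1 := fun v => by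
    have := v.valuation_le_one (K := k) ((y₀ : ℤ) : RingOfIntegers k)
    simpa using this
  -- neighbourhoods at the finite places
  have hloc : ∀ v : HeightOneSpectrum (RingOfIntegers k), ∃ U : ∀ i, Set ((v.adicCompletion k) ⊗[k] Lf i), v ∈ T →
      (∀ i, ∃ x, U i ∈ @nhds _ (moduleTopology (v.adicCompletion k) _) x) ∧
      ∀ x : ∀ i, Lf i, (∀ i, (1 : v.adicCompletion k) ⊗ₜ[k] x i ∈ U i) →
        let Y := Yl (fun i => (b i)⁻¹ * Algebra.norm (kf i) (x i)) + (y₀ : k)
        (v ∈ Sf → Y ≠ 0 ∧ algebraMap k (v.adicCompletion k)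
          (-(Xl (fun i => (b i)⁻¹ * Algebra.norm (kf i) (x i)) + x₀) / Y) ∈ Uf v) ∧
        (v = v₁ → Y ≠ 0) ∧
        (v ∈ aux → v.valuation k Y ≤ 1 ∧ ∀ i, ∀ W : HeightOneSpectrum (RingOfIntegers (kf i)),
          placeUnder k W = v → W.valuation (kf i) (Algebra.norm (kf i) (x i)) = 1) := by
    intro v
    by_cases hv : v ∈ T
    swap
    · exact ⟨fun _ => Set.univ, fun h => absurd h hv⟩
    let F := v.adicCompletion k
    letI : ∀ j, TopologicalSpace (F ⊗[k] Lf j) := fun _ => moduleTopology F _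
    let Yf := fun u : ∀ j, F ⊗[k] Lf j => funLoc kf Lf F Yl b u + algebraMap k F (y₀ : k)
    let Xf := fun u : ∀ j, F ⊗[k] Lf j => funLoc kf Lf F Xl b u + algebraMap k F x₀
    have hYc : Continuous Yf := (continuous_funLoc kf Lf F Yl b).add continuous_const
    have hXc : Continuous Xf := (continuous_funLoc kf Lf F Xl b).add continuous_const
    have hYg : ∀ x : ∀ i, Lf i, Yf (fun i => (1 : F) ⊗ₜ[k] x i) =
        algebraMap k F (Yl (fun i => (b i)⁻¹ * Algebra.norm (kf i) (x i)) + (y₀ : k)) := fun x => by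
      rw [map_add]; exact congrArg (· + _) (funLoc_global kf Lf F Yl b x)
    have hXg : ∀ x : ∀ i, Lf i, Xf (fun i => (1 : F) ⊗ₜ[k] x i) =
        algebraMap k F (Xl (fun i => (b i)⁻¹ * Algebra.norm (kf i) (x i)) + x₀) := fun x => by
      rw [map_add]; exact congrArg (· + _) (funLoc_global kf Lf F Xl b x)
    by_cases hvS : v ∈ Sf
    · choose u hu using fun i => htf i v hvS
      have hYu : Yf u = -1 := by
        show funLoc kf Lf F Yl b u + _ = _
        rw [funLoc_target kf Lf F Yl a b hb (tf v) u hu, hY1, hYa, map_zero, mul_zero, map_add, map_one]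
        ring
      have hXu : Xf u = tf v := by
        show funLoc kf Lf F Xl b u + _ = _
        rw [funLoc_target kf Lf F Xl a b hb (tf v) u hu, hX1, hXa, map_one]
        ring
      have hne : Yf u ≠ 0 := by rw [hYu]; exact neg_ne_zero.mpr one_ne_zero
      have hq : ContinuousAt (fun w => -(Xf w) / Yf w) u := (hXc.neg.continuousAt).div hYc.continuousAt hne
      have hS : {w | Yf w ≠ 0} ∩ (fun w => -(Xf w) / Yf w) ⁻¹' Uf v ∈ nhds u :=
        Filter.inter_mem (hYc.continuousAt.preimage_mem_nhds (isOpen_ne.mem_nhds hne))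
          (hq.preimage_mem_nhds (by rw [hXu, hYu, neg_div_neg_eq, div_one]; exact hUf v hvS))
      obtain ⟨U, hU, hUs⟩ := exists_pi_nhds hS
      refine ⟨U, fun _ => ⟨fun i => ⟨u i, hU i⟩, fun x hx => ⟨fun _ => ?_, fun h => absurd (h ▸ hvS) hv₁.2,
        fun h => absurd (Finset.mem_sdiff.mp h).2 (by simp [hvS])⟩⟩⟩
      obtain ⟨h1, h2⟩ := hUs _ hx
      rw [Set.mem_preimage, hXg, hYg, ← map_neg, ← map_div₀] at h2
      rw [Set.mem_ofPred_eq, hYg, _root_.map_ne_zero] at h1
      exact ⟨h1, h2⟩
    by_cases hv1 : v = v₁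
    · have hne : Yf (fun i => (1 : F) ⊗ₜ[k] xs i) ≠ 0 := by rw [hYg, _root_.map_ne_zero]; exact hxs
      obtain ⟨U, hU, hUs⟩ := exists_pi_nhds (hYc.continuousAt.preimage_mem_nhds (isOpen_ne.mem_nhds hne))
      refine ⟨U, fun _ => ⟨fun i => ⟨_, hU i⟩, fun x hx => ⟨fun h => absurd h hvS, fun _ => ?_,
        fun h => absurd (Finset.mem_sdiff.mp h).2 (by simp [hv1])⟩⟩⟩
      have h1 : Yf (fun i => (1 : F) ⊗ₜ[k] x i) ≠ 0 := hUs _ hx
      rwa [hYg, _root_.map_ne_zero] at h1
    have hvaux : v ∈ aux := ((Finset.mem_union.mp hv).resolve_left hvS |> Finset.mem_insert.mp).resolve_left hv1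
    have hWS : ∀ i, ∀ W : HeightOneSpectrum (RingOfIntegers (kf i)), W.asIdeal.LiesOver v.asIdeal →
        placeUnder k W ∉ Sf := fun i W hW => by rw [placeUnder_eq hW]; exact hvS
    choose N₀ hN₀ using fun i => exists_functional_bound v (Yl.comp (LinearMap.single k kf i))
    let N : ℕ := (∑ i, N₀ i) + 1
    choose xn hxn using fun i => exists_norm_near_above v (b i) N (fun W hW => hSb i W (hWS i W hW))
      (fun W hW => hSram i W (hWS i W hW)) (L := Lf i)
    let β := fun i => Module.finBasis k (kf i)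
    have he : ∀ i, ∀ l, ∃ e : ℕ, ∀ W : HeightOneSpectrum (RingOfIntegers (kf i)), W.asIdeal.LiesOver v.asIdeal →
        exp (-(e : ℤ)) * W.valuation (kf i) (β i l) ≤ exp (-(N : ℤ)) := fun i l => by
      refine ⟨N + ∑ W ∈ (finite_above (K := kf i) v).toFinset, (log (W.valuation (kf i) (β i l))).natAbs, fun W hW => ?_⟩
      have hne : W.valuation (kf i) (β i l) ≠ 0 := (Valuation.ne_zero_iff _).mpr ((β i).ne_zero l)
      have h1 : (log (W.valuation (kf i) (β i l))).natAbs ≤
          ∑ W ∈ (finite_above (K := kf i) v).toFinset, (log (W.valuation (kf i) (β i l))).natAbs :=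
        Finset.single_le_sum (f := fun W : HeightOneSpectrum (RingOfIntegers (kf i)) => (log (W.valuation (kf i) (β i l))).natAbs) (fun _ _ => Nat.zero_le _)
          ((Set.Finite.mem_toFinset _).mpr (placeUnder_eq hW))
      rw [← exp_log hne, ← exp_add, exp_le_exp]
      omega
    choose e he using he
    let coord : ∀ i, ∀ l, (∀ j, F ⊗[k] Lf j) → F := fun i l w => extFun F ((β i).coord l) (zLoc kf Lf F b w i)
    have hS : (⋂ i, ⋂ l, {w | Valued.v (coord i l w - coord i l (fun j => (1 : F) ⊗ₜ[k] xn j)) ≤ exp (-(e i l : ℤ))}) ∈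
        nhds (fun j => (1 : F) ⊗ₜ[k] xn j) := by
      refine Filter.iInter_mem.mpr fun i => Filter.iInter_mem.mpr fun l => ?_
      have hc : Continuous (coord i l) := by
        letI : TopologicalSpace (F ⊗[k] kf i) := moduleTopology F _
        exact (continuous_extFun F _).comp (continuous_zLoc kf Lf F b i)
      exact hc.continuousAt.preimage_mem_nhds (ball_mem_nhds _ (e i l))
    obtain ⟨U, hU, hUs⟩ := exists_pi_nhds hS
    refine ⟨U, fun _ => ⟨fun i => ⟨_, hU i⟩, fun x hx => ⟨fun h => absurd h hvS, fun h => absurd h hv1, fun _ => ?_⟩⟩⟩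
    have h1 := hUs _ hx
    simp only [Set.mem_iInter, Set.mem_ofPred_eq, coord, zLoc, norm_tower_tmul,
      Algebra.TensorProduct.tmul_mul_tmul, one_mul, extFun_one_tmul, ← map_sub, Module.Basis.coord_apply] at h1
    have hdiff : ∀ i, ∀ W : HeightOneSpectrum (RingOfIntegers (kf i)), W.asIdeal.LiesOver v.asIdeal →
        W.valuation (kf i) ((b i)⁻¹ * Algebra.norm (kf i) (x i) - 1) ≤ exp (-(N : ℤ)) := by
      intro i W hW
      have hb1 := hSb i W (hWS i W hW)
      have h2 : W.valuation (kf i) ((b i)⁻¹ * Algebra.norm (kf i) (xn i) - 1) ≤ exp (-(N : ℤ)) := by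
        rw [show (b i)⁻¹ * Algebra.norm (kf i) (xn i) - 1 = (b i)⁻¹ * (Algebra.norm (kf i) (xn i) - b i) by
          rw [mul_sub, inv_mul_cancel₀ (hb i)], map_mul, map_inv₀, hb1, inv_one, one_mul]
        exact hxn i W hW
      rw [← sub_add_sub_cancel _ ((b i)⁻¹ * Algebra.norm (kf i) (xn i)) 1]
      refine Valuation.map_add_le _ ?_ h2
      rw [← (β i).sum_repr ((b i)⁻¹ * Algebra.norm (kf i) (x i) - (b i)⁻¹ * Algebra.norm (kf i) (xn i))]
      refine Valuation.map_sum_le _ fun l _ => ?_
      rw [Algebra.smul_def, map_mul, map_sub ((β i).repr), Finsupp.sub_apply]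
      exact (mul_le_mul_left (valuation_lift_le_exp hW (e i l) ((valued_algebraMap _).symm.trans_le (h1 i l))) _).trans
        (he i l W hW)
    refine ⟨Valuation.map_add_le _ ?_ (hy₀ v), fun i W hW => ?_⟩
    · rw [show (fun i => (b i)⁻¹ * Algebra.norm (kf i) (x i)) =
        (fun i => (b i)⁻¹ * Algebra.norm (kf i) (x i) - 1) + 1 from funext fun i => (sub_add_cancel _ _).symm,
        map_add, hY1, add_zero, ← Finset.univ_sum_single (fun i => (b i)⁻¹ * Algebra.norm (kf i) (x i) - 1), map_sum]
      refine Valuation.map_sum_le _ fun i _ => hN₀ i _ fun W hW => (hdiff i W hW).trans (exp_le_exp.mpr ?_)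
      have : N₀ i ≤ ∑ j, N₀ j := Finset.single_le_sum (fun _ _ => Nat.zero_le _) (Finset.mem_univ i)
      simp only [N]
      omega
    · have hWv : W.asIdeal.LiesOver v.asIdeal := hW ▸ liesOver_placeUnder W
      have hlt : W.valuation (kf i) ((b i)⁻¹ * Algebra.norm (kf i) (x i) - 1) < 1 :=
        lt_of_le_of_lt (hdiff i W hWv) (by rw [← exp_zero, exp_lt_exp]; simp only [N]; omega)
      have h3 := Valuation.map_eq_of_sub_lt (W.valuation (kf i)) (x := 1) (y := (b i)⁻¹ * Algebra.norm (kf i) (x i))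
        (by rwa [map_one])
      rwa [map_one, map_mul, map_inv₀, hSb i W (hWS i W hWv), inv_one, one_mul] at h3
  choose U hU using hloc
  -- neighbourhoods at the infinite places
  have hlocI : ∀ w : InfinitePlace k, ∃ U : ∀ i, Set (w.Completion ⊗[k] Lf i),
      (∀ i, ∃ x, U i ∈ @nhds _ (moduleTopology w.Completion _) x) ∧
      (w ∈ Si → ∀ x : ∀ i, Lf i, (∀ i, (1 : w.Completion) ⊗ₜ[k] x i ∈ U i) →
        algebraMap k w.Completion (-(Xl (fun i => (b i)⁻¹ * Algebra.norm (kf i) (x i)) + x₀) /
          (Yl (fun i => (b i)⁻¹ * Algebra.norm (kf i) (x i)) + (y₀ : k))) ∈ Ui w) := by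
    intro w
    by_cases hw : w ∈ Si
    swap
    · exact ⟨fun _ => Set.univ, fun i => ⟨0, Filter.univ_mem⟩, fun h => absurd h hw⟩
    let F := w.Completion
    letI : ∀ j, TopologicalSpace (F ⊗[k] Lf j) := fun _ => moduleTopology F _
    let Yf := fun u : ∀ j, F ⊗[k] Lf j => funLoc kf Lf F Yl b u + algebraMap k F (y₀ : k)
    let Xf := fun u : ∀ j, F ⊗[k] Lf j => funLoc kf Lf F Xl b u + algebraMap k F x₀
    have hYc : Continuous Yf := (continuous_funLoc kf Lf F Yl b).add continuous_const
    have hXc : Continuous Xf := (continuous_funLoc kf Lf F Xl b).add continuous_const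
    choose u hu using fun i => hti i w hw
    have hYu : Yf u = -1 := by
      show funLoc kf Lf F Yl b u + _ = _
      rw [funLoc_target kf Lf F Yl a b hb (ti w) u hu, hY1, hYa, map_zero, mul_zero, map_add, map_one]
      ring
    have hXu : Xf u = ti w := by
      show funLoc kf Lf F Xl b u + _ = _
      rw [funLoc_target kf Lf F Xl a b hb (ti w) u hu, hX1, hXa, map_one]
      ring
    have hne : Yf u ≠ 0 := by rw [hYu]; exact neg_ne_zero.mpr one_ne_zero
    have hq : ContinuousAt (fun z => -(Xf z) / Yf z) u := (hXc.neg.continuousAt).div hYc.continuousAt hne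
    obtain ⟨U, hU, hUs⟩ := exists_pi_nhds
      (hq.preimage_mem_nhds (show Ui w ∈ nhds (-(Xf u) / Yf u) by rw [hXu, hYu, neg_div_neg_eq, div_one]; exact hUi w hw))
    refine ⟨U, fun i => ⟨u i, hU i⟩, fun _ x hx => ?_⟩
    have h2 := hUs _ hx
    simp only [Set.mem_preimage, Xf, Yf, funLoc_global, ← map_add, ← map_neg, ← map_div₀] at h2
    exact h2
  choose UI hUIn hUI using hlocI
  have happ : ∀ i, ∃ x : Lf i, (∀ v ∈ T, (1 : v.adicCompletion k) ⊗ₜ[k] x ∈ U v i) ∧
      (∀ w : InfinitePlace k, (1 : w.Completion) ⊗ₜ[k] x ∈ UI w i) ∧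
      ∀ W : HeightOneSpectrum (RingOfIntegers (kf i)), placeUnder k W ∉ insert v₀ T →
        W.valuation (kf i) (Algebra.norm (kf i) x) ≤ 1 ∧
          (W.valuation (kf i) (Algebra.norm (kf i) x) = 1 ∨ Nonempty (Lf i →ₐ[kf i] W.adicCompletion (kf i))) :=
    fun i => exists_tower_approx v₀ T hv₀T
      (fun W hW => by
        have hmem : placeUnder k W ∈ small := Finset.mem_biUnion.mpr
          ⟨i, Finset.mem_univ i, Finset.mem_image_of_mem _ ((Set.Finite.mem_toFinset _).mpr hW)⟩
        simp only [T, aux, Finset.mem_insert, Finset.mem_union, Finset.mem_sdiff]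
        tauto)
      (fun v => U v i) (fun v hv => (hU v hv).1 i) (fun w => UI w i) (fun w => hUIn w i)
  choose x hxf hxi hxout using happ
  set z : ∀ i, kf i := fun i => (b i)⁻¹ * Algebra.norm (kf i) (x i) with hz
  set Y := Yl z + (y₀ : k) with hYdef
  set t₀ := -(Xl z + x₀) / Y with ht₀
  have hY0 : Y ≠ 0 :=
    ((hU v₁ (by simp [T])).2 x (fun i => hxf i v₁ (by simp [T]))).2.1 rfl
  refine ⟨t₀, fun v hv => ?_, fun w hw => hUI w hw x fun i => hxi i w, fun i W hW => ?_⟩
  · have hvT : v ∈ T := Finset.mem_union_left _ hv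
    exact (((hU v hvT).2 x fun i => hxf i v hvT).1 hv).2
  by_cases hS : placeUnder k W ∈ Sf
  · exact Or.inl hS
  refine Or.inr ?_
  by_cases h0 : placeUnder k W = v₀
  · exact hv₀s i W (h0 ▸ liesOver_placeUnder W)
  by_cases h1 : placeUnder k W = v₁
  · exact hv₁s i W (h1 ▸ liesOver_placeUnder W)
  have hYv : W.valuation (kf i) (algebraMap k (kf i) Y) ≠ 0 :=
    (Valuation.ne_zero_iff _).mpr ((map_ne_zero_iff _ (algebraMap k (kf i)).injective).mpr hY0)
  have hkey : algebraMap k (kf i) t₀ - a i = -(z i) / algebraMap k (kf i) Y := by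
    rw [hid z i, ht₀, map_div₀, map_neg, ← hYdef, eq_div_iff ((Valuation.ne_zero_iff _).mp hYv), sub_mul,
      div_mul_cancel₀ _ ((Valuation.ne_zero_iff _).mp hYv)]
    ring
  rw [hkey, map_div₀, Valuation.map_neg, div_lt_one₀ (zero_lt_iff.mpr hYv), map_mul, map_inv₀, hSb i W hS,
    inv_one, one_mul] at hW
  by_cases hA : placeUnder k W ∈ aux
  · exfalso
    have hvT : placeUnder k W ∈ T := Finset.mem_union_right _ (Finset.mem_insert_of_mem hA)
    obtain ⟨h2, h3⟩ := ((hU _ hvT).2 x fun i => hxf i _ hvT).2.2 hA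
    rw [h3 i W rfl] at hW
    exact absurd ((valuation_lift_le_iff (liesOver_placeUnder W) Y).mpr h2) (not_le.mpr hW)
  have hnot : placeUnder k W ∉ insert v₀ T := by simp [T, hS, h0, h1, hA]
  obtain ⟨h4, h5⟩ := hxout i W hnot
  refine h5.resolve_left fun h6 => ?_
  rw [h6] at hW
  refine absurd ((valuation_lift_le_iff (liesOver_placeUnder W) Y).mpr (Valuation.map_add_le _ ?_ (hy₀ _))) (not_le.mpr hW)
  have hbad : ∀ j, placeUnder k W ∉ (finite_functional_bad (Yl.comp (LinearMap.single k kf j))).toFinset := fun j h =>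
    hA (Finset.mem_sdiff.mpr ⟨Finset.mem_union_right _ (Finset.mem_biUnion.mpr ⟨j, Finset.mem_univ j, h⟩),
      by simp [hS, h0, h1]⟩)
  rw [← Finset.univ_sum_single z, map_sum]
  refine Valuation.map_sum_le _ fun j _ => not_lt.mp fun hlt => hbad j ((Set.Finite.mem_toFinset _).mpr ⟨z j, ?_, hlt⟩)
  intro W' hW'
  have hW'2 : placeUnder k W' ∉ insert v₀ T := by rw [placeUnder_eq hW']; exact hnot
  rw [hz, map_mul, map_inv₀, hSb j W' (by rw [placeUnder_eq hW']; exact hS), inv_one, one_mul]
  exact (hxout j W' hW'2).1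

end Groth.Agent.H23Strong
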